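import Cfsg.Agent.Lib.Blocks.Pairs.Bridge

/-!
# Principal blocks and augmentation
-/

set_option autoImplicit false

namespace CfsgLib.Blocks.Pairs

open Cfsg CfsgLib.Blocks
open scoped Classical

universe u

variable {G : Type u} [Group G] [Finite G] {M : Ideal AlgInt} [M.IsMaximal]

lemma aug_up {F : Type*} [Field F] (H : Subgroup G) (a : MonoidAlgebra F H) :
    aug (up H a) = aug a := by
  haveI := Fintype.ofFinite G
  haveI := Fintype.ofFinite H
  rw [aug_eq, aug_eq, ← Finset.sum_subset
    (Finset.subset_univ ((Finset.univ : Finset H).map ⟨Subtype.val, Subtype.val_injective⟩))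
    (fun x _ hx => ?_), Finset.sum_map]
  · exact Finset.sum_congr rfl fun x _ => coeff_up_coe H a x
  · exact up_suppIn H a x fun h => hx (Finset.mem_map.mpr ⟨⟨x, h⟩, Finset.mem_univ _, rfl⟩)

theorem aug_ebar_eq_one_iff {B : Set (IrrCharacter G)} (hB : IsPBlock M B) :
    aug (ebar hB) = 1 ↔ B = principalBlock M G := by
  constructor
  · intro h
    exact ebar_injective hB isPBlock_principalBlock ((existsUnique_principal (⊤ : Subgroup G)).unique
      ⟨isBlockIdem_ebar hB, h⟩ ⟨isBlockIdem_ebar _, aug_ebar_principal⟩)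
  · rintro rfl; exact aug_ebar_principal

theorem aug_eIn_eq_one_iff {H : Subgroup G} {e : Set (IrrCharacter H)} (he : IsPBlock M e) :
    aug (eIn he) = 1 ↔ e = principalBlock M H := by
  rw [eIn, aug_up, aug_ebar_eq_one_iff]

theorem isPair_of_isBrauerPair {p : ℕ} {P : Subgroup G}
    {e : Set (IrrCharacter (Subgroup.centralizer (P : Set G)))} (h : IsBrauerPair p M P e) :
    IsPair p P (eIn h.2) :=
  isPair_eIn h.1 h.2

end CfsgLib.Blocks.Pairs
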