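import Cfsg.Agent.Lib.Blocks.Osima
import Cfsg.Agent.Lib.Char.Twist

/-!
# Transport of blocks along isomorphisms
-/

set_option autoImplicit false

namespace CfsgLib.Blocks.Pairs

open Cfsg CfsgLib.Blocks
open scoped ComplexConjugate Classical

universe u w

variable {H : Type u} [Group H] {K : Type w} [Group K]

/-- Pull back of an irreducible character along an isomorphism. -/
noncomputable def pull (φ : K ≃* H) (χ : IrrCharacter H) : IrrCharacter K :=
  ⟨(χ : H → ℂ) ∘ φ, CfsgLib.CharTwist.isIrrCharacter_comp_equiv χ.2 φ⟩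

@[simp] theorem pull_apply (φ : K ≃* H) (χ : IrrCharacter H) (k : K) :
    (pull φ χ : K → ℂ) k = (χ : H → ℂ) (φ k) := rfl

theorem pull_symm_pull (φ : K ≃* H) (χ : IrrCharacter H) : pull φ.symm (pull φ χ) = χ :=
  Subtype.ext (funext fun h => by simp)

theorem pull_pull_symm (φ : K ≃* H) (χ : IrrCharacter K) : pull φ (pull φ.symm χ) = χ :=
  Subtype.ext (funext fun h => by simp)

theorem pull_injective (φ : K ≃* H) : Function.Injective (pull φ) :=
  fun a b h => by rw [← pull_symm_pull φ a, h, pull_symm_pull]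

theorem index_centralizer_equiv (φ : K ≃* H) (k : K) :
    (Subgroup.centralizer ({k} : Set K)).index = (Subgroup.centralizer ({φ k} : Set H)).index := by
  have h : (Subgroup.centralizer ({φ k} : Set H)).comap φ.toMonoidHom =
      Subgroup.centralizer ({k} : Set K) := by
    ext x
    simp only [Subgroup.mem_comap, MulEquiv.coe_toMonoidHom, Subgroup.mem_centralizer_singleton_iff]
    rw [← map_mul, ← map_mul, φ.injective.eq_iff]
  rw [← h, Subgroup.index_comap_of_surjective _ φ.surjective]

theorem centralChar_pull (φ : K ≃* H) (χ : IrrCharacter H) (k : K) :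
    centralChar (pull φ χ : K → ℂ) k = centralChar (χ : H → ℂ) (φ k) := by
  simp [centralChar, index_centralizer_equiv φ k]

theorem sameBlock_pull_iff (M : Ideal AlgInt) (φ : K ≃* H) (χ ψ : IrrCharacter H) :
    SameBlock M (pull φ χ : K → ℂ) (pull φ ψ : K → ℂ) ↔ SameBlock M (χ : H → ℂ) (ψ : H → ℂ) := by
  constructor
  · intro h g
    have h1 := h (φ.symm g)
    rwa [centralChar_pull, centralChar_pull, φ.apply_symm_apply] at h1
  · intro h k
    rw [centralChar_pull, centralChar_pull]
    exact h (φ k)

/-- The image of a set of characters. -/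
noncomputable def pullSet (φ : K ≃* H) (e : Set (IrrCharacter H)) : Set (IrrCharacter K) :=
  pull φ '' e

theorem isPBlock_pullSet {M : Ideal AlgInt} (φ : K ≃* H) {e : Set (IrrCharacter H)}
    (he : IsPBlock M e) : IsPBlock M (pullSet φ e) := by
  obtain ⟨χ, rfl⟩ := he
  refine ⟨pull φ χ, ?_⟩
  ext ψ
  constructor
  · rintro ⟨θ, hθ, rfl⟩
    exact (sameBlock_pull_iff M φ χ θ).mpr hθ
  · intro hψ
    refine ⟨pull φ.symm ψ, ?_, pull_pull_symm φ ψ⟩
    show SameBlock M _ _
    rw [← sameBlock_pull_iff M φ χ, pull_pull_symm]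
    exact hψ

theorem blockCoeff_pullSet [Finite H] (φ : K ≃* H) (e : Set (IrrCharacter H)) (k : K) :
    blockCoeff (pullSet φ e) k = blockCoeff e (φ k) := by
  unfold blockCoeff pullSet
  rw [Nat.card_congr φ.toEquiv, finsum_mem_image (pull_injective φ).injOn]
  simp

end CfsgLib.Blocks.Pairs
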