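import Cfsg.Agent.Lib.Blocks.Pairs.Lift

/-!
# Blocks and normal `p`-subgroups: the exact idempotent formula
-/

set_option autoImplicit false

namespace CfsgLib.Blocks.Pairs

open Cfsg CfsgLib.Blocks
open scoped Classical

universe u

variable {G : Type u} [Group G] [Finite G]

/-- The sum over the cosets of a stabilizer. -/
noncomputable def cosetOrbitSum {F : Type*} [Field F] (T : Subgroup G) [Fintype (G ⧸ T)]
    (a : MonoidAlgebra F G) : MonoidAlgebra F G :=
  ∑ q : G ⧸ T, conjA (Quotient.out q) a

theorem cosetOrbitSum_inCenter {F : Type*} [Field F] {T : Subgroup G} [Fintype (G ⧸ T)] {a : MonoidAlgebra F G}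
    (ha : ∀ t ∈ T, conjA t a = a) : InCenter (⊤ : Subgroup G) (cosetOrbitSum T a) := by
  refine ⟨fun x hx => absurd trivial hx, conjFixed_iff.mpr fun u _ => ?_⟩
  unfold cosetOrbitSum
  rw [conjA_sum]
  refine Fintype.sum_equiv (MulAction.toPerm u) _ _ fun q => ?_
  rw [conjA_conjA]
  show _ = conjA (Quotient.out (u • q)) a
  have h1 : (QuotientGroup.mk (u * Quotient.out q) : G ⧸ T) = u • q := by
    conv_rhs => rw [← Quotient.out_eq q]
    rfl
  obtain ⟨t, ht⟩ := QuotientGroup.mk_out_eq_mul T (u * Quotient.out q)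
  rw [h1] at ht
  rw [ht, ← conjA_conjA _ (t : G), ha t t.2]

variable {p : ℕ} [Fact p.Prime] {M : Ideal AlgInt} [M.IsMaximal]

/-- The exact idempotent of a block is the sum of the conjugates of the exact idempotent of a
block of the centralizer of a normal `p`-subgroup. -/
theorem exact_eq_cosetOrbitSum (hM : IsPModular p M) {P : Subgroup G} [hPn : P.Normal]
    {B : Set (IrrCharacter G)} {e : Set (IrrCharacter (Subgroup.centralizer (P : Set G)))}
    (hBe : IsBrauerPairOf p M B P e) {T : Subgroup G}
    [Fintype (G ⧸ T)]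
    (hT : ∀ x : G, x ∈ T ↔ StabilizesBlock (Subgroup.centralizer (P : Set G)) e x) :
    (∀ t ∈ T, conjA t (exactIn (Subgroup.centralizer (P : Set G)) e) =
        exactIn (Subgroup.centralizer (P : Set G)) e) ∧
    exact B = cosetOrbitSum T (exactIn (Subgroup.centralizer (P : Set G)) e) := by
  haveI : CharP (ResField M) p := charP_resField hM.1 (natCast_mem_of_isPModular hM)
  have hB := hBe.2.1
  have he := hBe.1.2
  have hPG : ∀ x : G, x ∈ Subgroup.normalizer (P : Set G) := fun x =>
    (Subgroup.normalizer_eq_top (H := P)).symm ▸ Subgroup.mem_top x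
  have hstab : ∀ x : G, x ∈ T ↔ conjA x (eIn he) = eIn he := fun x =>
    (hT x).trans (stabilizesBlock_iff he (normalizer_le_normalizer_centralizer P (hPG x)))
  have hp := (isBrauerPairOf_iff hM hB he).mp hBe
  set a := exactIn (Subgroup.centralizer (P : Set G)) e with hadef
  have hloc : ∀ x, Loc M (conjA x a) := fun x => (loc_exactIn he).conjA x
  have hrd : ∀ x, rd M (conjA x a) = conjA x (eIn he) := fun x => by
    rw [rd_conjA (loc_exactIn he), rd_exactIn he]
  have hidem : ∀ x, conjA x a * conjA x a = conjA x a := fun x => by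
    rw [← conjA_mul, hadef, exactIn_idem]
  have hconjC : ∀ x : G, conjSub x (Subgroup.centralizer (P : Set G)) = (Subgroup.centralizer (P : Set G)) := fun x =>
    conjSub_eq_of_mem_normalizer (normalizer_le_normalizer_centralizer P (hPG x))
  have hcen : ∀ x, InCenter (Subgroup.centralizer (P : Set G)) (conjA x a) := fun x => by
    have := (inCenter_exactIn (Subgroup.centralizer (P : Set G)) e).conj x
    rwa [hconjC] at this
  have hblk : ∀ x, IsBlockIdem (Subgroup.centralizer (P : Set G)) (conjA x (eIn he)) := fun x =>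
    (isBlockIdem_eIn he).conj_of_normalizer (normalizer_le_normalizer_centralizer P (hPG x))
  have hTfix : ∀ t ∈ T, conjA t a = a := by
    intro t ht
    refine idem_ext (hloc t) (loc_exactIn he) (hidem t) (exactIn_idem (Subgroup.centralizer (P : Set G)) e)
      ((hcen t).mul_comm (inCenter_exactIn (Subgroup.centralizer (P : Set G)) e)) ?_
    rw [hrd, (hstab t).mp ht, rd_exactIn he]
  refine ⟨hTfix, ?_⟩
  have hne : ∀ q r : G ⧸ T, q ≠ r →
      conjA (Quotient.out q) (eIn he) ≠ conjA (Quotient.out r) (eIn he) := by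
    intro q r hqr heq
    apply hqr
    rw [← Quotient.out_eq q, ← Quotient.out_eq r]
    apply QuotientGroup.eq.mpr
    rw [hstab, ← conjA_conjA, ← heq, conjA_inv_conjA]
  have horth : ∀ q r : G ⧸ T, q ≠ r →
      conjA (Quotient.out q) a * conjA (Quotient.out r) a = 0 := by
    intro q r hqr
    have hcomm := (hcen (Quotient.out q)).mul_comm (hcen (Quotient.out r))
    refine idem_ext ((hloc _).mul (hloc _)) Loc.zero ?_ (mul_zero 0)
      (by rw [mul_zero, zero_mul]) ?_
    · calc conjA (Quotient.out q) a * conjA (Quotient.out r) a *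
            (conjA (Quotient.out q) a * conjA (Quotient.out r) a)
          = conjA (Quotient.out q) a * (conjA (Quotient.out r) a * conjA (Quotient.out q) a) *
            conjA (Quotient.out r) a := by simp only [mul_assoc]
        _ = _ := by rw [← hcomm, ← mul_assoc, hidem, mul_assoc, hidem]
    · rw [rd_mul (hloc _) (hloc _), hrd, hrd, rd_zero,
        (hblk _).mul_eq_zero (hblk _) (hne q r hqr)]
  have hsum_idem : cosetOrbitSum T a * cosetOrbitSum T a = cosetOrbitSum T a := by
    unfold cosetOrbitSum
    rw [Finset.sum_mul]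
    refine Finset.sum_congr rfl fun q _ => ?_
    rw [Finset.mul_sum, Finset.sum_eq_single q (fun r _ hr => horth q r (Ne.symm hr)) (by simp),
      hidem]
  refine idem_ext (loc_exact hB) (Loc.sum fun q _ => hloc _) (exact_idem B) hsum_idem
    ((inCenter_exact B).mul_comm (cosetOrbitSum_inCenter hTfix)) ?_
  rw [rd_exact hB]
  show _ = rd M (∑ q : G ⧸ T, conjA (Quotient.out q) a)
  rw [rd_sum fun q => hloc _]
  simp only [hrd]
  change ebar hB = cosetOrbitSum T (eIn he)
  -- modulo `M`, the orbit sum is a central idempotent under the block idempotent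
  have hts : ∀ t ∈ T, conjA t (eIn he) = eIn he := fun t ht => (hstab t).mp ht
  set s := cosetOrbitSum T (eIn he) with hs
  have hsc : InCenter (⊤ : Subgroup G) s := cosetOrbitSum_inCenter hts
  have hEsupp : trunc P (ebar hB) = ebar hB := trunc_eq_self
    (suppIn_centralizer_of_idem_top hp.pair.pgroup (isBlockIdem_ebar hB).mem
      (isBlockIdem_ebar hB).idem)
  have hEe : ebar hB * eIn he = eIn he := by
    have := hp.br
    rwa [hEsupp] at this
  have hEs : ebar hB * s = s := by
    simp only [hs, cosetOrbitSum, Finset.mul_sum]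
    refine Finset.sum_congr rfl fun q _ => ?_
    conv_lhs => rw [← (isBlockIdem_ebar hB).mem.conjA_eq (Quotient.out q), ← conjA_mul, hEe]
  have hsi : s * s = s := by
    simp only [hs, cosetOrbitSum, Finset.sum_mul]
    refine Finset.sum_congr rfl fun q _ => ?_
    rw [Finset.mul_sum, Finset.sum_eq_single q
      (fun r _ hr => (hblk _).mul_eq_zero (hblk _) (hne q r (Ne.symm hr))) (by simp)]
    rw [← conjA_mul, (isBlockIdem_eIn he).idem]
  have hs0 : s ≠ 0 := by
    intro h0
    set q₀ : G ⧸ T := QuotientGroup.mk 1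
    apply (hblk (Quotient.out q₀)).ne_zero
    have h1 : s * conjA (Quotient.out q₀) (eIn he) = conjA (Quotient.out q₀) (eIn he) := by
      simp only [hs, cosetOrbitSum, Finset.sum_mul]
      rw [Finset.sum_eq_single q₀ (fun r _ hr => (hblk _).mul_eq_zero (hblk _) (hne r q₀ hr))
        (by simp), ← conjA_mul, (isBlockIdem_eIn he).idem]
    rw [← h1, h0, zero_mul]
  have hcomm2 := hsc.mul_comm (isBlockIdem_ebar hB).mem
  rcases (isBlockIdem_ebar hB).prim s hsc hsi with h | h
  · rw [← h, hcomm2, hEs]
  · exact absurd (by rw [← hEs, ← hcomm2, h]) hs0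

/-- The formula for the coefficients. -/
theorem blockCoeff_eq_sum_conj (hM : IsPModular p M) [Fintype G] {P : Subgroup G} [P.Normal]
    {B : Set (IrrCharacter G)} {e : Set (IrrCharacter (Subgroup.centralizer (P : Set G)))}
    (hBe : IsBrauerPairOf p M B P e) {T : Subgroup G}
    (hT : ∀ x : G, x ∈ T ↔ StabilizesBlock (Subgroup.centralizer (P : Set G)) e x) (g : G) :
    blockCoeff B g = (Nat.card T : ℂ)⁻¹ *
      ∑ x : G, subgroupBlockCoeff (Subgroup.centralizer (P : Set G)) e (x⁻¹ * g * x) := by
  haveI := Fintype.ofFinite (G ⧸ T)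
  haveI := Fintype.ofFinite T
  obtain ⟨hfix, hB⟩ := exact_eq_cosetOrbitSum hM hBe hT
  set β := subgroupBlockCoeff (Subgroup.centralizer (P : Set G)) e with hβ
  have hval : blockCoeff B g = ∑ q : G ⧸ T, β ((Quotient.out q)⁻¹ * g * Quotient.out q) := by
    have h1 := congrArg (fun z => z.coeff g) hB
    simp only [exact, coeff_ofFun, cosetOrbitSum, MonoidAlgebra.coeff_sum,
      Finsupp.finsetSum_apply] at h1
    rw [h1]
    refine Finset.sum_congr rfl fun q _ => ?_
    simp [exactIn, hβ]
  have hinv : ∀ (x : G) (t : T), β ((x * t)⁻¹ * g * (x * t)) = β (x⁻¹ * g * x) := by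
    intro x t
    have h2 := congrArg (fun z => z.coeff (x⁻¹ * g * x)) (hfix t t.2)
    simp only [exactIn, coeff_conjA, coeff_ofFun] at h2
    refine Eq.trans (congrArg β ?_) h2
    group
  have hsum : ∑ x : G, β (x⁻¹ * g * x) =
      (Nat.card T : ℂ) * ∑ q : G ⧸ T, β ((Quotient.out q)⁻¹ * g * Quotient.out q) := by
    rw [← Fintype.sum_equiv (Subgroup.groupEquivQuotientProdSubgroup (s := T)).symm
      (fun qt : (G ⧸ T) × T => β ((Quotient.out qt.1)⁻¹ * g * Quotient.out qt.1))
      (fun x : G => β (x⁻¹ * g * x)) (fun qt => ?_), Fintype.sum_prod_type, Finset.mul_sum]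
    · refine Finset.sum_congr rfl fun q _ => ?_
      dsimp only
      rw [Finset.sum_const, nsmul_eq_mul, Finset.card_univ, Nat.card_eq_fintype_card]
    · set x := (Subgroup.groupEquivQuotientProdSubgroup (s := T)).symm qt
      obtain ⟨t, ht⟩ := QuotientGroup.mk_out_eq_mul T x
      have hq : (QuotientGroup.mk x : G ⧸ T) = qt.1 := by
        have := congrArg Prod.fst
          ((Subgroup.groupEquivQuotientProdSubgroup (s := T)).apply_symm_apply qt)
        exact this
      rw [hq] at ht
      rw [ht, hinv]
  rw [hsum, ← mul_assoc, inv_mul_cancel₀ (Nat.cast_ne_zero.mpr Nat.card_pos.ne'), one_mul, hval]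

/-- Block idempotents are supported on the centralizer of a normal `p`-subgroup. -/
theorem blockCoeff_eq_zero_of_not_mem_centralizer (hM : IsPModular p M) {P : Subgroup G}
    [hPn : P.Normal] (hP : IsPGroup p P) {B : Set (IrrCharacter G)} (hB : IsPBlock M B) {g : G}
    (hg : g ∉ Subgroup.centralizer (P : Set G)) : blockCoeff B g = 0 := by
  haveI : CharP (ResField M) p := charP_resField hM.1 (natCast_mem_of_isPModular hM)
  haveI := Fintype.ofFinite G
  have hne : trunc P (ebar hB) ≠ 0 := by
    rw [trunc_eq_self (suppIn_centralizer_of_idem_top hP (isBlockIdem_ebar hB).mem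
      (isBlockIdem_ebar hB).idem)]
    exact (isBlockIdem_ebar hB).ne_zero
  obtain ⟨e', he'⟩ := exists_pairOf (isBlockIdem_ebar hB) hP hne
  obtain ⟨e, he, rfl⟩ := exists_eIn_eq he'.pair.block
  have hBe := (isBrauerPairOf_iff hM hB he).mpr he'
  have hPG : ∀ x : G, x ∈ Subgroup.normalizer (P : Set G) := fun x =>
    (Subgroup.normalizer_eq_top (H := P)).symm ▸ Subgroup.mem_top x
  let T : Subgroup G :=
    { carrier := {x | conjA x (eIn he) = eIn he}
      one_mem' := conjA_one _
      mul_mem' := fun {u v} hu hv => by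
        show conjA (u * v) _ = _
        rw [← conjA_conjA, hv, hu]
      inv_mem' := fun {u} hu => by
        show conjA u⁻¹ _ = _
        conv_lhs => rw [← hu, conjA_inv_conjA] }
  rw [blockCoeff_eq_sum_conj hM hBe (T := T) (fun x =>
    (stabilizesBlock_iff he (normalizer_le_normalizer_centralizer P (hPG x))).symm) g,
    Finset.sum_eq_zero fun x _ => ?_, mul_zero]
  have hnot : x⁻¹ * g * x ∉ Subgroup.centralizer (P : Set G) := fun h => hg
    ((conj_mem_centralizer_iff (hPG x⁻¹) g).mp (by simpa using h))
  simp [subgroupBlockCoeff, hnot]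

end CfsgLib.Blocks.Pairs
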