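import Cfsg.Agent.Lib.Blocks.Pairs.Subpair
import Cfsg.Agent.Lib.Blocks.CentSylowLocal

/-!
# Brauer pairs of a block: extension, maximal pairs and their conjugacy, principal pairs
-/

set_option autoImplicit false

namespace CfsgLib.Blocks.Pairs

open CfsgLib.Blocks
open scoped Classical

universe u v

variable {F : Type v} [Field F] {G : Type u} [Group G] [Finite G] {p : ℕ} [Fact p.Prime] [CharP F p]

/-- `(P, e)` is a Brauer pair of the block idempotent `B`. -/
structure PairOf (p : ℕ) (B : MonoidAlgebra F G) (P : Subgroup G) (e : MonoidAlgebra F G) :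
    Prop where
  blockB : IsBlockIdem ⊤ B
  pair : IsPair p P e
  br : trunc P B * e = e

/-- No proper normal extension. -/
def NoExt (p : ℕ) (Q : Subgroup G) (f : MonoidAlgebra F G) : Prop :=
  ∀ R g, NS p Q f R g → R = Q

/-- `D` is, up to conjugation, the largest `p`-subgroup at which the Brauer image of `B` is
nonzero. -/
structure MaxR (p : ℕ) (B : MonoidAlgebra F G) (D : Subgroup G) : Prop where
  pgroup : IsPGroup p D
  ne_zero : trunc D B ≠ 0
  max : ∀ R : Subgroup G, IsPGroup p R → trunc R B ≠ 0 → ∃ x : G, conjSub x R ≤ D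

omit [Fact p.Prime] [CharP F p] in
lemma InCenter.conjFixed_top {a : MonoidAlgebra F G} (h : InCenter (⊤ : Subgroup G) a)
    (P : Subgroup G) : ConjFixed P a :=
  h.fixed.mono le_top

omit [Fact p.Prime] [CharP F p] in
lemma InCenter.conjA_eq {a : MonoidAlgebra F G} (h : InCenter (⊤ : Subgroup G) a) (x : G) :
    conjA x a = a :=
  conjFixed_iff.mp h.fixed x trivial

omit [Fact p.Prime] [CharP F p] in
lemma PairOf.conj {B e : MonoidAlgebra F G} {P : Subgroup G} (h : PairOf p B P e) (x : G) :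
    PairOf p B (conjSub x P) (conjA x e) := by
  refine ⟨h.blockB, h.pair.conj x, ?_⟩
  conv_lhs => rw [← h.blockB.mem.conjA_eq x, trunc_conjA, ← conjA_mul, h.br]

lemma trunc_block_idem {B : MonoidAlgebra F G} (hB : IsBlockIdem ⊤ B) {P : Subgroup G}
    (hP : IsPGroup p P) :
    InCenter (Subgroup.centralizer (P : Set G)) (trunc P B) ∧
      trunc P B * trunc P B = trunc P B :=
  ⟨trunc_inCenter (hB.mem.conjFixed_top _),
    by rw [← trunc_mul hP (hB.mem.conjFixed_top _) (hB.mem.conjFixed_top _), hB.idem]⟩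

/-- Every pair belongs to a unique block. -/
theorem existsUnique_pairOf {P : Subgroup G} {e : MonoidAlgebra F G} (he : IsPair p P e) :
    ∃! B, PairOf p B P e := by
  obtain ⟨B, hB⟩ : ∃ B, PairOf p B P e := by
    by_contra hc
    push Not at hc
    apply he.block.ne_zero
    rw [← one_mul e, ← trunc_one P, ← sum_blks (F := F) (⊤ : Subgroup G), trunc_sum, Finset.sum_mul]
    refine Finset.sum_eq_zero fun B hB => ?_
    rw [mem_blks] at hB
    obtain ⟨h1, h2⟩ := trunc_block_idem hB he.pgroup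
    exact (he.block.prim _ h1 h2).resolve_left fun h => hc B ⟨hB, he, h⟩
  refine ⟨B, hB, fun B' hB' => ?_⟩
  by_contra hne
  apply he.block.ne_zero
  calc e = trunc P B' * (trunc P B * e) := by rw [hB.br, hB'.br]
    _ = trunc P (B' * B) * e := by
        rw [trunc_mul he.pgroup (hB'.blockB.mem.conjFixed_top _) (hB.blockB.mem.conjFixed_top _),
          mul_assoc]
    _ = 0 := by rw [hB'.blockB.mul_eq_zero hB.blockB hne, trunc_zero, zero_mul]

/-- A block with nonzero Brauer image at `P` has a pair at `P`. -/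
theorem exists_pairOf {B : MonoidAlgebra F G} (hB : IsBlockIdem ⊤ B) {P : Subgroup G}
    (hP : IsPGroup p P) (h : trunc P B ≠ 0) : ∃ e, PairOf p B P e := by
  obtain ⟨h1, h2⟩ := trunc_block_idem hB hP
  obtain ⟨e, he, hBe⟩ := exists_blockIdem_mul h1 h2 h
  exact ⟨e, hB, ⟨hP, he⟩, hBe⟩

omit [Fact p.Prime] [CharP F p] in
lemma PairOf.trunc_ne_zero {B e : MonoidAlgebra F G} {P : Subgroup G} (h : PairOf p B P e) :
    trunc P B ≠ 0 := fun h0 => h.pair.block.ne_zero (by rw [← h.br, h0, zero_mul])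

theorem NS.pairOf_right {B f e : MonoidAlgebra F G} {Q P : Subgroup G} (h : NS p Q f P e)
    (hQ : PairOf p B Q f) : PairOf p B P e := by
  refine ⟨hQ.blockB, h.pairP, ?_⟩
  have h1 : ConjFixed P (trunc Q B) := trunc_conjFixed h.norm (hQ.blockB.mem.conjFixed_top _)
  calc trunc P B * e = trunc P (trunc Q B) * (trunc P f * e) := by rw [trunc_trunc h.le, h.br]
    _ = trunc P (trunc Q B * f) * e := by rw [trunc_mul h.pairP.pgroup h1 h.fix, mul_assoc]
    _ = e := by rw [hQ.br, h.br]

theorem NS.pairOf_iff {B f e : MonoidAlgebra F G} {Q P : Subgroup G} (h : NS p Q f P e) :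
    PairOf p B P e ↔ PairOf p B Q f := by
  refine ⟨fun hP => ?_, h.pairOf_right⟩
  obtain ⟨B', hB', -⟩ := existsUnique_pairOf h.pairQ
  rwa [(existsUnique_pairOf h.pairP).unique hP (h.pairOf_right hB')]

theorem SLE.pairOf_iff {B f e : MonoidAlgebra F G} {Q P : Subgroup G} (h : SLE p Q f P e) :
    PairOf p B P e ↔ PairOf p B Q f := by
  suffices ∀ b : Subgroup G × MonoidAlgebra F G,
      Relation.ReflTransGen (fun a b : Subgroup G × MonoidAlgebra F G => NS p a.1 a.2 b.1 b.2)
        (Q, f) b → (PairOf p B b.1 b.2 ↔ PairOf p B Q f) from this _ h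
  intro b hb
  induction hb with
  | refl => rfl
  | tail _ hbc ih => exact hbc.pairOf_iff.trans ih

/-! ### The orbit of a pair without extension -/

/-- The `N_G(Q)`-orbit of `f`. -/
noncomputable def orbit (Q : Subgroup G) (f : MonoidAlgebra F G) :
    Finset (MonoidAlgebra F G) :=
  haveI := Fintype.ofFinite G
  (Finset.univ.filter fun n : G => n ∈ Subgroup.normalizer (Q : Set G)).image fun n => conjA n f

omit [Fact p.Prime] [CharP F p] in
lemma mem_orbit {Q : Subgroup G} {f g : MonoidAlgebra F G} :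
    g ∈ orbit Q f ↔ ∃ n ∈ Subgroup.normalizer (Q : Set G), conjA n f = g := by
  simp [orbit]

omit [Fact p.Prime] [CharP F p] in
lemma conjA_mem_orbit {Q : Subgroup G} {f g : MonoidAlgebra F G} (hg : g ∈ orbit Q f) {u : G}
    (hu : u ∈ Subgroup.normalizer (Q : Set G)) : conjA u g ∈ orbit Q f := by
  obtain ⟨n, hn, rfl⟩ := mem_orbit.mp hg
  exact mem_orbit.mpr ⟨u * n, Subgroup.mul_mem _ hu hn, (conjA_conjA u n f).symm⟩

omit [Fact p.Prime] [CharP F p] in
lemma block_of_mem_orbit {Q : Subgroup G} {f g : MonoidAlgebra F G} (hf : IsPair p Q f)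
    (hg : g ∈ orbit Q f) : IsBlockIdem (Subgroup.centralizer (Q : Set G)) g := by
  obtain ⟨n, hn, rfl⟩ := mem_orbit.mp hg
  exact hf.block.conj_of_normalizer (normalizer_le_normalizer_centralizer Q hn)

/-- The sum of the orbit. -/
noncomputable def orbitSum (Q : Subgroup G) (f : MonoidAlgebra F G) : MonoidAlgebra F G :=
  ∑ g ∈ orbit Q f, g

omit [Fact p.Prime] [CharP F p] in
lemma orbitSum_fixed (Q : Subgroup G) (f : MonoidAlgebra F G) :
    ConjFixed (Subgroup.normalizer (Q : Set G)) (orbitSum Q f) := by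
  rw [conjFixed_iff]
  intro u hu
  rw [orbitSum, conjA_sum]
  refine Finset.sum_bij (fun g _ => conjA u g) (fun g hg => conjA_mem_orbit hg hu)
    (fun a _ b _ h => conjA_injective u h) (fun g hg => ?_) (fun _ _ => rfl)
  exact ⟨conjA u⁻¹ g, conjA_mem_orbit hg (Subgroup.inv_mem _ hu), by
    rw [conjA_conjA, mul_inv_cancel, conjA_one]⟩

omit [Fact p.Prime] [CharP F p] in
lemma orbitSum_inCenter {Q : Subgroup G} {f : MonoidAlgebra F G} (hf : IsPair p Q f) :
    InCenter (Subgroup.centralizer (Q : Set G)) (orbitSum Q f) :=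
  InCenter.sum fun _ hg => (block_of_mem_orbit hf hg).mem

omit [Fact p.Prime] [CharP F p] in
lemma orbitSum_mul {Q : Subgroup G} {f g : MonoidAlgebra F G} (hf : IsPair p Q f)
    (hg : g ∈ orbit Q f) : orbitSum Q f * g = g := by
  rw [orbitSum, Finset.sum_mul, Finset.sum_eq_single g]
  · exact (block_of_mem_orbit hf hg).idem
  · exact fun b hb hne => (block_of_mem_orbit hf hb).mul_eq_zero (block_of_mem_orbit hf hg) hne
  · exact fun h => absurd hg h

omit [Fact p.Prime] [CharP F p] in
lemma self_mem_orbit (Q : Subgroup G) (f : MonoidAlgebra F G) : f ∈ orbit Q f :=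
  mem_orbit.mpr ⟨1, Subgroup.one_mem _, conjA_one f⟩

/-- Without extension the orbit sum is supported on classes of defect `Q`. -/
lemma centSylow_of_orbitSum {Q : Subgroup G} {f : MonoidAlgebra F G} (hf : IsPair p Q f)
    (hmax : NoExt p Q f) {c : G} (hc : (orbitSum Q f).coeff c ≠ 0) : IsCentSylow p c Q := by
  have hcQ : c ∈ Subgroup.centralizer (Q : Set G) := by
    by_contra h
    exact hc ((orbitSum_inCenter hf).supp c h)
  refine isCentSylow_of_local hf.pgroup hcQ fun T hT hle hQT => ?_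
  have hTc : c ∈ Subgroup.centralizer (T : Set G) :=
    le_centralizer_singleton_iff.mp (hle.trans inf_le_left)
  have hTN : T ≤ Subgroup.normalizer (Q : Set G) := hle.trans inf_le_right
  have h1 : trunc T (orbitSum Q f) ≠ 0 := fun h0 => hc (by
    have := congrArg (fun z : MonoidAlgebra F G => z.coeff c) h0
    simpa [hTc] using this)
  rw [orbitSum, trunc_sum_fixed hT _ fun u hu g hg => conjA_mem_orbit hg (hTN hu)] at h1
  obtain ⟨g, hg, hg0⟩ := Finset.exists_ne_zero_of_sum_ne_zero h1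
  obtain ⟨hg, hfix⟩ := Finset.mem_filter.mp hg
  obtain ⟨hi1, hi2⟩ := trunc_idem hT hQT (block_of_mem_orbit hf hg).mem hfix
    (block_of_mem_orbit hf hg).idem
  obtain ⟨e, he, hge⟩ := exists_blockIdem_mul hi1 hi2 hg0
  have hns : NS p Q g T e :=
    ⟨⟨hf.pgroup, block_of_mem_orbit hf hg⟩, ⟨hT, he⟩, hQT, hTN, hfix, hge⟩
  obtain ⟨n, hn, rfl⟩ := mem_orbit.mp hg
  have h2 := hns.conj n⁻¹
  rw [conjA_inv_conjA, conjSub_eq_of_mem_normalizer (Subgroup.inv_mem _ hn)] at h2
  have h3 := hmax _ _ h2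
  apply (Subgroup.eq_of_le_of_card_ge hQT _).symm
  rw [← card_map_conj n⁻¹ T]
  exact (congrArg (fun K : Subgroup G => Nat.card K) h3).le

/-- A central element of the group algebra whose Brauer image is the orbit sum. -/
lemma exists_center_orbitSum {Q : Subgroup G} {f : MonoidAlgebra F G} (hf : IsPair p Q f)
    (hmax : NoExt p Q f) :
    ∃ a, InCenter (⊤ : Subgroup G) a ∧ trunc Q a = orbitSum Q f ∧
      ∀ R : Subgroup G, IsPGroup p R → trunc R a ≠ 0 → ∃ x : G, conjSub x R ≤ Q := by
  set S := orbitSum Q f with hS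
  have key : ∀ c d : G, S.coeff c ≠ 0 → IsCentSylow p d Q → IsConj d c → S.coeff d = S.coeff c := by
    intro c d hc hd hdc
    obtain ⟨n, hn, rfl⟩ := exists_normalizer_conj hd (centSylow_of_orbitSum hf hmax hc) hdc
    exact (orbitSum_fixed Q f n hn d).symm
  let a : MonoidAlgebra F G := ofFun fun g =>
    if h : ∃ c, S.coeff c ≠ 0 ∧ IsConj g c then S.coeff (Classical.choose h) else 0
  have ha : ∀ g c, S.coeff c ≠ 0 → IsConj g c → a.coeff g = S.coeff c := by
    intro g c hc hgc
    have h : ∃ c, S.coeff c ≠ 0 ∧ IsConj g c := ⟨c, hc, hgc⟩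
    simp only [a, coeff_ofFun, dif_pos h]
    obtain ⟨hc', hgc'⟩ := Classical.choose_spec h
    exact key c _ hc (centSylow_of_orbitSum hf hmax hc') (hgc'.symm.trans hgc)
  have ha0 : ∀ g, (∀ c, S.coeff c ≠ 0 → ¬ IsConj g c) → a.coeff g = 0 := by
    intro g hg
    simp only [a, coeff_ofFun]
    rw [dif_neg]
    rintro ⟨c, h1, h2⟩
    exact hg c h1 h2
  refine ⟨a, ⟨fun x hx => absurd trivial hx, fun u _ x => ?_⟩, ?_, fun R hR hne => ?_⟩
  · have hu : IsConj x (u * x * u⁻¹) := isConj_iff.mpr ⟨u, rfl⟩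
    by_cases h : ∃ c, S.coeff c ≠ 0 ∧ IsConj x c
    · obtain ⟨c, hc, hxc⟩ := h
      rw [ha x c hc hxc, ha _ c hc (hu.symm.trans hxc)]
    · push Not at h
      rw [ha0 x h, ha0 _ fun c hc hcon => h c hc (hu.trans hcon)]
  · ext x
    rw [coeff_trunc]
    by_cases hx : x ∈ Subgroup.centralizer (Q : Set G)
    · rw [if_pos hx]
      by_cases h : ∃ c, S.coeff c ≠ 0 ∧ IsConj x c
      · obtain ⟨c, hc, hxc⟩ := h
        rw [ha x c hc hxc]
        have hcs := centSylow_of_orbitSum hf hmax hc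
        refine (key c x hc ?_ hxc).symm
        refine isCentSylow_of_card (le_centralizer_singleton_iff.mpr hx) ?_
        rw [hcs.card, card_centralizer_eq_of_isConj hxc]
      · push Not at h
        rw [ha0 x h]
        by_contra h0
        exact h x (Ne.symm h0) (IsConj.refl x)
    · rw [if_neg hx, (orbitSum_inCenter hf).supp x hx]
  · obtain ⟨c, hc, hac⟩ : ∃ c, c ∈ Subgroup.centralizer (R : Set G) ∧ a.coeff c ≠ 0 := by
      by_contra hh
      push Not at hh
      apply hne
      ext x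
      by_cases hx : x ∈ Subgroup.centralizer (R : Set G) <;> simp [hx, hh x]
    obtain ⟨d, hd, hcd⟩ : ∃ d, S.coeff d ≠ 0 ∧ IsConj c d := by
      by_contra hh
      push Not at hh
      exact hac (ha0 c hh)
    exact (centSylow_of_orbitSum hf hmax hd).exists_conj_ge hR hcd.symm hc

lemma exists_unit_of_noExt {B f : MonoidAlgebra F G} {Q : Subgroup G} (h : PairOf p B Q f)
    (hmax : NoExt p Q f) :
    ∃ a z, InCenter (⊤ : Subgroup G) a ∧ InCenter (⊤ : Subgroup G) z ∧ a * z * B = B ∧
      trunc Q a = orbitSum Q f ∧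
      ∀ R : Subgroup G, IsPGroup p R → trunc R a ≠ 0 → ∃ x : G, conjSub x R ≤ Q := by
  obtain ⟨a, ha, hat, haR⟩ := exists_center_orbitSum h.pair hmax
  have hpow : ∀ n : ℕ, InCenter (⊤ : Subgroup G) (a ^ n) ∧ trunc Q (a ^ n) * f = f := by
    intro n
    induction n with
    | zero => exact ⟨inCenter_one _, by rw [pow_zero, trunc_one, one_mul]⟩
    | succ n ih =>
      refine ⟨by rw [pow_succ]; exact ih.1.mul ha, ?_⟩
      rw [pow_succ, trunc_mul h.pair.pgroup (ih.1.conjFixed_top _) (ha.conjFixed_top _), mul_assoc,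
        hat, orbitSum_mul h.pair (self_mem_orbit Q f), ih.2]
  obtain ⟨z, hz, hzB⟩ := h.blockB.exists_inverse ha fun n h0 => h.pair.block.ne_zero (by
    rw [← (hpow n).2]
    conv_lhs => rw [← h.br]
    rw [← mul_assoc, ← trunc_mul h.pair.pgroup ((hpow n).1.conjFixed_top _)
      (h.blockB.mem.conjFixed_top _), h0, trunc_zero, zero_mul])
  exact ⟨a, z, ha, hz, hzB, hat, haR⟩

/-- A pair without extension sits on the largest subgroup. -/
theorem maxR_of_noExt {B f : MonoidAlgebra F G} {Q : Subgroup G} (h : PairOf p B Q f)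
    (hmax : NoExt p Q f) : MaxR p B Q := by
  refine ⟨h.pair.pgroup, h.trunc_ne_zero, fun R hR hne => ?_⟩
  obtain ⟨a, z, ha, hz, hB, -, haR⟩ := exists_unit_of_noExt h hmax
  apply haR R hR
  intro h0
  apply hne
  rw [← hB, mul_assoc, trunc_mul hR (ha.conjFixed_top _) ((hz.mul h.blockB.mem).conjFixed_top _),
    h0, zero_mul]

/-- The pairs at such a subgroup are conjugate in its normalizer. -/
theorem exists_conj_of_noExt {B f f' : MonoidAlgebra F G} {Q : Subgroup G} (h : PairOf p B Q f)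
    (hmax : NoExt p Q f) (h' : PairOf p B Q f') :
    ∃ n ∈ Subgroup.normalizer (Q : Set G), conjA n f = f' := by
  obtain ⟨a, z, ha, hz, hB, hat, -⟩ := exists_unit_of_noExt h hmax
  rw [← mem_orbit]
  by_contra hne
  apply h'.pair.block.ne_zero
  have h0 : orbitSum Q f * f' = 0 := by
    rw [orbitSum, Finset.sum_mul]
    exact Finset.sum_eq_zero fun g hg =>
      (block_of_mem_orbit h.pair hg).mul_eq_zero h'.pair.block fun he => hne (he ▸ hg)
  have h1 : InCenter (Subgroup.centralizer (Q : Set G)) (trunc Q (z * B)) :=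
    trunc_inCenter ((hz.mul h.blockB.mem).conjFixed_top _)
  calc f' = trunc Q (a * (z * B)) * f' := by rw [← mul_assoc, hB, h'.br]
    _ = orbitSum Q f * (trunc Q (z * B) * f') := by
        rw [trunc_mul h.pair.pgroup (ha.conjFixed_top _) ((hz.mul h.blockB.mem).conjFixed_top _),
          hat, mul_assoc]
    _ = 0 := by rw [h1.mul_comm h'.pair.block.mem, ← mul_assoc, h0, zero_mul]

lemma MaxR.noExt {B f : MonoidAlgebra F G} {Q : Subgroup G} (hQ : MaxR p B Q)
    (h : PairOf p B Q f) : NoExt p Q f := by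
  intro R g hns
  obtain ⟨x, hx⟩ := hQ.max R hns.pairP.pgroup (hns.pairOf_right h).trunc_ne_zero
  exact (Subgroup.eq_of_le_of_card_ge hns.le
    ((card_map_conj x R).symm.le.trans (Subgroup.card_le_of_le hx))).symm

omit [Fact p.Prime] [CharP F p] in
lemma MaxR.conj {B : MonoidAlgebra F G} {D : Subgroup G} (hB : InCenter (⊤ : Subgroup G) B)
    (h : MaxR p B D) (x : G) : MaxR p B (conjSub x D) := by
  refine ⟨h.pgroup.map _, fun h0 => h.ne_zero ?_, fun R hR hne => ?_⟩
  · rw [← hB.conjA_eq x, trunc_conjA] at h0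
    exact conjA_injective x (by rw [h0, conjA_zero])
  · obtain ⟨y, hy⟩ := h.max R hR hne
    exact ⟨x * y, by rw [← conjSub_conjSub]; exact conjSub_mono x hy⟩

omit [Fact p.Prime] [CharP F p] in
lemma MaxR.exists_conj {B : MonoidAlgebra F G} {D E : Subgroup G} (hD : MaxR p B D)
    (hE : MaxR p B E) : ∃ x : G, conjSub x D = E := by
  obtain ⟨x, hx⟩ := hE.max D hD.pgroup hD.ne_zero
  obtain ⟨y, hy⟩ := hD.max E hE.pgroup hE.ne_zero
  exact ⟨x, exists_conj_eq_of_le hx hy⟩

/-- Every pair lies below one without extension. -/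
theorem exists_noExt_sle {B f : MonoidAlgebra F G} {Q : Subgroup G} (h : PairOf p B Q f) :
    ∃ R g, SLE p Q f R g ∧ PairOf p B R g ∧ NoExt p R g := by
  generalize hn : Nat.card G - Nat.card Q = n
  induction n using Nat.strong_induction_on generalizing Q f with
  | _ n ih =>
    by_cases hmax : NoExt p Q f
    · exact ⟨Q, f, SLE.refl _ _, h, hmax⟩
    · simp only [NoExt, not_forall] at hmax
      obtain ⟨R, g, hns, hne⟩ := hmax
      have hlt := card_lt_of_lt (lt_of_le_of_ne hns.le (Ne.symm hne))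
      have hle : Nat.card R ≤ Nat.card G := Subgroup.card_le_card_group R
      obtain ⟨R', g', h1, h2, h3⟩ := ih _ (by omega) (hns.pairOf_right h) rfl
      exact ⟨R', g', hns.sle.trans h1, h2, h3⟩

/-- A largest subgroup exists. -/
theorem exists_maxR {B : MonoidAlgebra F G} (hB : IsBlockIdem ⊤ B) : ∃ D, MaxR p B D := by
  have h1 : trunc (⊥ : Subgroup G) B = B :=
    trunc_eq_self fun x hx => absurd (Subgroup.mem_centralizer_iff.mpr fun u hu => by
      rw [Subgroup.mem_bot.mp hu, one_mul, mul_one]) hx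
  obtain ⟨e, he⟩ := exists_pairOf (p := p) hB IsPGroup.of_bot (by rw [h1]; exact hB.ne_zero)
  obtain ⟨R, g, -, hg, hmax⟩ := exists_noExt_sle he
  exact ⟨R, maxR_of_noExt hg hmax⟩

/-- Brauer pairs are conjugate into a maximal one. -/
theorem exists_conj_sle {B e f : MonoidAlgebra F G} {P Q : Subgroup G} (hP : PairOf p B P e)
    (hmax : NoExt p P e) (hQ : PairOf p B Q f) :
    ∃ x : G, SLE p (conjSub x Q) (conjA x f) P e := by
  obtain ⟨R, g, hle, hg, hgmax⟩ := exists_noExt_sle hQ
  obtain ⟨y, hy⟩ := (maxR_of_noExt hg hgmax).exists_conj (maxR_of_noExt hP hmax)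
  have hg' := hg.conj y
  rw [hy] at hg'
  obtain ⟨n, hn, hne⟩ := exists_conj_of_noExt hP hmax hg'
  have h2 := hle.conj (n⁻¹ * y)
  rw [← conjSub_conjSub _ _ R, hy, conjSub_eq_of_mem_normalizer (Subgroup.inv_mem _ hn),
    ← conjA_conjA _ _ g, ← hne, conjA_inv_conjA] at h2
  exact ⟨n⁻¹ * y, h2⟩

/-- No extension means maximal for inclusion. -/
theorem noExt_iff_maximal {B f : MonoidAlgebra F G} {Q : Subgroup G} (h : PairOf p B Q f) :
    NoExt p Q f ↔ ∀ R g, PairOf p B R g → SLE p Q f R g → R = Q := by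
  refine ⟨fun hmax R g hg hle => ?_, fun hall R g hns => hall R g (hns.pairOf_right h) hns.sle⟩
  by_contra hne
  obtain ⟨R', g', hlt, hns, -⟩ := hle.exists_head (Ne.symm hne)
  exact hlt.ne (hmax R' g' hns).symm

/-! ### Augmentation and principal pairs -/

/-- The sum of the coefficients. -/
noncomputable def aug (a : MonoidAlgebra F G) : F :=
  haveI := Fintype.ofFinite G
  ∑ x : G, a.coeff x

omit [Fact p.Prime] [CharP F p] in
lemma aug_eq [Fintype G] (a : MonoidAlgebra F G) : aug a = ∑ x : G, a.coeff x := by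
  unfold aug; convert rfl

omit [Fact p.Prime] [CharP F p] in
lemma aug_mul (a b : MonoidAlgebra F G) : aug (a * b) = aug a * aug b := by
  haveI := Fintype.ofFinite G
  simp only [aug_eq, coeff_mul_group, Finset.sum_mul_sum]
  rw [Finset.sum_comm]
  refine Finset.sum_congr rfl fun x _ => ?_
  exact Equiv.sum_comp (Equiv.mulLeft x⁻¹) (fun y => a.coeff x * b.coeff y)

omit [Fact p.Prime] [CharP F p] in
lemma aug_one : aug (1 : MonoidAlgebra F G) = 1 := by
  haveI := Fintype.ofFinite G
  rw [aug_eq, Finset.sum_eq_single 1]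
  · simp [MonoidAlgebra.one_def]
  · intro x _ hx; simp [MonoidAlgebra.one_def, Finsupp.single_eq_of_ne hx]
  · simp

omit [Fact p.Prime] [CharP F p] in
lemma aug_zero : aug (0 : MonoidAlgebra F G) = 0 := by
  simp [aug]

omit [Fact p.Prime] [CharP F p] in
lemma aug_conjA (x : G) (a : MonoidAlgebra F G) : aug (conjA x a) = aug a := by
  haveI := Fintype.ofFinite G
  simp only [aug_eq, coeff_conjA]
  exact Fintype.sum_equiv (MulAut.conj x⁻¹).toEquiv _ _ fun y => by simp

lemma aug_trunc {P : Subgroup G} (hP : IsPGroup p P) {a : MonoidAlgebra F G}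
    (ha : ConjFixed P a) : aug (trunc P a) = aug a := by
  haveI := Fintype.ofFinite G
  letI : MulAction P G :=
    MulAction.compHom G ((ConjAct.toConjAct : G ≃* ConjAct G).toMonoidHom.comp P.subtype)
  have hsm : ∀ (u : P) (x : G), u • x = (u : G) * x * (u : G)⁻¹ := fun u x =>
    ConjAct.smul_def (ConjAct.toConjAct (u : G)) x
  simp only [aug_eq]
  rw [sum_eq_sum_fixed hP (fun x => a.coeff x) (fun u x => by rw [hsm]; exact ha _ u.2 x)]
  simp only [coeff_trunc]
  rw [← Finset.sum_filter]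
  refine Finset.sum_congr (Finset.filter_congr fun x _ => ?_) fun _ _ => rfl
  constructor
  · intro hx u
    rw [hsm]; exact conj_eq_self_of_mem_centralizer u.2 hx
  · intro hx
    rw [Subgroup.mem_centralizer_iff]
    intro u hu
    have h1 := hx ⟨u, hu⟩
    rw [hsm] at h1
    exact mul_inv_eq_iff_eq_mul.mp h1

omit [Fact p.Prime] [CharP F p] in
lemma existsUnique_principal (H : Subgroup G) :
    ∃! e : MonoidAlgebra F G, IsBlockIdem H e ∧ aug e = 1 := by
  obtain ⟨e, he⟩ : ∃ e : MonoidAlgebra F G, IsBlockIdem H e ∧ aug e = 1 := by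
    by_contra hc
    push Not at hc
    apply one_ne_zero (α := F)
    rw [← aug_one (G := G), ← sum_blks (F := F) H]
    haveI := Fintype.ofFinite G
    rw [aug_eq]
    simp only [MonoidAlgebra.coeff_sum, Finsupp.finsetSum_apply]
    rw [Finset.sum_comm]
    refine Finset.sum_eq_zero fun e he => ?_
    rw [← aug_eq]
    have h1 : aug e * aug e = aug e := by rw [← aug_mul, (mem_blks.mp he).idem]
    by_contra h0
    exact hc e (mem_blks.mp he) (mul_right_cancel₀ h0 (by rw [h1, one_mul]))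
  refine ⟨e, he, fun e' he' => ?_⟩
  by_contra hne
  have h1 := congrArg aug (he'.1.mul_eq_zero he.1 hne)
  rw [aug_mul, he'.2, he.2, aug_zero, one_mul] at h1
  exact one_ne_zero h1

/-- Below a principal pair only principal pairs occur. -/
lemma NS.aug_eq_one {Q P : Subgroup G} {f e : MonoidAlgebra F G} (h : NS p Q f P e)
    (he : aug e = 1) : aug f = 1 := by
  obtain ⟨f₀, ⟨hf₀, hf₀1⟩, huniq⟩ :=
    existsUnique_principal (F := F) (Subgroup.centralizer (Q : Set G))
  suffices NS p Q f₀ P e by rw [h.unique this]; exact hf₀1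
  have hfix : ConjFixed P f₀ := conjFixed_iff.mpr fun u hu =>
    huniq _ ⟨hf₀.conj_of_normalizer (normalizer_le_normalizer_centralizer Q (h.norm hu)),
      by rw [aug_conjA, hf₀1]⟩
  obtain ⟨h1, h2⟩ := trunc_idem h.pairP.pgroup h.le hf₀.mem hfix hf₀.idem
  refine ⟨⟨h.pairQ.pgroup, hf₀⟩, h.pairP, h.le, h.norm, hfix,
    (h.pairP.block.prim _ h1 h2).resolve_right fun h0 => ?_⟩
  have h3 := congrArg aug h0
  rw [aug_mul, aug_trunc h.pairP.pgroup hfix, hf₀1, he, aug_zero, one_mul] at h3
  exact one_ne_zero h3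

/-- Brauer's third main theorem for pairs. -/
theorem pairOf_principal_iff {B e : MonoidAlgebra F G} {Q : Subgroup G} (hB : IsBlockIdem ⊤ B)
    (hB1 : aug B = 1) (he : IsPair p Q e) : PairOf p B Q e ↔ aug e = 1 := by
  have key : ∀ {Q : Subgroup G} {e : MonoidAlgebra F G}, IsPair p Q e → aug e = 1 →
      PairOf p B Q e := by
    intro Q e he h1
    obtain ⟨hi1, hi2⟩ := trunc_block_idem hB he.pgroup
    refine ⟨hB, he, (he.block.prim _ hi1 hi2).resolve_right fun h0 => ?_⟩
    have h3 := congrArg aug h0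
    rw [aug_mul, aug_trunc he.pgroup (hB.mem.conjFixed_top _), hB1, h1, aug_zero, one_mul] at h3
    exact one_ne_zero h3
  refine ⟨fun h => ?_, key he⟩
  obtain ⟨R, g, hle, hg, hmax⟩ := exists_noExt_sle h
  obtain ⟨g₀, ⟨hg₀, hg₀1⟩, -⟩ := existsUnique_principal (F := F) (Subgroup.centralizer (R : Set G))
  obtain ⟨n, -, hn⟩ := exists_conj_of_noExt hg hmax (key ⟨hg.pair.pgroup, hg₀⟩ hg₀1)
  have hg1 : aug g = 1 := by rw [← aug_conjA n g, hn, hg₀1]
  suffices ∀ a : Subgroup G × MonoidAlgebra F G,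
      Relation.ReflTransGen (fun a b : Subgroup G × MonoidAlgebra F G => NS p a.1 a.2 b.1 b.2)
        a (R, g) → aug a.2 = 1 from this _ hle
  intro a ha
  induction ha using Relation.ReflTransGen.head_induction_on with
  | refl => exact hg1
  | head hab _ ih => exact hab.aug_eq_one ih

/-- The largest subgroup of the principal block is a Sylow subgroup. -/
theorem maxR_principal_iff {B : MonoidAlgebra F G} (hB : IsBlockIdem ⊤ B) (hB1 : aug B = 1)
    (D : Subgroup G) : MaxR p B D ↔ ∃ S : Sylow p G, (S : Subgroup G) = D := by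
  have hne : ∀ R : Subgroup G, IsPGroup p R → trunc R B ≠ 0 := fun R hR h0 => by
    have h1 := congrArg aug h0
    rw [aug_trunc hR (hB.mem.conjFixed_top _), hB1, aug_zero] at h1
    exact one_ne_zero h1
  constructor
  · intro h
    obtain ⟨S, hS⟩ := h.pgroup.exists_le_sylow
    obtain ⟨x, hx⟩ := h.max S S.isPGroup' (hne _ S.isPGroup')
    exact ⟨S, (Subgroup.eq_of_le_of_card_ge hS
      ((card_map_conj x _).symm.le.trans (Subgroup.card_le_of_le hx))).symm⟩
  · rintro ⟨S, rfl⟩
    refine ⟨S.isPGroup', hne _ S.isPGroup', fun R hR _ => ?_⟩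
    obtain ⟨T, hT⟩ := hR.exists_le_sylow
    obtain ⟨g, hg⟩ := MulAction.exists_smul_eq G T S
    refine ⟨g, ?_⟩
    rw [← hg]
    exact (conjSub_mono g hT).trans (le_of_eq rfl)

end CfsgLib.Blocks.Pairs
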