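import Cfsg.Prelude.Def_BrauerPairs
import Cfsg.Agent.Lib.Blocks.Pairs.Maximal
import Cfsg.Agent.Lib.Blocks.Pairs.Transport

/-!
# Blocks as idempotents of the modular group algebra; Brauer pairs in idempotent form
-/

set_option autoImplicit false

namespace CfsgLib.Blocks.Pairs

open Cfsg CfsgLib.Blocks
open scoped ComplexConjugate Classical

universe u

variable {G : Type u} [Group G] [Finite G]

/-! ### Reading the group algebra of a subgroup inside the whole group algebra -/

section Up

variable {F : Type*} [Field F]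

/-- Extension by zero. -/
noncomputable def up (H : Subgroup G) (a : MonoidAlgebra F H) : MonoidAlgebra F G :=
  ofFun fun x => if h : x ∈ H then a.coeff ⟨x, h⟩ else 0

@[simp] lemma coeff_up_coe (H : Subgroup G) (a : MonoidAlgebra F H) (x : H) :
    (up H a).coeff (x : G) = a.coeff x := by simp [up, x.2]

lemma up_suppIn (H : Subgroup G) (a : MonoidAlgebra F H) : SuppIn H (up H a) := fun x hx => by
  simp [up, hx]

/-- Restriction of coefficients. -/
noncomputable def down (H : Subgroup G) (a : MonoidAlgebra F G) : MonoidAlgebra F H :=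
  ofFun fun x => a.coeff x

@[simp] lemma coeff_down (H : Subgroup G) (a : MonoidAlgebra F G) (x : H) :
    (down H a).coeff x = a.coeff (x : G) := rfl

@[simp] lemma down_up (H : Subgroup G) (a : MonoidAlgebra F H) : down H (up H a) = a := by
  ext x; simp

lemma up_down {H : Subgroup G} {a : MonoidAlgebra F G} (ha : SuppIn H a) : up H (down H a) = a := by
  ext x
  by_cases hx : x ∈ H
  · simp [up, hx]
  · simp [up, hx, ha x hx]

lemma up_injective (H : Subgroup G) : Function.Injective (up (F := F) H) :=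
  fun a b h => by rw [← down_up H a, h, down_up]

@[simp] lemma up_zero (H : Subgroup G) : up H (0 : MonoidAlgebra F H) = 0 := by
  ext x; simp [up]

lemma up_mul (H : Subgroup G) (a b : MonoidAlgebra F H) : up H (a * b) = up H a * up H b := by
  haveI := Fintype.ofFinite G
  haveI := Fintype.ofFinite H
  have h : down H (up H a * up H b) = a * b := by
    ext c
    rw [coeff_down, coeff_mul_group, coeff_mul_group]
    rw [← Finset.sum_subset
      (Finset.subset_univ ((Finset.univ : Finset H).map ⟨Subtype.val, Subtype.val_injective⟩))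
      (fun x _ hx => ?_), Finset.sum_map]
    · refine Finset.sum_congr rfl fun x _ => ?_
      rw [Function.Embedding.coeFn_mk, coeff_up_coe]
      congr 1
      exact coeff_up_coe H b (x⁻¹ * c)
    · have hxH : x ∉ H := fun h => hx (Finset.mem_map.mpr ⟨⟨x, h⟩, Finset.mem_univ _, rfl⟩)
      simp [up, hxH]
  rw [← h, up_down ((up_suppIn H a).mul (up_suppIn H b))]

lemma inCenter_up {H : Subgroup G} {a : MonoidAlgebra F H}
    (ha : InCenter (⊤ : Subgroup H) a) : InCenter H (up H a) := by
  refine ⟨up_suppIn H a, fun u hu x => ?_⟩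
  by_cases hx : x ∈ H
  · have h1 := ha.fixed ⟨u, hu⟩ trivial ⟨x, hx⟩
    rw [← coeff_up_coe H a, ← coeff_up_coe H a] at h1
    exact h1
  · rw [up_suppIn H a x hx, up_suppIn H a]
    intro h
    apply hx
    have := H.mul_mem (H.mul_mem (H.inv_mem hu) h) hu
    simpa [mul_assoc] using this

lemma inCenter_down {H : Subgroup G} {a : MonoidAlgebra F G} (ha : InCenter H a) :
    InCenter (⊤ : Subgroup H) (down H a) :=
  ⟨fun x hx => absurd trivial hx, fun u _ x => ha.fixed u u.2 x⟩

lemma isBlockIdem_up {H : Subgroup G} {e : MonoidAlgebra F H}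
    (he : IsBlockIdem (⊤ : Subgroup H) e) : IsBlockIdem H (up H e) := by
  refine ⟨inCenter_up he.mem, by rw [← up_mul, he.idem],
    fun h => he.ne_zero (up_injective H (by rw [h, up_zero])), fun z hz hzi => ?_⟩
  have h1 : down H z * down H z = down H z := up_injective H (by
    rw [up_mul, up_down hz.supp, hzi])
  rcases he.prim _ (inCenter_down hz) h1 with h | h
  · left; rw [← up_down hz.supp, ← up_mul, h]
  · right; rw [← up_down hz.supp, ← up_mul, h, up_zero]

lemma isBlockIdem_down {H : Subgroup G} {e : MonoidAlgebra F G}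
    (he : IsBlockIdem H e) : IsBlockIdem (⊤ : Subgroup H) (down H e) := by
  refine ⟨inCenter_down he.mem, up_injective H (by rw [up_mul, up_down he.mem.supp, he.idem]),
    fun h => he.ne_zero (by rw [← up_down he.mem.supp, h, up_zero]), fun z hz hzi => ?_⟩
  rcases he.prim _ (inCenter_up hz) (by rw [← up_mul, hzi]) with h | h
  · left; exact up_injective H (by rw [up_mul, up_down he.mem.supp, h])
  · right; exact up_injective H (by rw [up_mul, up_down he.mem.supp, h, up_zero])

end Up

/-! ### Block idempotents -/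

variable {M : Ideal AlgInt} [M.IsMaximal]

/-- The idempotent of a block. -/
noncomputable def ebar {B : Set (IrrCharacter G)} (hB : IsPBlock M B) :
    MonoidAlgebra (ResField M) G :=
  (blockIdem hB : MonoidAlgebra (ResField M) G)

theorem coeff_ebar {B : Set (IrrCharacter G)} (hB : IsPBlock M B) (g : G) :
    (ebar hB).coeff g = red M ⟨blockCoeff B g, blockCoeff_mem hB g⟩ :=
  coeff_blockIdem hB g

/-- An idempotent of the centre on which all central characters vanish is zero. -/
theorem eq_zero_of_lam_eq_zero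
    {z : Subalgebra.center (ResField M) (MonoidAlgebra (ResField M) G)} (hz : IsIdempotentElem z)
    (h : ∀ χ, lam M χ z = 0) : z = 0 := by
  obtain ⟨n, hn⟩ := isNilpotent_of_lam_eq_zero z h
  rw [← hz.pow_succ_eq n, pow_succ, hn, zero_mul]

theorem exists_center_eq {a : MonoidAlgebra (ResField M) G} (ha : InCenter (⊤ : Subgroup G) a) :
    ∃ z : Subalgebra.center (ResField M) (MonoidAlgebra (ResField M) G),
      (z : MonoidAlgebra (ResField M) G) = a :=
  ⟨⟨a, inCenter_top_iff.mp ha⟩, rfl⟩

theorem isIdempotentElem_sub_mul {S : Type*} [CommRing S] {x z : S} (hx : IsIdempotentElem x)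
    (hz : IsIdempotentElem z) : IsIdempotentElem (x - z * x) := by
  have h : x - z * x = (1 - z) * x := by ring
  rw [h]; exact hz.one_sub.mul hx

/-- The product of an idempotent with a block idempotent, by the central character. -/
theorem mul_blockIdem_eq {B : Set (IrrCharacter G)} (hB : IsPBlock M B) {χ : IrrCharacter G}
    (hχ : χ ∈ B) {z : Subalgebra.center (ResField M) (MonoidAlgebra (ResField M) G)}
    (hz : IsIdempotentElem z) :
    z * blockIdem hB = if lam M χ z = 1 then blockIdem hB else 0 := by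
  have hc : lam M χ z = 0 ∨ lam M χ z = 1 := IsIdempotentElem.iff_eq_zero_or_one.mp (hz.map (lam M χ))
  have hval : ∀ ψ, lam M ψ (z * blockIdem hB) =
      lam M χ z * blockInd B ψ := by
    intro ψ
    rw [map_mul, lam_blockIdem]
    by_cases hψ : ψ ∈ B
    · rw [IsPBlock.lam_eq hB hψ hχ]
    · simp [blockInd, hψ]
  have hi := hz.mul (isIdempotentElem_blockIdem hB)
  split_ifs with h1
  · refine (sub_eq_zero.mp (eq_zero_of_lam_eq_zero ?_ fun ψ => ?_)).symm
    · exact isIdempotentElem_sub_mul (isIdempotentElem_blockIdem hB) hz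
    · rw [map_sub, hval, lam_blockIdem, h1, one_mul, sub_self]
  · refine eq_zero_of_lam_eq_zero hi fun ψ => ?_
    rw [hval, hc.resolve_right h1, zero_mul]

theorem isBlockIdem_ebar {B : Set (IrrCharacter G)} (hB : IsPBlock M B) :
    IsBlockIdem (⊤ : Subgroup G) (ebar hB) := by
  obtain ⟨χ, hχ⟩ := IsPBlock.nonempty hB
  refine ⟨inCenter_top_iff.mpr (blockIdem hB).2,
    congrArg Subtype.val (isIdempotentElem_blockIdem hB), fun h => ?_, fun z hz hzi => ?_⟩
  · have h1 := lam_blockIdem_of_mem hB hχ
    rw [show blockIdem hB = 0 from Subtype.ext h, map_zero] at h1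
    exact zero_ne_one h1
  · obtain ⟨w, rfl⟩ := exists_center_eq hz
    have h1 := mul_blockIdem_eq hB hχ (z := w) (Subtype.ext hzi)
    split_ifs at h1
    · exact Or.inl (congrArg Subtype.val h1)
    · exact Or.inr (congrArg Subtype.val h1)

theorem lam_eq_one_iff {B : Set (IrrCharacter G)} (hB : IsPBlock M B) {χ : IrrCharacter G}
    (hχ : χ ∈ B) {z : Subalgebra.center (ResField M) (MonoidAlgebra (ResField M) G)}
    (hz : IsIdempotentElem z) :
    lam M χ z = 1 ↔ (z : MonoidAlgebra (ResField M) G) * ebar hB = ebar hB := by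
  have h := congrArg Subtype.val (mul_blockIdem_eq hB hχ hz)
  simp only [MulMemClass.coe_mul] at h
  constructor
  · intro h1; rw [if_pos h1] at h; exact h
  · intro h1
    by_contra h2
    rw [if_neg h2] at h
    exact (isBlockIdem_ebar hB).ne_zero (h1.symm.trans h)

theorem ebar_injective {B B' : Set (IrrCharacter G)} (hB : IsPBlock M B) (hB' : IsPBlock M B')
    (h : ebar hB = ebar hB') : B = B' := by
  obtain ⟨χ, hχ⟩ := IsPBlock.nonempty hB
  refine IsPBlock.eq_of_mem hB hB' hχ ?_
  by_contra hne
  have h1 := lam_blockIdem_of_mem hB hχ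
  rw [show blockIdem hB = blockIdem hB' from Subtype.ext h, lam_blockIdem, blockInd, if_neg hne] at h1
  exact zero_ne_one h1

theorem exists_ebar_eq {e : MonoidAlgebra (ResField M) G} (he : IsBlockIdem (⊤ : Subgroup G) e) :
    ∃ (B : Set (IrrCharacter G)) (hB : IsPBlock M B), ebar hB = e := by
  obtain ⟨w, rfl⟩ := exists_center_eq he.mem
  obtain ⟨χ, hχ⟩ : ∃ χ, lam M χ w ≠ 0 := by
    by_contra h
    push Not at h
    exact he.ne_zero (congrArg Subtype.val (eq_zero_of_lam_eq_zero (Subtype.ext he.idem) h))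
  refine ⟨_, isPBlock_blockOf χ, (isBlockIdem_ebar _).eq_of_mul_ne_zero he fun h0 => ?_⟩
  have h1 : lam M χ (blockIdem (isPBlock_blockOf (M := M) χ) * w) = 0 := by
    rw [show blockIdem (isPBlock_blockOf (M := M) χ) * w = 0 from Subtype.ext h0, map_zero]
  rw [map_mul, lam_blockIdem_of_mem _ (mem_blockOf_self χ), one_mul] at h1
  exact hχ h1

/-- The central character of the principal block is the augmentation. -/
theorem lam_principalIrr (z : Subalgebra.center (ResField M) (MonoidAlgebra (ResField M) G)) :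
    lam M CfsgLib.Char.principalIrr z = aug (z : MonoidAlgebra (ResField M) G) := by
  haveI := Fintype.ofFinite G
  rw [lam_apply, aug_eq, sum_eq_sum_classes _ (fun u x =>
    (coeff_eq_of_isConj z.2 (isConj_iff.2 ⟨u, rfl⟩)).symm)]
  refine Finset.sum_congr rfl fun C _ => ?_
  rw [nsmul_eq_mul, mul_comm]
  congr 1
  show red M (centralR M CfsgLib.Char.principalIrr (Quotient.out C)) = _
  rw [show centralR M (CfsgLib.Char.principalIrr (G := G)) (Quotient.out C) =
    ((Subgroup.centralizer ({Quotient.out C} : Set G)).index : locRing M) from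
      Subtype.ext (by simp [centralChar, CfsgLib.Char.principalIrr_apply]), red_natCast]

theorem aug_ebar_principal :
    aug (ebar (isPBlock_principalBlock (G := G) (M := M))) = 1 := by
  rw [ebar, ← lam_principalIrr, lam_blockIdem_of_mem _ principalIrr_mem_principalBlock]

/-! ### Blocks of subgroups -/

/-- The idempotent of a block of a subgroup, in the group algebra of the whole group. -/
noncomputable def eIn {H : Subgroup G} {e : Set (IrrCharacter H)} (he : IsPBlock M e) :
    MonoidAlgebra (ResField M) G :=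
  up H (ebar he)

theorem isBlockIdem_eIn {H : Subgroup G} {e : Set (IrrCharacter H)} (he : IsPBlock M e) :
    IsBlockIdem H (eIn he) :=
  isBlockIdem_up (isBlockIdem_ebar he)

theorem eIn_injective {H : Subgroup G} {e e' : Set (IrrCharacter H)} (he : IsPBlock M e)
    (he' : IsPBlock M e') (h : eIn he = eIn he') : e = e' :=
  ebar_injective he he' (up_injective H h)

theorem exists_eIn_eq {H : Subgroup G} {a : MonoidAlgebra (ResField M) G} (ha : IsBlockIdem H a) :
    ∃ (e : Set (IrrCharacter H)) (he : IsPBlock M e), eIn he = a := by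
  obtain ⟨e, he, h⟩ := exists_ebar_eq (isBlockIdem_down ha)
  exact ⟨e, he, by rw [eIn, h, up_down ha.mem.supp]⟩

theorem subgroupBlockCoeff_mem {H : Subgroup G} {e : Set (IrrCharacter H)} (he : IsPBlock M e)
    (g : G) : subgroupBlockCoeff H e g ∈ locRing M := by
  unfold subgroupBlockCoeff
  split_ifs with h
  · exact blockCoeff_mem he _
  · exact (locRing M).zero_mem

theorem coeff_eIn {H : Subgroup G} {e : Set (IrrCharacter H)} (he : IsPBlock M e) (g : G) :
    (eIn he).coeff g = red M ⟨subgroupBlockCoeff H e g, subgroupBlockCoeff_mem he g⟩ := by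
  by_cases hg : g ∈ H
  · have h1 : subgroupBlockCoeff H e g = blockCoeff e ⟨g, hg⟩ := by simp [subgroupBlockCoeff, hg]
    simp only [h1, eIn, up, coeff_ofFun, dif_pos hg, coeff_ebar]
  · have h1 : (⟨subgroupBlockCoeff H e g, subgroupBlockCoeff_mem he g⟩ : locRing M) = 0 :=
      Subtype.ext (by simp [subgroupBlockCoeff, hg])
    rw [h1, map_zero]
    exact up_suppIn H _ g hg

theorem eIn_conj {H K : Subgroup G} (φ : K ≃* H) (x : G)
    (hφ : ∀ k : K, (φ k : G) = x⁻¹ * (k : G) * x) (hK : K = conjSub x H)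
    {e : Set (IrrCharacter H)} (he : IsPBlock M e) :
    eIn (isPBlock_pullSet φ he) = conjA x (eIn he) := by
  ext g
  rw [coeff_conjA]
  by_cases hg : g ∈ K
  · have hg' : x⁻¹ * g * x ∈ H := hφ ⟨g, hg⟩ ▸ (φ ⟨g, hg⟩).2
    simp only [eIn, up, coeff_ofFun, dif_pos hg, dif_pos hg', coeff_ebar]
    congr 1
    apply Subtype.ext
    show blockCoeff (pullSet φ e) _ = _
    rw [blockCoeff_pullSet]
    congr 1
    exact Subtype.ext (hφ _)
  · rw [eIn, eIn, up_suppIn K _ g hg, up_suppIn H]
    rw [hK, mem_conjSub] at hg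
    exact hg

/-- Stabilizing a block means fixing its idempotent. -/
theorem stabilizesBlock_iff {H : Subgroup G} {e : Set (IrrCharacter H)} (he : IsPBlock M e)
    {x : G} (hx : x ∈ Subgroup.normalizer (H : Set G)) :
    StabilizesBlock H e x ↔ conjA x (eIn he) = eIn he := by
  let φ : H ≃* H :=
    { toFun := fun k => ⟨x⁻¹ * k * x, (Subgroup.mem_normalizer_iff''.mp hx k).mp k.2⟩
      invFun := fun k => ⟨x * k * x⁻¹, (Subgroup.mem_normalizer_iff.mp hx k).mp k.2⟩
      left_inv := fun k => Subtype.ext (by simp [mul_assoc])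
      right_inv := fun k => Subtype.ext (by simp [mul_assoc])
      map_mul' := fun a b => Subtype.ext (by simp [mul_assoc]) }
  have hconj : ∀ χ : IrrCharacter H,
      IsConjCharOf H x (χ : H → ℂ) (pull φ χ : H → ℂ) := by
    intro χ k k' hk
    rw [pull_apply]
    apply congrArg
    refine Subtype.ext ?_
    show x⁻¹ * (k' : G) * x = (k : G)
    rw [hk]; group
  rw [← eIn_conj φ x (fun _ => rfl) (conjSub_eq_of_mem_normalizer hx).symm he]
  constructor
  · intro h
    have hsub : pullSet φ e ⊆ e := by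
      rintro _ ⟨χ, hχ, rfl⟩
      obtain ⟨χ', hχ', hc⟩ := h.2 χ hχ
      convert hχ'
      exact Subtype.ext (funext fun k => (hc (φ k) k (by
        show (k : G) = x * (x⁻¹ * k * x) * x⁻¹
        group)).symm)
    obtain ⟨ψ, hψ⟩ := IsPBlock.nonempty (isPBlock_pullSet φ he)
    congr 1
    exact IsPBlock.eq_of_mem (isPBlock_pullSet φ he) he hψ (hsub hψ)
  · intro h
    refine ⟨hx, fun χ hχ => ⟨pull φ χ, ?_, hconj χ⟩⟩
    rw [← eIn_injective (isPBlock_pullSet φ he) he h]
    exact ⟨χ, hχ, rfl⟩

/-- The conjugate block in the sense of `conjBlock`. -/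
theorem conjBlock_spec (Q : Subgroup G) (x : G)
    {f : Set (IrrCharacter (Subgroup.centralizer (Q : Set G)))} (hf : IsPBlock M f) :
    ∃ h : IsPBlock M (conjBlock Q x f), eIn h = conjA x (eIn hf) := by
  let φ : Subgroup.centralizer (conjSub x Q : Set G) ≃* Subgroup.centralizer (Q : Set G) :=
    { toFun := fun k => ⟨x⁻¹ * k * x, mem_centralizer_conjSub.mp k.2⟩
      invFun := fun k => ⟨x * k * x⁻¹, mem_centralizer_conjSub.mpr (by simp [mul_assoc])⟩
      left_inv := fun k => Subtype.ext (by simp [mul_assoc])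
      right_inv := fun k => Subtype.ext (by simp [mul_assoc])
      map_mul' := fun a b => Subtype.ext (by simp only [Subgroup.coe_mul]; group) }
  have h : conjBlock Q x f = pullSet φ f := by
    ext ξ'
    constructor
    · rintro ⟨ξ, hξ, hc⟩
      refine ⟨ξ, hξ, Subtype.ext (funext fun k => ?_)⟩
      rw [pull_apply]
      exact (hc (φ k) k (by show (k : G) = x * (x⁻¹ * k * x) * x⁻¹; group)).symm
    · rintro ⟨ξ, hξ, rfl⟩
      refine ⟨ξ, hξ, fun c c' hc => ?_⟩
      rw [pull_apply]
      apply congrArg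
      refine Subtype.ext ?_
      show x⁻¹ * (c' : G) * x = (c : G)
      rw [hc]; group
  have hp := isPBlock_pullSet φ hf
  refine ⟨h ▸ hp, ?_⟩
  have := eIn_conj φ x (fun _ => rfl) (centralizer_conjSub x Q) hf
  rw [← this]
  congr 1

/-! ### The Brauer map on idempotents -/

variable {p : ℕ}

/-- The condition defining Brauer pairs, in idempotent form. -/
theorem brauerOmega_iff [Fact p.Prime] (hM : IsPModular p M) {P : Subgroup G} (hP : IsPGroup p P)
    {β : G → ℂ} (hβ : ∀ g, β g ∈ locRing M) {a : MonoidAlgebra (ResField M) G}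
    (ha : ∀ g, a.coeff g = red M ⟨β g, hβ g⟩) (hai : a * a = a) (hfixP : ConjFixed P a)
    (hβC : ∀ u ∈ Subgroup.centralizer (P : Set G), ∀ x, β (u * x * u⁻¹) = β x)
    {e : Set (IrrCharacter (Subgroup.centralizer (P : Set G)))} (he : IsPBlock M e) :
    (∀ ξ ∈ e, MemLocalIdeal M
      (brauerOmega P β (ξ : Subgroup.centralizer (P : Set G) → ℂ) - 1)) ↔
      trunc P a * eIn he = eIn he := by
  haveI : CharP (ResField M) p := charP_resField hM.1 (natCast_mem_of_isPModular hM)
  set C := Subgroup.centralizer (P : Set G) with hC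
  haveI := Fintype.ofFinite C
  let zR : Subalgebra.center (locRing M) (MonoidAlgebra (locRing M) C) :=
    ⟨ofFun fun c => ⟨β c, hβ c⟩, ofFun_mem_center fun u x => Subtype.ext (hβC u u.2 x)⟩
  have hz : ((mapCenter (red M) zR : Subalgebra.center (ResField M) (MonoidAlgebra (ResField M) C)) :
      MonoidAlgebra (ResField M) C) = down C (trunc P a) := by
    ext c
    rw [coe_mapCenter, coeff_map, coeff_down, coeff_trunc, if_pos c.2, ha]
    rfl
  have hup : up C (down C (trunc P a)) = trunc P a := up_down (trunc_suppIn P a)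
  have hti : down C (trunc P a) * down C (trunc P a) = down C (trunc P a) :=
    up_injective C (by rw [up_mul, hup, ← trunc_mul hP hfixP hfixP, hai])
  have hzi : IsIdempotentElem (mapCenter (red M) zR) := Subtype.ext (by
    rw [MulMemClass.coe_mul, hz, hti])
  have key : ∀ ξ : IrrCharacter C,
      MemLocalIdeal M (brauerOmega P β (ξ : C → ℂ) - 1) ↔ lam M ξ (mapCenter (red M) zR) = 1 := by
    intro ξ
    have h1 : brauerOmega P β (ξ : C → ℂ) = ((lamR M ξ zR : locRing M) : ℂ) := by
      rw [coe_lamR, omega_eq_sum, brauerOmega, finsum_eq_sum_of_fintype, Finset.sum_div]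
      refine Finset.sum_congr rfl fun c _ => ?_
      simp [coe_mapCenter, zR]
    rw [h1, lam_mapCenter, ← OneMemClass.coe_one (locRing M), memLocalIdeal_sub_iff, map_one]
  constructor
  · intro h
    obtain ⟨ξ, hξ⟩ := IsPBlock.nonempty he
    have h1 := (lam_eq_one_iff he hξ hzi).mp ((key ξ).mp (h ξ hξ))
    rw [hz] at h1
    have h2 := congrArg (up C) h1
    rwa [up_mul, hup] at h2
  · intro h ξ hξ
    rw [key, lam_eq_one_iff he hξ hzi, hz]
    exact up_injective C (by rw [up_mul, hup]; exact h)

theorem isPair_eIn {P : Subgroup G} (hP : IsPGroup p P)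
    {e : Set (IrrCharacter (Subgroup.centralizer (P : Set G)))} (he : IsPBlock M e) :
    IsPair p P (eIn he) :=
  ⟨hP, isBlockIdem_eIn he⟩

/-- Brauer pairs of a block, in idempotent form. -/
theorem isBrauerPairOf_iff [Fact p.Prime] (hM : IsPModular p M) {B : Set (IrrCharacter G)}
    {P : Subgroup G} {e : Set (IrrCharacter (Subgroup.centralizer (P : Set G)))}
    (hB : IsPBlock M B) (he : IsPBlock M e) :
    IsBrauerPairOf p M B P e ↔ PairOf p (ebar hB) P (eIn he) := by
  have key : IsPGroup p P → ((∀ ξ ∈ e, MemLocalIdeal M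
      (brauerOmega P (blockCoeff B) (ξ : Subgroup.centralizer (P : Set G) → ℂ) - 1)) ↔
        trunc P (ebar hB) * eIn he = eIn he) := fun hP =>
    brauerOmega_iff hM hP (blockCoeff_mem hB) (coeff_ebar hB) (isBlockIdem_ebar hB).idem
      ((isBlockIdem_ebar hB).mem.conjFixed_top P) (fun u _ x => blockCoeff_conj B u x) he
  constructor
  · intro h
    exact ⟨isBlockIdem_ebar hB, isPair_eIn h.1.1 he, (key h.1.1).mp h.2.2⟩
  · intro h
    exact ⟨⟨h.pair.pgroup, he⟩, hB, (key h.pair.pgroup).mpr h.br⟩

theorem subgroupBlockCoeff_conj {H : Subgroup G} {e : Set (IrrCharacter H)}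
    {u : G} (hu : u ∈ H) (x : G) :
    subgroupBlockCoeff H e (u * x * u⁻¹) = subgroupBlockCoeff H e x := by
  have hiff : u * x * u⁻¹ ∈ H ↔ x ∈ H := by
    constructor
    · intro h
      have := H.mul_mem (H.mul_mem (H.inv_mem hu) h) hu
      simpa [mul_assoc] using this
    · intro h; exact H.mul_mem (H.mul_mem hu h) (H.inv_mem hu)
  unfold subgroupBlockCoeff
  by_cases h : x ∈ H
  · rw [dif_pos h, dif_pos (hiff.mpr h), ← blockCoeff_conj e ⟨u, hu⟩ ⟨x, h⟩]
    rfl
  · rw [dif_neg h, dif_neg (fun h' => h (hiff.mp h'))]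

/-- Normal inclusion, in idempotent form. -/
theorem isNormalSubpair_iff [Fact p.Prime] (hM : IsPModular p M) {Q P : Subgroup G}
    {f : Set (IrrCharacter (Subgroup.centralizer (Q : Set G)))}
    {e : Set (IrrCharacter (Subgroup.centralizer (P : Set G)))}
    (hf : IsPBlock M f) (he : IsPBlock M e) :
    IsNormalSubpair p M Q f P e ↔ NS p Q (eIn hf) P (eIn he) := by
  have hst : P ≤ Subgroup.normalizer (Q : Set G) →
      ((∀ x ∈ P, StabilizesBlock (Subgroup.centralizer (Q : Set G)) f x) ↔
        ConjFixed P (eIn hf)) := by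
    intro hN
    rw [conjFixed_iff]
    refine forall₂_congr fun x hx => ?_
    exact stabilizesBlock_iff hf (normalizer_le_normalizer_centralizer Q (hN hx))
  have key : Q ≤ P → IsPGroup p P → ConjFixed P (eIn hf) → ((∀ ξ ∈ e, MemLocalIdeal M
      (brauerOmega P (subgroupBlockCoeff (Subgroup.centralizer (Q : Set G)) f)
        (ξ : Subgroup.centralizer (P : Set G) → ℂ) - 1)) ↔
        trunc P (eIn hf) * eIn he = eIn he) := fun hQP hP hfix =>
    brauerOmega_iff hM hP (subgroupBlockCoeff_mem hf) (coeff_eIn hf) (isBlockIdem_eIn hf).idem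
      hfix (fun u hu x => subgroupBlockCoeff_conj (centralizer_anti hQP hu) x) he
  constructor
  · rintro ⟨h1, h2, h3, h4, h5, h6⟩
    exact ⟨isPair_eIn h1.1 hf, isPair_eIn h2.1 he, h3, h4, (hst h4).mp h5,
      (key h3 h2.1 ((hst h4).mp h5)).mp h6⟩
  · intro h
    exact ⟨⟨h.pairQ.pgroup, hf⟩, ⟨h.pairP.pgroup, he⟩, h.le, h.norm, (hst h.norm).mpr h.fix,
      (key h.le h.pairP.pgroup h.fix).mpr h.br⟩

/-- Inclusion gives inclusion in idempotent form. -/
theorem sle_of_subpairLE [Fact p.Prime] (hM : IsPModular p M) {Q P : Subgroup G}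
    {f : Set (IrrCharacter (Subgroup.centralizer (Q : Set G)))}
    {e : Set (IrrCharacter (Subgroup.centralizer (P : Set G)))}
    (hf : IsPBlock M f) (h : SubpairLE p M Q f P e) :
    ∃ he : IsPBlock M e, SLE p Q (eIn hf) P (eIn he) := by
  suffices ∀ b : BrauerPairIdx G, Relation.ReflTransGen (NormalSubpairRel p M) ⟨Q, f⟩ b →
      ∃ hb : IsPBlock M b.2, SLE p Q (eIn hf) b.1 (eIn hb) from this _ h
  intro b hb
  induction hb with
  | refl => exact ⟨hf, SLE.refl _ _⟩
  | tail _ hbc ih =>
    obtain ⟨hb, hle⟩ := ih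
    exact ⟨hbc.2.1.2, hle.trans ((isNormalSubpair_iff hM hb hbc.2.1.2).mp hbc).sle⟩

/-- Inclusion in idempotent form gives inclusion. -/
theorem subpairLE_of_sle [Fact p.Prime] (hM : IsPModular p M) {Q P : Subgroup G}
    {f : Set (IrrCharacter (Subgroup.centralizer (Q : Set G)))}
    {e : Set (IrrCharacter (Subgroup.centralizer (P : Set G)))}
    (hf : IsPBlock M f) (he : IsPBlock M e) (h : SLE p Q (eIn hf) P (eIn he)) :
    SubpairLE p M Q f P e := by
  suffices ∀ b : Subgroup G × MonoidAlgebra (ResField M) G,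
      Relation.ReflTransGen (fun a b : Subgroup G × MonoidAlgebra (ResField M) G =>
        NS p a.1 a.2 b.1 b.2) (Q, eIn hf) b →
      ∃ (e : Set (IrrCharacter (Subgroup.centralizer (b.1 : Set G)))) (he : IsPBlock M e),
        eIn he = b.2 ∧ SubpairLE p M Q f b.1 e by
    obtain ⟨e', he', h1, h2⟩ := this _ h
    rwa [eIn_injective he' he h1] at h2
  intro b hb
  induction hb with
  | refl => exact ⟨f, hf, rfl, Relation.ReflTransGen.refl⟩
  | tail _ hbc ih =>
    obtain ⟨g, hg, hge, hle⟩ := ih
    obtain ⟨e', he', he'e⟩ := exists_eIn_eq hbc.pairP.block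
    refine ⟨e', he', he'e, hle.tail ?_⟩
    rw [← hge, ← he'e] at hbc
    exact (isNormalSubpair_iff hM hg he').mpr hbc

/-- Maximality, in idempotent form. -/
theorem noExt_of_isMaximalBrauerPair [Fact p.Prime] (hM : IsPModular p M)
    {B : Set (IrrCharacter G)} {P : Subgroup G}
    {e : Set (IrrCharacter (Subgroup.centralizer (P : Set G)))}
    (h : IsMaximalBrauerPair p M B P e) :
    ∃ (hB : IsPBlock M B) (he : IsPBlock M e),
      PairOf p (ebar hB) P (eIn he) ∧ NoExt p P (eIn he) := by
  haveI : CharP (ResField M) p := charP_resField hM.1 (natCast_mem_of_isPModular hM)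
  obtain ⟨hpair, hmax⟩ := h
  refine ⟨hpair.2.1, hpair.1.2, (isBrauerPairOf_iff hM hpair.2.1 hpair.1.2).mp hpair, ?_⟩
  intro R g hns
  obtain ⟨g', hg', hge⟩ := exists_eIn_eq hns.pairP.block
  rw [← hge] at hns
  exact hmax R g' ((isBrauerPairOf_iff hM hpair.2.1 hg').mpr
    (hns.pairOf_right ((isBrauerPairOf_iff hM hpair.2.1 hpair.1.2).mp hpair)))
    (subpairLE_of_sle hM hpair.1.2 hg' hns.sle)

end CfsgLib.Blocks.Pairs
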