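import Cfsg.Agent.Lib.Blocks.Pairs.SubTransport

/-!
# The Brauer correspondence over a subgroup containing a normalizer
-/

set_option autoImplicit false

namespace CfsgLib.Blocks.Pairs

open Cfsg CfsgLib.Blocks
open scoped Classical

universe u

variable {G : Type u} [Group G] [Finite G] {F : Type*} [Field F]

/-- Two invariant central idempotents whose blocks form one orbit are equal. -/
theorem eq_of_orbit {C N : Subgroup G} {z w e : MonoidAlgebra F G}
    (hz : InCenter C z) (hzi : z * z = z) (hzN : ConjFixed N z)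
    (hw : InCenter C w) (hwi : w * w = w) (hwN : ConjFixed N w)
    (he : z * e = e) (he' : w * e = e)
    (hoz : ∀ b, IsBlockIdem C b → z * b = b → ∃ n ∈ N, conjA n e = b)
    (how : ∀ b, IsBlockIdem C b → w * b = b → ∃ n ∈ N, conjA n e = b) : z = w := by
  refine eq_of_forall_blocks (H := C) fun b hb => ?_
  rcases hb.prim z hz hzi with h1 | h1
  · obtain ⟨n, hn, rfl⟩ := hoz b hb h1
    rw [h1]
    conv_rhs => rw [← conjFixed_iff.mp hwN n hn, ← conjA_mul, he']
  · rcases hb.prim w hw hwi with h2 | h2
    · obtain ⟨n, hn, rfl⟩ := how b hb h2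
      exfalso
      apply hb.ne_zero
      rw [← h1]
      conv_rhs => rw [← conjFixed_iff.mp hzN n hn, ← conjA_mul, he]
    · rw [h1, h2]

variable {p : ℕ} [Fact p.Prime] [CharP F p]

theorem NS.down_of_le {L Q R : Subgroup G} {f g : MonoidAlgebra F G} (h : NS p Q f R g)
    (hR : R ≤ L) (hle : Subgroup.centralizer (Q : Set G) ≤ L) :
    NS p (Q.subgroupOf L) (down L f) (R.subgroupOf L) (down L g) := by
  have hQ : Q ≤ L := h.le.trans hR
  have hsf := h.pairQ.block.mem.supp.mono hle
  have hleR : Subgroup.centralizer (R : Set G) ≤ L := (centralizer_anti h.le).trans hle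
  have hsg := h.pairP.block.mem.supp.mono hleR
  refine ⟨h.pairQ.down_of_le hQ hle, h.pairP.down_of_le hR hleR, fun x hx => h.le hx,
    fun x hx => ?_, ?_, ?_⟩
  · rw [Subgroup.mem_normalizer_iff]
    intro y
    exact Subgroup.mem_normalizer_iff.mp (h.norm hx) y
  · rw [← conjFixed_up_iff, Subgroup.map_subgroupOf_eq_of_le hR, up_down hsf]
    exact h.fix
  · exact up_injective L (by
      rw [up_mul, up_trunc, up_down hsf, up_down hsg, Subgroup.map_subgroupOf_eq_of_le hR, h.br])

/-- No extension in the group gives no extension in a subgroup. -/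
theorem noExt_down {H P : Subgroup G} {e : MonoidAlgebra F G}
    (he : IsPair p P e) (hPH : P ≤ H) (hCH : Subgroup.centralizer (P : Set G) ≤ H)
    (hno : NoExt p P e) : NoExt p (P.subgroupOf H) (down H e) := by
  intro R g hns
  have h1 := hns.up_of_le (by rwa [Subgroup.map_subgroupOf_eq_of_le hPH])
  rw [Subgroup.map_subgroupOf_eq_of_le hPH, up_down (he.block.mem.supp.mono hCH)] at h1
  refine Subgroup.map_injective H.subtype_injective ?_
  rw [Subgroup.map_subgroupOf_eq_of_le hPH]
  exact hno _ _ h1

/-- No extension in a subgroup containing the normalizer gives no extension in the group. -/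
theorem noExt_of_down {H P : Subgroup G} {e : MonoidAlgebra F G} (hPH : P ≤ H)
    (hH : Subgroup.normalizer (P : Set G) ≤ H)
    (hno : NoExt p (P.subgroupOf H) (down H e)) : NoExt p P e := by
  intro R g hns
  have hR : R ≤ H := hns.norm.trans hH
  have h1 := hno _ _ (hns.down_of_le hR ((Subgroup.centralizer_le_normalizer _).trans hH))
  rw [← Subgroup.map_subgroupOf_eq_of_le hR, h1, Subgroup.map_subgroupOf_eq_of_le hPH]

/-- Blocks in correspondence have the same Brauer image. -/
theorem trunc_eq_of_common {H P : Subgroup G} {E a e : MonoidAlgebra F G}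
    (hH : Subgroup.normalizer (P : Set G) ≤ H) (hE : PairOf p E P e) (hno : NoExt p P e)
    (ha : InCenter H a) (hc : PairOf p (down H a) (P.subgroupOf H) (down H e)) :
    trunc P E = trunc P a := by
  have hPH : P ≤ H := Subgroup.le_normalizer.trans hH
  have hCH : Subgroup.centralizer (P : Set G) ≤ H :=
    (Subgroup.centralizer_le_normalizer _).trans hH
  have hai : a * a = a := by
    have h := congrArg (up H) hc.blockB.idem
    rwa [up_mul, up_down ha.supp] at h
  have hfa : ConjFixed P a := ha.fixed.mono hPH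
  have hae : trunc P a * e = e := by
    have h := congrArg (up H) hc.br
    rwa [up_mul, up_trunc, up_down ha.supp, up_down (hE.pair.block.mem.supp.mono hCH),
      Subgroup.map_subgroupOf_eq_of_le hPH] at h
  obtain ⟨hzc, hzi⟩ := trunc_block_idem hE.blockB hE.pair.pgroup
  refine eq_of_orbit hzc hzi (trunc_conjFixed le_rfl (hE.blockB.mem.conjFixed_top _))
    (trunc_inCenter (ha.fixed.mono hCH)) (by rw [← trunc_mul hE.pair.pgroup hfa hfa, hai])
    (trunc_conjFixed le_rfl (ha.fixed.mono hH)) hE.br hae
    (fun b hb hzb => exists_conj_of_noExt hE hno ⟨hE.blockB, ⟨hE.pair.pgroup, hb⟩, hzb⟩)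
    (fun b hb hwb => ?_)
  have hbp : IsPair p P b := ⟨hE.pair.pgroup, hb⟩
  have hsb := hb.mem.supp.mono hCH
  have hcb : PairOf p (down H a) (P.subgroupOf H) (down H b) := by
    refine ⟨hc.blockB, hbp.down_of_le hPH hCH, up_injective H ?_⟩
    rw [up_mul, up_trunc, up_down ha.supp, up_down hsb, Subgroup.map_subgroupOf_eq_of_le hPH, hwb]
  obtain ⟨n, hn, hne⟩ := exists_conj_of_noExt hc (noExt_down hE.pair hPH hCH hno) hcb
  refine ⟨n, ?_, ?_⟩
  · have h := Subgroup.le_normalizer_map H.subtype ⟨n, hn, rfl⟩
    rwa [Subgroup.map_subgroupOf_eq_of_le hPH] at h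
  · have h := congrArg (up H) hne
    rwa [up_conjA, up_down (hE.pair.block.mem.supp.mono hCH), up_down hsb] at h

end CfsgLib.Blocks.Pairs
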