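import Cfsg.Agent.Lib.Blocks.Pairs.InducedIn
import Cfsg.Agent.Lib.Blocks.Pairs.Correspondence
import Cfsg.Agent.Lib.Blk83.PairFusion

/-!
The inertial quotient of a block with abelian defect group.
-/

set_option autoImplicit false
set_option maxHeartbeats 1000000
set_option synthInstance.maxHeartbeats 400000

open Cfsg CfsgLib.Blocks
open scoped Classical

namespace CfsgLib.Blocks.Pairs

universe u

variable {G : Type u} [Group G] [Finite G] {p : ℕ} [Fact p.Prime] {M : Ideal AlgInt} [M.IsMaximal]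
  [CharP (ResField M) p]

/-- The data of a defect group and a root block. -/
theorem exists_root_pair (hM : IsPModular p M) {B : Set (IrrCharacter G)} {P : Subgroup G}
    (hPD : IsDefectGroup p M B P) {c : Set (IrrCharacter (Subgroup.centralizer (P : Set G)))}
    (hc : IsInducedBlock M (Subgroup.centralizer (P : Set G)) c B) :
    ∃ (hB : IsPBlock M B) (hc' : IsPBlock M c), PairOf p (ebar hB) P (eIn hc') ∧
      NoExt p P (eIn hc') ∧ MaxR p (ebar hB) P ∧ IsPGroup p P := by
  have hmax := (isDefectGroup_iff_maxR hM hc.2.1).mp hPD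
  have hpair := (isInducedBlock_iff_pairOf hM hmax.pgroup hc.2.1 hc.1).mp hc
  exact ⟨hc.2.1, hc.1, hpair, hmax.noExt hpair, hmax, hmax.pgroup⟩

variable {B e : MonoidAlgebra (ResField M) G} {P : Subgroup G}

/-- The inertial quotient of an abelian maximal pair has order prime to `p`. -/
theorem exists_pow_mem_centralizer (hM : IsPModular p M) (hP : PairOf p B P e) (hno : NoExt p P e)
    (hab : ∀ x ∈ P, ∀ y ∈ P, x * y = y * x) {g : G} (hg : g ∈ pairStab P e) :
    ∃ r : ℕ, ¬ p ∣ r ∧ g ^ r ∈ Subgroup.centralizer (P : Set G) := by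
  set F := pairFusion p P e hP.pair with hF
  obtain ⟨Q, hQ, hfa, -⟩ := isSaturated_pairFusion hM hP hno P le_rfl
  have hQP : Q = P := by
    obtain ⟨x, rfl, hx⟩ :=
      (CfsgLib.Blk83.pairFusion_isConj_iff hP (SLE.refl P e)).1 hQ
    exact Subgroup.eq_of_le_of_card_ge hx.le (card_map_conj x P).symm.le
  subst hQP
  obtain ⟨-, R, hR⟩ := hfa
  have hbot : autInducedBy Q Q = ⊥ := by
    rw [eq_bot_iff]
    intro α hα
    obtain ⟨t, ht, hαt⟩ := (CfsgLib.Fusion.mem_autInducedBy_iff).1 hα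
    rw [Subgroup.mem_bot]
    refine MulEquiv.ext fun x => Subtype.ext ?_
    rw [hαt, MulAut.one_apply, hab t ht x x.2]
    group
  haveI : Finite (MulAut Q) := CfsgLib.Fusion.finite_mulAut
  rw [hbot, Subgroup.bot_subgroupOf] at hR
  have hcard : ¬ p ∣ Nat.card (F.autGroup Q) := by
    have := R.not_dvd_index
    rwa [hR, Subgroup.index_bot] at this
  let ψ : pairStab Q e →* MulAut Q := Q.normalizerMonoidHom.comp
    (Subgroup.inclusion (fun y hy => hy.1 : pairStab Q e ≤ Subgroup.normalizer (Q : Set G)))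
  have hψm : ∀ t, ψ t ∈ F.autGroup Q := fun t => by
    rw [hF, autGroup_pairFusion hP.pair (SLE.refl Q e), CfsgLib.Fusion.mem_autInducedBy_iff]
    exact ⟨t, t.2, fun x => rfl⟩
  refine ⟨orderOf (ψ ⟨g, hg⟩), fun hd => hcard (hd.trans ?_), ?_⟩
  · rw [← Subgroup.orderOf_mk _ (hψm ⟨g, hg⟩)]
    exact orderOf_dvd_natCard _
  · have h : ψ (⟨g, hg⟩ ^ orderOf (ψ ⟨g, hg⟩)) = 1 := by rw [map_pow, pow_orderOf_eq_one]
    rw [← MonoidHom.mem_ker] at h
    change Subgroup.inclusion _ (⟨g, hg⟩ ^ _) ∈ Q.normalizerMonoidHom.ker at h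
    rw [Subgroup.normalizerMonoidHom_ker, Subgroup.mem_subgroupOf] at h
    simpa using h

/-- An element with a power prime to `p` and a power of `p` in the centralizer is in it. -/
theorem mem_of_pow_mem {H : Subgroup G} {g : G} {r k : ℕ} (hr : ¬ p ∣ r) (h1 : g ^ r ∈ H)
    (h2 : g ^ p ^ k ∈ H) : g ∈ H := by
  have hco : Nat.Coprime r (p ^ k) :=
    Nat.Coprime.pow_right k (((Fact.out : p.Prime).coprime_iff_not_dvd.2 hr).symm)
  have hb := Nat.gcd_eq_gcd_ab r (p ^ k)
  rw [hco] at hb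
  rw [← zpow_one g, show (1 : ℤ) = ((1 : ℕ) : ℤ) from rfl, hb, zpow_add, zpow_mul, zpow_mul,
    zpow_natCast, zpow_natCast]
  exact H.mul_mem (H.zpow_mem h1 _) (H.zpow_mem h2 _)

/-- Free action of the inertial quotient. -/
def Free (P T : Subgroup G) : Prop :=
  ∀ g ∈ T, ∀ x ∈ P, x ≠ 1 → g * x * g⁻¹ = x → g ∈ Subgroup.centralizer (P : Set G)

/-- Under free action the local blocks are nilpotent. -/
theorem nilPairs_local (hM : IsPModular p M) (hP : PairOf p B P e) (hno : NoExt p P e)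
    (hab : ∀ x ∈ P, ∀ y ∈ P, x * y = y * x) (hfree : Free P (pairStab P e)) {Q : Subgroup G}
    (hQ1 : Q ≠ ⊥) {f : MonoidAlgebra (ResField M) G} (hle : SLE p Q f P e) :
    CfsgLib.Blk83.NilPairs p (down (Subgroup.centralizer (Q : Set G)) f) := by
  set H := Subgroup.centralizer (Q : Set G) with hH
  have hPH : P ≤ H := fun x hx =>
    Subgroup.mem_centralizer_iff.2 fun q hq => hab q (hle.le hq) x hx
  have hCH : Subgroup.centralizer (P : Set G) ≤ H := centralizer_anti hle.le
  have hf := (hle.pair_left hP.pair).block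
  have hPN : P ≤ Subgroup.normalizer (Q : Set G) := hPH.trans (Subgroup.centralizer_le_normalizer _)
  obtain ⟨f', hf'⟩ := exists_ns hP.pair hle.le hPN
  have hff : f = f' := SLE.unique hP.pair hle hf'.sle
  subst hff
  have hes : SuppIn H e := hP.pair.block.mem.supp.mono hCH
  have hbl : IsBlockIdem (⊤ : Subgroup H) (down H f) := by
    rw [← isBlockIdem_up_iff, up_down hf.mem.supp, ← MonoidHom.range_eq_map, Subgroup.range_subtype]
    exact hf
  have hP' : PairOf p (down H f) (P.subgroupOf H) (down H e) := by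
    refine ⟨hbl, hP.pair.down_of_le hPH hCH, up_injective H ?_⟩
    rw [up_mul, up_trunc, up_down hf.mem.supp, up_down hes, Subgroup.map_subgroupOf_eq_of_le hPH]
    exact hf'.br
  have hno' := noExt_down hP.pair hPH hCH hno
  have habH : ∀ x ∈ P.subgroupOf H, ∀ y ∈ P.subgroupOf H, x * y = y * x := fun x hx y hy =>
    Subtype.ext (hab _ hx _ hy)
  refine CfsgLib.Blk83.nilPairs_of_below hP' hno' fun R h hRle x hx _ => ?_
  obtain ⟨y, hy, -, c, hc, rfl⟩ := CfsgLib.Blk83.exists_mul_of_comm hP' hno' habH hRle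
    (exists_maxIn_of_isBlockIdem hM (hRle.pair_left hP'.pair).block) hx
  have hyT : (y : G) ∈ pairStab P e := by
    obtain ⟨hyN, hye⟩ := hy
    refine ⟨?_, ?_⟩
    · have h1 := Subgroup.le_normalizer_map H.subtype ⟨y, hyN, rfl⟩
      rwa [Subgroup.map_subgroupOf_eq_of_le hPH] at h1
    · rw [← up_down hes, ← up_conjA, hye]
  obtain ⟨q, hq, hq1⟩ := (Subgroup.bot_or_exists_ne_one Q).resolve_left hQ1
  have hyC : (y : G) ∈ Subgroup.centralizer (P : Set G) := hfree _ hyT q (hle.le hq) hq1 (by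
    rw [← Subgroup.mem_centralizer_iff.1 y.2 q hq]; group)
  refine Subgroup.mul_mem _ (Subgroup.mem_centralizer_iff.2 fun r hr => ?_) hc
  exact Subtype.ext (Subgroup.mem_centralizer_iff.1 hyC _ (hRle.le hr))

/-- Nilpotent local blocks force free action. -/
theorem free_of_nilPairs_local (hM : IsPModular p M) (hP : PairOf p B P e) (hno : NoExt p P e)
    (hab : ∀ x ∈ P, ∀ y ∈ P, x * y = y * x)
    (h : ∀ (Q : Subgroup G) (f : MonoidAlgebra (ResField M) G), Q ≠ ⊥ → SLE p Q f P e →
      CfsgLib.Blk83.NilPairs p (down (Subgroup.centralizer (Q : Set G)) f)) :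
    Free P (pairStab P e) := by
  intro g hg x hx hx1 hgx
  set Q := Subgroup.zpowers x with hQdef
  have hQP : Q ≤ P := Subgroup.zpowers_le.2 hx
  obtain ⟨f, hf⟩ := (existsUnique_sle hP.pair hQP).1
  have hnil := h Q f (by simpa [hQdef, Subgroup.zpowers_eq_bot] using hx1) hf
  set H := Subgroup.centralizer (Q : Set G) with hH
  have hgH : g ∈ H := by
    rw [hH, hQdef, Subgroup.zpowers_eq_closure, Subgroup.centralizer_closure,
      Subgroup.mem_centralizer_singleton_iff]
    exact mul_inv_eq_iff_eq_mul.1 hgx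
  have hPH : P ≤ H := fun y hy =>
    Subgroup.mem_centralizer_iff.2 fun q hq => hab q (hQP hq) y hy
  have hCH : Subgroup.centralizer (P : Set G) ≤ H := centralizer_anti hQP
  obtain ⟨f', hf'⟩ := exists_ns hP.pair hQP (hPH.trans (Subgroup.centralizer_le_normalizer _))
  have hff : f = f' := SLE.unique hP.pair hf hf'.sle
  subst hff
  have hfb := hf'.pairQ.block
  have hes : SuppIn H e := hP.pair.block.mem.supp.mono hCH
  have hbl : IsBlockIdem (⊤ : Subgroup H) (down H f) := by
    rw [← isBlockIdem_up_iff, up_down hfb.mem.supp, ← MonoidHom.range_eq_map, Subgroup.range_subtype]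
    exact hfb
  have hP' : PairOf p (down H f) (P.subgroupOf H) (down H e) := by
    refine ⟨hbl, hP.pair.down_of_le hPH hCH, up_injective H ?_⟩
    rw [up_mul, up_trunc, up_down hfb.mem.supp, up_down hes, Subgroup.map_subgroupOf_eq_of_le hPH]
    exact hf'.br
  set k := (orderOf g).factorization p
  have hreg : ¬ p ∣ orderOf (g ^ p ^ k) := by
    rw [orderOf_pow_of_dvd (pow_ne_zero _ (Fact.out : p.Prime).ne_zero) (Nat.ordProj_dvd _ p)]
    exact Nat.not_dvd_ordCompl Fact.out (orderOf_pos g).ne'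
  set gk : H := ⟨g, hgH⟩ ^ p ^ k with hgk
  have hgkG : (gk : G) = g ^ p ^ k := by simp [hgk]
  have hgT : (gk : G) ∈ pairStab P e := hgkG ▸ Subgroup.pow_mem _ hg _
  have hst : gk ∈ pairStab (P.subgroupOf H) (down H e) := by
    refine ⟨?_, up_injective H ?_⟩
    · rw [Subgroup.mem_normalizer_iff]
      intro y
      exact Subgroup.mem_normalizer_iff.1 hgT.1 (y : G)
    · rw [up_conjA, up_down hes]
      exact hgT.2
  have hc := hnil _ _ hP' gk hst (by
    show ¬ p ∣ orderOf gk
    rwa [← Subgroup.orderOf_coe, hgkG])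
  obtain ⟨r, hr, hrC⟩ := exists_pow_mem_centralizer hM hP hno hab hg
  refine mem_of_pow_mem hr hrC (k := k) ?_
  rw [← hgkG, Subgroup.mem_centralizer_iff]
  intro y hy
  exact congrArg Subtype.val (Subgroup.mem_centralizer_iff.1 hc ⟨y, hPH hy⟩ hy)

end CfsgLib.Blocks.Pairs
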