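import Cfsg.Agent.Lib.Blocks.Pairs.Covering
import Cfsg.Agent.Lib.Solvable.CoprimeAction
import Cfsg.Agent.Lib.PLocal.HallHigman

/-!
Blocks over a block of a normal `p'`-subgroup in the constrained case.
-/

set_option autoImplicit false
set_option maxHeartbeats 1000000
set_option synthInstance.maxHeartbeats 400000

open Cfsg CfsgLib.Blocks
open scoped Classical Pointwise

namespace CfsgLib.Blocks.Pairs

universe u v

variable {G : Type u} [Group G] [Finite G]

section Classes

variable {p : ℕ} [Fact p.Prime] {K R : Subgroup G}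

/-- A conjugacy class of a `p'`-subgroup stable under a `p`-group has a fixed point. -/
theorem exists_fixed_conj (hK : ¬ p ∣ Nat.card K) (hR : IsPGroup p R)
    (hRK : R ≤ Subgroup.normalizer (K : Set G)) {x : G}
    (hx : ∀ r ∈ R, ∃ k ∈ K, r * x * r⁻¹ = k * x * k⁻¹) :
    ∃ k ∈ K, k * x * k⁻¹ ∈ Subgroup.centralizer (R : Set G) := by
  let S := {h : G // ∃ k ∈ K, k * x * k⁻¹ = h}
  letI aK : MulAction K S :=
    { smul := fun k s => ⟨(k : G) * s.1 * (k : G)⁻¹, by
        obtain ⟨k', hk', he⟩ := s.2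
        exact ⟨k * k', K.mul_mem k.2 hk', by rw [← he]; group⟩⟩
      one_smul := fun s => Subtype.ext (by
        show ((1 : K) : G) * s.1 * ((1 : K) : G)⁻¹ = s.1
        simp)
      mul_smul := fun a b s => Subtype.ext (by
        show ((a * b : K) : G) * s.1 * ((a * b : K) : G)⁻¹ =
          (a : G) * ((b : G) * s.1 * (b : G)⁻¹) * (a : G)⁻¹
        simp [mul_assoc]) }
  let s₀ : S := ⟨x, 1, K.one_mem, by simp⟩
  haveI : MulAction.IsPretransitive K S := by
    refine MulAction.IsPretransitive.mk fun a b => ?_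
    obtain ⟨ka, hka, hea⟩ := a.2
    obtain ⟨kb, hkb, heb⟩ := b.2
    refine ⟨⟨kb * ka⁻¹, K.mul_mem hkb (K.inv_mem hka)⟩, Subtype.ext ?_⟩
    show kb * ka⁻¹ * a.1 * (kb * ka⁻¹)⁻¹ = b.1
    rw [← hea, ← heb]; group
  have hS : ¬ p ∣ Nat.card S := fun h => hK (h.trans (by
    rw [← MulAction.index_stabilizer_of_transitive K s₀]
    exact Subgroup.index_dvd_card _))
  letI aR : MulAction R S :=
    { smul := fun r s => ⟨(r : G) * s.1 * (r : G)⁻¹, by
        obtain ⟨k', hk', he⟩ := s.2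
        obtain ⟨k, hk, hke⟩ := hx r r.2
        refine ⟨(r : G) * k' * (r : G)⁻¹ * k, K.mul_mem
          ((Subgroup.mem_normalizer_iff.1 (hRK r.2) k').1 hk') hk, ?_⟩
        calc (r : G) * k' * (r : G)⁻¹ * k * x * ((r : G) * k' * (r : G)⁻¹ * k)⁻¹
            = (r : G) * k' * (r : G)⁻¹ * (k * x * k⁻¹) * (r : G) * k'⁻¹ * (r : G)⁻¹ := by group
          _ = (r : G) * s.1 * (r : G)⁻¹ := by rw [← hke, ← he]; group⟩
      one_smul := fun s => Subtype.ext (by
        show ((1 : R) : G) * s.1 * ((1 : R) : G)⁻¹ = s.1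
        simp)
      mul_smul := fun a b s => Subtype.ext (by
        show ((a * b : R) : G) * s.1 * ((a * b : R) : G)⁻¹ =
          (a : G) * ((b : G) * s.1 * (b : G)⁻¹) * (a : G)⁻¹
        simp [mul_assoc]) }
  obtain ⟨s, hs⟩ := hR.nonempty_fixed_point_of_prime_not_dvd_card S hS
  obtain ⟨k, hk, he⟩ := s.2
  refine ⟨k, hk, Subgroup.mem_centralizer_iff.2 fun r hr => ?_⟩
  have h1 : r * s.1 * r⁻¹ = s.1 := congrArg Subtype.val (hs ⟨r, hr⟩)
  rw [he]
  exact mul_inv_eq_iff_eq_mul.1 h1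

/-- Fixed points of a `p`-group conjugate in a `p'`-subgroup are conjugate by a fixed element. -/
theorem exists_fixed_conjugator (hK : ¬ p ∣ Nat.card K) (hR : IsPGroup p R)
    (hRK : R ≤ Subgroup.normalizer (K : Set G)) {c₁ c₂ k : G}
    (h₁ : c₁ ∈ Subgroup.centralizer (R : Set G)) (h₂ : c₂ ∈ Subgroup.centralizer (R : Set G))
    (hk : k ∈ K) (he : k * c₁ * k⁻¹ = c₂) :
    ∃ k' ∈ K, k' ∈ Subgroup.centralizer (R : Set G) ∧ k' * c₁ * k'⁻¹ = c₂ := by
  set D := K ⊓ Subgroup.centralizer ({c₁} : Set G) with hD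
  obtain ⟨n, hn⟩ := IsPGroup.iff_card.1 hR
  have hcop : ∀ H : Subgroup G, H ≤ K → (Nat.card R).Coprime (Nat.card H) := fun H hH => by
    rw [hn]
    exact Nat.Coprime.pow_left _ ((Nat.Prime.coprime_iff_not_dvd Fact.out).2
      fun h => hK (h.trans (Subgroup.card_dvd_of_le hH)))
  have hRc : R ≤ Subgroup.centralizer ({c₁} : Set G) := fun r hr =>
    Subgroup.mem_centralizer_singleton_iff.2 (Subgroup.mem_centralizer_iff.1 h₁ r hr)
  have hRD : R ≤ Subgroup.normalizer (D : Set G) := fun r hr =>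
    Subgroup.inf_normalizer_le_normalizer_inf ⟨hRK hr, Subgroup.le_normalizer (hRc hr)⟩
  have hsolv : Group.IsSolvable R ∨ Group.IsSolvable D := by
    haveI := hR.isNilpotent
    exact Or.inl inferInstance
  have hfix : ∀ a ∈ R, k⁻¹ * (a * k * a⁻¹) ∈ D := by
    intro a ha
    refine ⟨K.mul_mem (K.inv_mem hk) ((Subgroup.mem_normalizer_iff.1 (hRK ha) k).1 hk), ?_⟩
    have e1 : a⁻¹ * c₁ * a = c₁ := by
      rw [mul_assoc, ← Subgroup.mem_centralizer_iff.1 h₁ a ha]; group
    have e2 : a * c₂ * a⁻¹ = c₂ := by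
      rw [Subgroup.mem_centralizer_iff.1 h₂ a ha]; group
    have e3 : (a * k * a⁻¹) * c₁ * (a * k * a⁻¹)⁻¹ = c₂ := by
      calc (a * k * a⁻¹) * c₁ * (a * k * a⁻¹)⁻¹ = a * (k * (a⁻¹ * c₁ * a) * k⁻¹) * a⁻¹ := by group
        _ = c₂ := by rw [e1, he, e2]
    apply Subgroup.mem_centralizer_singleton_iff.2
    calc k⁻¹ * (a * k * a⁻¹) * c₁ = k⁻¹ * ((a * k * a⁻¹) * c₁ * (a * k * a⁻¹)⁻¹) * (a * k * a⁻¹) := by
          group
      _ = c₁ * (k⁻¹ * (a * k * a⁻¹)) := by rw [e3, ← he]; group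
  obtain ⟨d, hd, hn'⟩ := CfsgLib.Solvable.exists_mul_mem_normalizer hRD (hcop D inf_le_left) hsolv hfix
  refine ⟨k * d, K.mul_mem hk hd.1, CfsgLib.Solvable.inf_normalizer_le_centralizer hRK
    (Subgroup.disjoint_of_coprime_natCard (hcop K le_rfl)) ⟨K.mul_mem hk hd.1, hn'⟩, ?_⟩
  rw [← he, mul_assoc k d c₁, Subgroup.mem_centralizer_singleton_iff.1 hd.2]
  group

/-- The Brauer image of a block idempotent of a `p'`-subgroup is a block idempotent. -/
theorem isBlockIdem_trunc_of_pPrime {F : Type v} [Field F] [CharP F p] (hK : ¬ p ∣ Nat.card K)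
    (hR : IsPGroup p R) (hRK : R ≤ Subgroup.normalizer (K : Set G)) {e : MonoidAlgebra F G}
    (he : IsBlockIdem K e) (hfix : ConjFixed R e) (hne : trunc R e ≠ 0) :
    IsBlockIdem (K ⊓ Subgroup.centralizer (R : Set G)) (trunc R e) := by
  refine ⟨⟨fun x hx => ?_, (trunc_conjFixed (inf_le_right.trans
      (Subgroup.centralizer_le_normalizer _)) (he.mem.fixed.mono inf_le_left))⟩,
    by rw [← trunc_mul hR hfix hfix, he.idem], hne, fun z hz hzi => ?_⟩
  · rw [coeff_trunc]
    split_ifs with hc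
    · exact he.mem.supp x fun hxK => hx ⟨hxK, hc⟩
    · rfl
  -- lift `z` to a central element of `K` fixed by `R`
  have hwd : ∀ c c' : G, c ∈ K ⊓ Subgroup.centralizer (R : Set G) →
      c' ∈ K ⊓ Subgroup.centralizer (R : Set G) → ∀ k ∈ K, k * c * k⁻¹ = c' →
      z.coeff c = z.coeff c' := by
    intro c c' hc hc' k hk hkc
    obtain ⟨k', hk', hk'R, hk'e⟩ := exists_fixed_conjugator hK hR hRK hc.2 hc'.2 hk hkc
    rw [← hk'e, hz.fixed k' ⟨hk', hk'R⟩ c]
  let P : G → G → Prop := fun x c =>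
    c ∈ K ⊓ Subgroup.centralizer (R : Set G) ∧ ∃ k ∈ K, k * c * k⁻¹ = x
  let a : MonoidAlgebra F G := ofFun fun x => if h : ∃ c, P x c then z.coeff h.choose else 0
  have hval : ∀ x c, P x c → a.coeff x = z.coeff c := by
    intro x c hc
    have h : ∃ c, P x c := ⟨c, hc⟩
    simp only [a, coeff_ofFun, dif_pos h]
    obtain ⟨h1, k1, hk1, he1⟩ := h.choose_spec
    obtain ⟨k, hk, hke⟩ := hc.2
    refine hwd _ _ h1 hc.1 (k⁻¹ * k1) (K.mul_mem (K.inv_mem hk) hk1) ?_
    calc k⁻¹ * k1 * h.choose * (k⁻¹ * k1)⁻¹ = k⁻¹ * (k1 * h.choose * k1⁻¹) * k := by group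
      _ = k⁻¹ * (k * c * k⁻¹) * k := by rw [he1, hke]
      _ = c := by group
  have hzero : ∀ x, (¬ ∃ c, P x c) → a.coeff x = 0 := fun x hx => by simp [a, hx]
  have hinv : ∀ u ∈ Subgroup.normalizer (K : Set G), (∀ x c, P x c → ∃ c', P (u * x * u⁻¹) c' ∧
      z.coeff c' = z.coeff c) → (∀ x c, P (u * x * u⁻¹) c → ∃ c', P x c') →
      ∀ x, a.coeff (u * x * u⁻¹) = a.coeff x := by
    intro u _ h1 h2 x
    by_cases hx : ∃ c, P x c
    · obtain ⟨c, hc⟩ := hx
      obtain ⟨c', hc', hcz⟩ := h1 x c hc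
      rw [hval _ _ hc', hval _ _ hc, hcz]
    · rw [hzero _ hx, hzero]
      exact fun ⟨c, hc⟩ => hx (h2 x c hc)
  have haK : InCenter K a := by
    refine ⟨fun x hx => hzero x fun ⟨c, hc, k, hk, hkc⟩ => hx (hkc ▸
      K.mul_mem (K.mul_mem hk hc.1) (K.inv_mem hk)), fun u hu x => ?_⟩
    refine hinv u (Subgroup.le_normalizer hu) (fun x c ⟨hc, k, hk, hkc⟩ => ⟨c,
      ⟨hc, u * k, K.mul_mem hu hk, by rw [← hkc]; group⟩, rfl⟩)
      (fun x c ⟨hc, k, hk, hkc⟩ => ⟨c, hc, u⁻¹ * k, K.mul_mem (K.inv_mem hu) hk, ?_⟩) x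
    calc u⁻¹ * k * c * (u⁻¹ * k)⁻¹ = u⁻¹ * (k * c * k⁻¹) * u := by group
      _ = x := by rw [hkc]; group
  have haR : ConjFixed R a := by
    intro u hu x
    have hcu : ∀ c ∈ Subgroup.centralizer (R : Set G), u * c * u⁻¹ = c := fun c hc => by
      rw [Subgroup.mem_centralizer_iff.1 hc u hu]; group
    refine hinv u (hRK hu) (fun x c ⟨hc, k, hk, hkc⟩ => ⟨c, ⟨hc, u * k * u⁻¹,
      (Subgroup.mem_normalizer_iff.1 (hRK hu) k).1 hk, ?_⟩, rfl⟩)
      (fun x c ⟨hc, k, hk, hkc⟩ => ⟨c, hc, u⁻¹ * k * u,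
        (Subgroup.mem_normalizer_iff''.1 (hRK hu) k).1 hk, ?_⟩) x
    · conv_lhs => rw [← hcu c hc.2]
      rw [← hkc]; group
    · calc u⁻¹ * k * u * c * (u⁻¹ * k * u)⁻¹ = u⁻¹ * (k * (u * c * u⁻¹) * k⁻¹) * u := by group
        _ = x := by rw [hcu c hc.2, hkc]; group
  have htr : trunc R a = z := by
    ext x
    rw [coeff_trunc]
    by_cases hx : x ∈ K ⊓ Subgroup.centralizer (R : Set G)
    · rw [if_pos (show x ∈ Subgroup.centralizer (R : Set G) from hx.2)]
      exact hval x x ⟨hx, 1, K.one_mem, by simp⟩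
    · rw [hz.supp x hx]
      split_ifs with hc
      · refine hzero x fun ⟨c, hc', k, hk, hkc⟩ => hx ⟨?_, hc⟩
        exact hkc ▸ K.mul_mem (K.mul_mem hk hc'.1) (K.inv_mem hk)
      · rfl
  set f := trunc R e with hf
  have hzf : trunc R (a * e) = z * f := by rw [trunc_mul hR haR hfix, htr]
  by_cases hnil : ∀ n : ℕ, a ^ n * e ≠ 0
  · left
    obtain ⟨v, hv, hve⟩ := he.exists_inverse haK hnil
    have hvu : ∀ r ∈ R, conjA r (v * e) = v * e := by
      intro r hr
      have hKr : InCenter K (conjA r v) := by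
        have := hv.conj r
        rwa [conjSub_eq_of_mem_normalizer (hRK hr)] at this
      have h1 : a * conjA r v * e = e := by
        have := congrArg (conjA r) hve
        rwa [conjA_mul, conjA_mul, conjFixed_iff.1 haR r hr, conjFixed_iff.1 hfix r hr] at this
      rw [conjA_mul, conjFixed_iff.1 hfix r hr]
      calc conjA r v * e = conjA r v * (a * v * e) := by rw [hve]
        _ = v * (a * conjA r v * e) := by
            rw [mul_assoc a v e, ← mul_assoc, hKr.mul_comm haK, ← mul_assoc,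
              mul_assoc a (conjA r v) v, hKr.mul_comm hv, ← mul_assoc, haK.mul_comm hv]
            simp [mul_assoc]
        _ = v * e := by rw [h1]
    have hvR : ConjFixed R (v * e) := conjFixed_iff.2 hvu
    have key : z * trunc R (v * e) = f := by
      rw [← htr, ← trunc_mul hR haR hvR, ← mul_assoc, hve]
    calc z * f = z * z * trunc R (v * e) := by rw [← key, mul_assoc]
      _ = f := by rw [hzi, key]
  · right
    push Not at hnil
    obtain ⟨n, hn⟩ := hnil
    have hzn : ∀ m : ℕ, ConjFixed R (a ^ m) ∧ trunc R (a ^ m) = z ^ m := by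
      intro m
      induction m with
      | zero => exact ⟨by rw [pow_zero]; exact (inCenter_one (F := F) ⊤).conjFixed_top R, by simp⟩
      | succ m ih =>
        rw [pow_succ, pow_succ]
        exact ⟨conjFixed_mul ih.1 haR, by rw [trunc_mul hR ih.1 haR, ih.2, htr]⟩
    have h0 : z ^ n * f = 0 := by
      rw [← (hzn n).2, hf, ← trunc_mul hR (hzn n).1 hfix, hn, trunc_zero]
    rcases Nat.eq_zero_or_pos n with rfl | hn0
    · rw [pow_zero, one_mul] at h0
      rw [h0, mul_zero]
    · rwa [IsIdempotentElem.pow_eq hzi hn0.ne'] at h0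

end Classes

variable {p : ℕ} [Fact p.Prime] {M : Ideal AlgInt} [M.IsMaximal] {N H : Subgroup G}

theorem exists_eIn_down {e : MonoidAlgebra (ResField M) G} (he : IsBlockIdem N e) (hNH : N ≤ H) :
    ∃ (c : Set (IrrCharacter (N.subgroupOf H))) (hc : IsPBlock M c), up H (eIn hc) = e := by
  have hs : SuppIn H e := he.mem.supp.mono hNH
  have h : IsBlockIdem (N.subgroupOf H) (down H e) := by
    rw [← isBlockIdem_up_iff, up_down hs, Subgroup.map_subgroupOf_eq_of_le hNH]
    exact he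
  obtain ⟨c, hc, hce⟩ := exists_eIn_eq h
  exact ⟨c, hc, by rw [hce, up_down hs]⟩

/-- A stable block of a normal subgroup of `p`-power index has nonzero Brauer image at a `p`-group
covering the quotient. -/
theorem exists_trunc_ne_zero_stable (hM : IsPModular p M) [(N.subgroupOf H).Normal] (hNH : N ≤ H)
    {k : ℕ} (hidx : (N.subgroupOf H).index = p ^ k) {e : MonoidAlgebra (ResField M) G}
    (he : IsBlockIdem N e) (hfix : ConjFixed H e) :
    ∃ S ≤ H, IsPGroup p S ∧ trunc S e ≠ 0 ∧ N ⊔ S = H := by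
  obtain ⟨c, hc, hce⟩ := exists_eIn_down he hNH
  have hst : ∀ x : H, StabilizesBlock (N.subgroupOf H) c x := fun x => by
    rw [stabilizesBlock_iff hc (Subgroup.normalizer_eq_top (H := N.subgroupOf H) ▸ Subgroup.mem_top x)]
    apply up_injective H
    rw [up_conjA, hce]
    exact conjFixed_iff.1 hfix (x : G) x.2
  obtain ⟨B, hB, hBe, hBc⟩ := exists_block_top hM hidx hc hst
  obtain ⟨S, hS⟩ := exists_defectGroup hM hB
  have htop := sup_defect_eq_top hM hidx hc hst hB hBc hS
  have hmax := (isDefectGroup_iff_maxR hM hB).mp hS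
  refine ⟨S.map H.subtype, Subgroup.map_subtype_le _, hmax.pgroup.map _, ?_, ?_⟩
  · rw [← hce, ← hBe, ← trunc_down_ne_zero_iff (up_suppIn H _) S, down_up]
    exact hmax.ne_zero
  · rw [← Subgroup.map_subgroupOf_eq_of_le hNH, ← Subgroup.map_sup, htop, ← MonoidHom.range_eq_map,
      Subgroup.range_subtype]

theorem trunc_ne_zero_of_pPrime (hM : IsPModular p M) {K R : Subgroup G} [K.Normal]
    (hK : ¬ p ∣ Nat.card K) (hR : IsPGroup p R) {e : MonoidAlgebra (ResField M) G}
    (he : IsBlockIdem K e) (hfix : ConjFixed R e) : trunc R e ≠ 0 := by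
  have hp : p.Prime := Fact.out
  set H := K ⊔ R with hH
  obtain ⟨n, hn⟩ := IsPGroup.iff_card.1 hR
  obtain ⟨j, -, hj⟩ := (Nat.dvd_prime_pow hp).1 (show (K.subgroupOf H).index ∣ p ^ n by
    show K.relIndex H ∣ _
    rw [hH, Subgroup.relIndex_sup_left, ← hn]
    exact Subgroup.index_dvd_card _)
  have hfH : ConjFixed H e := conjA_fixed_of_sup he.mem.fixed hfix
  obtain ⟨S, hSH, hSp, hne, htop⟩ := exists_trunc_ne_zero_stable hM le_sup_left hj he hfH
  obtain ⟨i, hi⟩ := IsPGroup.iff_card.1 hSp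
  have hdis : ∀ (T : Subgroup G) (m : ℕ), Nat.card T = p ^ m → K.relIndex T = p ^ m := fun T m hT => by
    have hb : K.subgroupOf T = ⊥ := Subgroup.subgroupOf_eq_bot.2
      (Subgroup.disjoint_of_coprime_natCard (by
        rw [hT]
        exact Nat.Coprime.pow_right _ ((hp.coprime_iff_not_dvd.2 hK).symm)))
    rw [Subgroup.relIndex, hb, Subgroup.index_bot, hT]
  have hRi : Nat.card R = Nat.card S := by
    rw [hn, hi, ← hdis R n hn, ← hdis S i hi, ← Subgroup.relIndex_sup_left R K, ← Subgroup.relIndex_sup_left S K,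
      ← hH, htop]
  -- both are Sylow subgroups of `H`
  have hnd : ∀ T : Subgroup G, Nat.card T = Nat.card R → T ≤ H → IsPGroup p T →
      ¬ p ∣ (T.subgroupOf H).index := by
    intro T hT hTH _ hd
    have h1 : Nat.card H = Nat.card K * Nat.card R := by
      rw [← Subgroup.card_mul_index (K.subgroupOf H),
        Nat.card_congr (Subgroup.subgroupOfEquivOfLe (le_sup_left : K ≤ H)).toEquiv]
      show _ * K.relIndex H = _
      rw [hH, Subgroup.relIndex_sup_left, hdis R n hn, hn]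
    have h2 := Subgroup.card_mul_index (T.subgroupOf H)
    rw [Nat.card_congr (Subgroup.subgroupOfEquivOfLe hTH).toEquiv, h1, hT, mul_comm (Nat.card K)] at h2
    rw [mul_left_cancel₀ Nat.card_pos.ne' h2] at hd
    exact hK hd
  let sR := (hR.of_equiv (Subgroup.subgroupOfEquivOfLe (le_sup_right : R ≤ H)).symm).toSylow
    (hnd R rfl le_sup_right hR)
  let sS := (hSp.of_equiv (Subgroup.subgroupOfEquivOfLe hSH).symm).toSylow
    (hnd S hRi.symm hSH hSp)
  obtain ⟨h, hh⟩ := MulAction.exists_smul_eq H sS sR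
  have hmap : conjSub (h : G) S = R := by
    have h1 := congrArg (fun T : Sylow p H => (T : Subgroup H).map H.subtype) hh
    simp only [Sylow.coe_subgroup_smul] at h1
    rw [show MulAut.conj h • ((sS : Sylow p H) : Subgroup H) =
      conjSub h ((sS : Sylow p H) : Subgroup H) from rfl, map_conjSub] at h1
    rwa [show ((sS : Sylow p H) : Subgroup H) = S.subgroupOf H from rfl,
      show ((sR : Sylow p H) : Subgroup H) = R.subgroupOf H from rfl,
      Subgroup.map_subgroupOf_eq_of_le hSH,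
      Subgroup.map_subgroupOf_eq_of_le (le_sup_right : R ≤ H)] at h1
  intro h0
  apply hne
  rw [← hmap, ← conjFixed_iff.1 hfH (h : G) h.2, trunc_conjA] at h0
  exact conjA_injective _ (h0.trans (conjA_zero _).symm)

/-- Central idempotents are supported on the regular elements. -/
theorem coeff_eq_zero_of_singular (hM : IsPModular p M) {z : MonoidAlgebra (ResField M) G}
    (hz : InCenter H z) (hzi : z * z = z) {g : G} (hg : p ∣ orderOf g) : z.coeff g = 0 := by
  obtain ⟨s, hs, rfl⟩ := exists_sum_blockIdem H z hz hzi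
  rw [MonoidAlgebra.coeff_sum, Finset.sum_apply']
  refine Finset.sum_eq_zero fun a ha => ?_
  obtain ⟨b, hb, rfl⟩ := exists_eIn_eq (hs a ha).1
  rw [coeff_eIn]
  refine (congrArg (red M) (Subtype.ext ?_)).trans (map_zero _)
  show subgroupBlockCoeff H b g = 0
  unfold subgroupBlockCoeff
  split_ifs with hgH
  · exact CfsgLib.BlockReg.blockCoeff_singular hM hb _ (by rwa [Subgroup.orderOf_mk])
  · rfl

variable {K L Q : Subgroup G}

theorem exists_index_pow [K.Normal] (hQ : IsPGroup p Q) (hKQ : K ⊔ Q = L) :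
    ∃ k, (K.subgroupOf L).index = p ^ k := by
  obtain ⟨n, hn⟩ := IsPGroup.iff_card.1 hQ
  obtain ⟨j, -, hj⟩ := (Nat.dvd_prime_pow (Fact.out : p.Prime)).1
    (show (K.subgroupOf L).index ∣ p ^ n by
      show K.relIndex L ∣ _
      rw [← hKQ, Subgroup.relIndex_sup_left, ← hn]
      exact Subgroup.index_dvd_card _)
  exact ⟨j, hj⟩

theorem mem_of_regular [K.Normal] (hQ : IsPGroup p Q) (hKQ : K ⊔ Q = L) {x : G} (hx : x ∈ L)
    (hreg : ¬ p ∣ orderOf x) : x ∈ K := by
  obtain ⟨k, hk⟩ := exists_index_pow hQ hKQ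
  exact Subgroup.mem_subgroupOf.1 (mem_of_regular_of_index (K.subgroupOf L) Fact.out hk ⟨x, hx⟩
    (by rwa [Subgroup.orderOf_mk]))

/-- In the constrained case a stable block idempotent of the `p'`-kernel is a block idempotent. -/
theorem isBlockIdem_top_of_constrained (hM : IsPModular p M) [K.Normal] [L.Normal]
    (hK : ¬ p ∣ Nat.card K) (hQ : IsPGroup p Q) (hKQ : K ⊔ Q = L)
    (hreg : ∀ x ∈ Subgroup.centralizer (Q : Set G), ¬ p ∣ orderOf x → x ∈ K)
    {e : MonoidAlgebra (ResField M) G} (he : IsBlockIdem K e)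
    (hfix : ConjFixed (⊤ : Subgroup G) e) : IsBlockIdem (⊤ : Subgroup G) e := by
  haveI : CharP (ResField M) p := charP_resField hM.1 (natCast_mem_of_isPModular hM)
  have hKL : K ≤ L := hKQ ▸ le_sup_left
  have hQL : Q ≤ L := hKQ ▸ le_sup_right
  have hfixQ : ConjFixed Q e := hfix.mono le_top
  have heL : IsBlockIdem L e := by
    refine ⟨⟨he.mem.supp.mono hKL, hfix.mono le_top⟩, he.idem, he.ne_zero, fun z hz hzi =>
      he.prim z ⟨fun g hg => ?_, hz.fixed.mono hKL⟩ hzi⟩
    by_cases hgL : g ∈ L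
    · refine coeff_eq_zero_of_singular hM hz hzi ?_
      by_contra hd
      exact hg (mem_of_regular hQ hKQ hgL hd)
    · exact hz.supp g hgL
  have htr := trunc_ne_zero_of_pPrime hM hK hQ he hfixQ
  have hf := isBlockIdem_trunc_of_pPrime hK hQ (fun x _ =>
    Subgroup.normalizer_eq_top (H := K) ▸ Subgroup.mem_top x) he hfixQ htr
  have hec : InCenter (⊤ : Subgroup G) e := ⟨fun x hx => absurd (Subgroup.mem_top x) hx, hfix⟩
  have hkey : ∀ E, IsBlockIdem (⊤ : Subgroup G) E → E * e ≠ 0 →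
      E * e = E ∧ trunc Q E = trunc Q e := by
    intro E hE hne
    have h1 : E * e = E := by
      rw [hE.mem.mul_comm hec] at hne ⊢
      exact (hE.prim e hec he.idem).resolve_right hne
    have h2 := trunc_ne_zero_of_covered hE.mem hE.idem heL hne hQL hQ htr
    have hz : InCenter (K ⊓ Subgroup.centralizer (Q : Set G)) (trunc Q E) := by
      refine ⟨fun g hg => ?_, trunc_conjFixed (inf_le_right.trans
        (Subgroup.centralizer_le_normalizer _)) (hE.mem.fixed.mono le_top)⟩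
      rw [coeff_trunc]
      split_ifs with hc
      · refine coeff_eq_zero_of_singular hM hE.mem hE.idem ?_
        by_contra hd
        exact hg ⟨hreg g hc hd, hc⟩
      · rfl
    have hzi : trunc Q E * trunc Q E = trunc Q E := by
      rw [← trunc_mul hQ (hE.mem.conjFixed_top Q) (hE.mem.conjFixed_top Q), hE.idem]
    have h3 : trunc Q E * trunc Q e = trunc Q E := by
      rw [← trunc_mul hQ (hE.mem.conjFixed_top Q) hfixQ, h1]
    rcases hf.prim _ hz hzi with h4 | h4
    · exact ⟨h1, h3.symm.trans h4⟩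
    · exact absurd (h3.symm.trans h4) h2
  have huniq : ∀ E E', IsBlockIdem (⊤ : Subgroup G) E → E * e ≠ 0 →
      IsBlockIdem (⊤ : Subgroup G) E' → E' * e ≠ 0 → E = E' := by
    intro E E' hE hne hE' hne'
    by_contra hd
    apply htr
    rw [show trunc Q e = trunc Q E * trunc Q E' by rw [(hkey E hE hne).2, (hkey E' hE' hne').2, hf.idem],
      ← trunc_mul hQ (hE.mem.conjFixed_top Q) (hE'.mem.conjFixed_top Q), hE.mul_eq_zero hE' hd,
      trunc_zero]
  obtain ⟨E, hE, hne⟩ : ∃ E, IsBlockIdem (⊤ : Subgroup G) E ∧ E * e ≠ 0 := by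
    by_contra hcon
    push Not at hcon
    apply he.ne_zero
    rw [← one_mul e, ← sum_blks (⊤ : Subgroup G), Finset.sum_mul]
    exact Finset.sum_eq_zero fun E hE => hcon E (mem_blks.mp hE)
  have heE : e = E := by
    rw [← (hkey E hE hne).1]
    conv_lhs => rw [← one_mul e, ← sum_blks (⊤ : Subgroup G), Finset.sum_mul]
    refine Finset.sum_eq_single_of_mem E (mem_blks.2 hE) fun E' hE' hd => ?_
    by_contra h
    exact hd (huniq E' E (mem_blks.1 hE') h hE hne)
  exact heE ▸ hE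

/-- In the constrained case Brauer images of the block over a stable block of the `p'`-kernel are
block idempotents of the centralizers. -/
theorem isBlockIdem_trunc_constrained (hM : IsPModular p M) [K.Normal] [L.Normal]
    (hK : ¬ p ∣ Nat.card K) (hQ : IsPGroup p Q) (hKQ : K ⊔ Q = L)
    (hCQ : Subgroup.centralizer (Q : Set G) ≤ L)
    {e : MonoidAlgebra (ResField M) G} (he : IsBlockIdem K e)
    (hfix : ConjFixed (⊤ : Subgroup G) e) {R : Subgroup G} (hR : IsPGroup p R)
    (hRQ : R ≤ Subgroup.normalizer (Q : Set G)) :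
    IsBlockIdem (Subgroup.centralizer (R : Set G)) (trunc R e) := by
  haveI : CharP (ResField M) p := charP_resField hM.1 (natCast_mem_of_isPModular hM)
  have hp : p.Prime := Fact.out
  have hKnorm : ∀ x : G, x ∈ Subgroup.normalizer (K : Set G) := fun x =>
    Subgroup.normalizer_eq_top (H := K) ▸ Subgroup.mem_top x
  have hKQ1 : ∀ x, x ∈ K → x ∈ Q → x = 1 := by
    intro x hxK hxQ
    obtain ⟨n, hn⟩ := hQ ⟨x, hxQ⟩
    have h1 : orderOf x ∣ p ^ n := orderOf_dvd_of_pow_eq_one (congrArg Subtype.val hn)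
    have h2 : orderOf x ∣ Nat.card K := Subgroup.orderOf_dvd_natCard _ hxK
    exact orderOf_eq_one_iff.1 (Nat.eq_one_of_dvd_coprimes
      (Nat.Coprime.pow_left n (hp.coprime_iff_not_dvd.2 hK)) h1 h2)
  set C := Subgroup.centralizer (R : Set G) with hC
  have hf := isBlockIdem_trunc_of_pPrime hK hR (fun x _ => hKnorm x) he (hfix.mono le_top)
    (trunc_ne_zero_of_pPrime hM hK hR he (hfix.mono le_top))
  set K' := K.subgroupOf C
  set L' := L.subgroupOf C
  set Q' := Q.subgroupOf C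
  haveI : K'.Normal := inferInstance
  haveI : L'.Normal := inferInstance
  have hK' : ¬ p ∣ Nat.card K' := fun h => hK (h.trans (by
    rw [← Subgroup.card_map_of_injective (f := C.subtype) C.subtype_injective]
    exact Subgroup.card_dvd_of_le fun y ⟨z, hz, hzy⟩ => hzy ▸ hz))
  have hQ' : IsPGroup p Q' := hQ.comap_of_injective C.subtype C.subtype_injective
  have hfixq : ∀ q ∈ Q, (∀ r ∈ R, r * q * r⁻¹ * q⁻¹ ∈ K) → q ∈ C := by
    intro q hq h
    refine Subgroup.mem_centralizer_iff.2 fun r hr => ?_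
    have h1 := hKQ1 _ (h r hr)
      (Q.mul_mem ((Subgroup.mem_normalizer_iff.1 (hRQ hr) q).1 hq) (Q.inv_mem hq))
    exact mul_inv_eq_iff_eq_mul.1 (mul_inv_eq_one.1 h1)
  have hKQ' : K' ⊔ Q' = L' := by
    refine le_antisymm (sup_le (fun x hx => (hKQ ▸ Subgroup.mem_sup_left hx : (x : G) ∈ L))
      (fun x hx => (hKQ ▸ Subgroup.mem_sup_right hx : (x : G) ∈ L))) fun x hx => ?_
    have hx' : (x : G) ∈ K ⊔ Q := by rw [hKQ]; exact hx
    obtain ⟨k, hk, q, hq, hkq⟩ := Subgroup.mem_sup_of_normal_left.1 hx'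
    have hqC : q ∈ C := hfixq q hq fun r hr => by
      have e1 : r * (k * q) * r⁻¹ = k * q := by
        rw [hkq, Subgroup.mem_centralizer_iff.1 x.2 r hr]; group
      have : r * q * r⁻¹ * q⁻¹ = (r * k * r⁻¹)⁻¹ * k := by
        calc r * q * r⁻¹ * q⁻¹ = (r * k * r⁻¹)⁻¹ * (r * (k * q) * r⁻¹) * q⁻¹ := by group
          _ = _ := by rw [e1]; group
      rw [this]
      exact K.mul_mem (K.inv_mem ((Subgroup.mem_normalizer_iff.1 (hKnorm r) k).1 hk)) hk
    have hkC : k ∈ C := by
      rw [eq_mul_inv_of_mul_eq hkq]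
      exact C.mul_mem x.2 (C.inv_mem hqC)
    exact (show x = (⟨k, hkC⟩ : C) * ⟨q, hqC⟩ from Subtype.ext hkq.symm) ▸
      Subgroup.mul_mem_sup (show (⟨k, hkC⟩ : C) ∈ K' from hk) (show (⟨q, hqC⟩ : C) ∈ Q' from hq)
  have hreg' : ∀ x ∈ Subgroup.centralizer (Q' : Set C), ¬ p ∣ orderOf x → x ∈ K' := by
    intro x hx hxo
    rw [← Subgroup.orderOf_coe] at hxo
    suffices hxL : (x : G) ∈ L from mem_of_regular hQ hKQ hxL hxo
    set φ := QuotientGroup.mk' K
    have hQmap : Q.map φ = L.map φ := by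
      rw [← hKQ, Subgroup.map_sup,
        (Subgroup.map_eq_bot_iff _).2 (QuotientGroup.ker_mk' K).ge, bot_sup_eq]
    haveI : (L.map φ).Normal := Subgroup.Normal.map inferInstance _ (QuotientGroup.mk'_surjective K)
    have hnQ : ∀ y, y ∈ Subgroup.normalizer ((Q.map φ : Subgroup (G ⧸ K)) : Set (G ⧸ K)) := fun y => by
      rw [hQmap]
      exact Subgroup.normalizer_eq_top (H := L.map φ) ▸ Subgroup.mem_top y
    have hcomm := CfsgLib.PLoc.commute_of_pxq (P := R.map φ) (Q := Q.map φ) (x := φ x)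
      (hR.map φ) (hQ.map φ) (fun y _ => hnQ y) (hnQ _)
      (Subgroup.mem_centralizer_iff.2 (by
        rintro _ ⟨r, hr, rfl⟩
        rw [← map_mul, ← map_mul, Subgroup.mem_centralizer_iff.1 x.2 r hr]))
      ((((hp.coprime_iff_not_dvd.2 hxo).symm).coprime_dvd_left (orderOf_map_dvd φ _))) (by
        rintro _ ⟨⟨q, hq, rfl⟩, hc⟩
        have hqC : q ∈ C := hfixq q hq fun r hr => by
          rw [← QuotientGroup.eq_one_iff]
          show φ (r * q * r⁻¹ * q⁻¹) = 1
          rw [map_mul, map_mul, map_mul, map_inv, map_inv,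
            Subgroup.mem_centralizer_iff.1 hc (φ r) ⟨r, hr, rfl⟩]
          group
        rw [Subgroup.mem_centralizer_singleton_iff, ← map_mul, ← map_mul]
        exact congrArg φ (congrArg Subtype.val (Subgroup.mem_centralizer_iff.1 hx ⟨q, hqC⟩ hq)))
    have hQK : Q ≤ Subgroup.normalizer (K : Set G) := fun q _ => hKnorm q
    obtain ⟨d, hd, hn⟩ := CfsgLib.Solvable.exists_mul_mem_normalizer (A := Q) (D := K) (x := (x : G)) hQK
      (by
        obtain ⟨n, hn⟩ := IsPGroup.iff_card.1 hQ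
        rw [hn]
        exact Nat.Coprime.pow_left _ (hp.coprime_iff_not_dvd.2 hK))
      (by haveI := hQ.isNilpotent; exact Or.inl inferInstance)
      (fun a ha => by
        rw [← QuotientGroup.eq_one_iff]
        show φ ((x : G)⁻¹ * (a * x * a⁻¹)) = 1
        have := Subgroup.mem_centralizer_singleton_iff.1 (hcomm ⟨a, ha, rfl⟩)
        rw [map_mul, map_mul, map_mul, map_inv, map_inv, this]
        group)
    have hxd : (x : G) * d ∈ L := by
      refine hCQ (Subgroup.mem_centralizer_iff.2 fun q hq => ?_)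
      have h1 : ((x : G) * d) * q * ((x : G) * d)⁻¹ ∈ Q := (Subgroup.mem_normalizer_iff.1 hn q).1 hq
      have h2 : ((x : G) * d) * q * ((x : G) * d)⁻¹ * q⁻¹ ∈ K := by
        rw [← QuotientGroup.eq_one_iff]
        show φ ((x : G) * d * q * ((x : G) * d)⁻¹ * q⁻¹) = 1
        have hd1 : φ d = 1 := (QuotientGroup.eq_one_iff d).2 hd
        have := Subgroup.mem_centralizer_singleton_iff.1 (hcomm ⟨q, hq, rfl⟩)
        simp only [map_mul, map_inv, hd1, mul_one]
        rw [← this]
        group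
      exact (mul_inv_eq_iff_eq_mul.1 (mul_inv_eq_one.1
        (hKQ1 _ h2 (Q.mul_mem h1 (Q.inv_mem hq))))).symm
    have : (x : G) = (x : G) * d * d⁻¹ := by group
    rw [this]
    exact L.mul_mem hxd (L.inv_mem (hKQ ▸ Subgroup.mem_sup_left hd))
  have hfC : SuppIn C (trunc R e) := trunc_suppIn R e
  have he' : IsBlockIdem K' (down C (trunc R e)) := by
    rw [← isBlockIdem_up_iff, up_down hfC, Subgroup.subgroupOf_map_subtype]
    exact hf
  have hfix' : ConjFixed (⊤ : Subgroup C) (down C (trunc R e)) := by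
    rw [← conjFixed_up_iff, up_down hfC]
    exact (trunc_conjFixed (Subgroup.centralizer_le_normalizer _) (hfix.mono le_top)).mono
      (Subgroup.map_subtype_le _)
  have := isBlockIdem_top_of_constrained hM hK' hQ' hKQ' hreg' he' hfix'
  rwa [← isBlockIdem_up_iff, up_down hfC, ← MonoidHom.range_eq_map, Subgroup.range_subtype] at this

end CfsgLib.Blocks.Pairs
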