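import Cfsg.Agent.Lib.Blocks.Pairs.Principal
import Cfsg.Agent.Lib.Blocks.Restrict

/-!
Block induction from the centralizer of a `p`-subgroup and Brauer pairs.
-/

set_option autoImplicit false
set_option maxHeartbeats 1000000
set_option synthInstance.maxHeartbeats 400000

open Cfsg CfsgLib.Blocks
open scoped Classical

namespace CfsgLib.Blocks.Pairs

universe u

variable {G : Type u} [Group G] [Finite G] {p : ℕ} [Fact p.Prime] {M : Ideal AlgInt} [M.IsMaximal]
  {R : Subgroup G} {f : Set (IrrCharacter (Subgroup.centralizer (R : Set G)))}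

omit [Fact p.Prime] in
theorem coe_resCenter_eq_down (a : Subalgebra.center (ResField M) (MonoidAlgebra (ResField M) G)) :
    ((resCenter (Subgroup.centralizer (R : Set G)) a :
        Subalgebra.center (ResField M) (MonoidAlgebra (ResField M) (Subgroup.centralizer (R : Set G)))) :
      MonoidAlgebra (ResField M) (Subgroup.centralizer (R : Set G))) =
      down _ (trunc R (a : MonoidAlgebra (ResField M) G)) := by
  ext c
  simp [c.2]

/-- Restriction to the centralizer of a `p`-subgroup is multiplicative on the centre. -/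
theorem resCenter_mul_of_isPGroup (hM : IsPModular p M) (hR : IsPGroup p R)
    (a b : Subalgebra.center (ResField M) (MonoidAlgebra (ResField M) G)) :
    resCenter (Subgroup.centralizer (R : Set G)) (a * b) =
      resCenter (Subgroup.centralizer (R : Set G)) a * resCenter (Subgroup.centralizer (R : Set G)) b := by
  haveI : CharP (ResField M) p := charP_resField hM.1 (natCast_mem_of_isPModular hM)
  refine Subtype.ext (up_injective (Subgroup.centralizer (R : Set G)) ?_)
  rw [MulMemClass.coe_mul, up_mul, coe_resCenter_eq_down, coe_resCenter_eq_down,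
    coe_resCenter_eq_down, up_down (trunc_suppIn R _), up_down (trunc_suppIn R _),
    up_down (trunc_suppIn R _), MulMemClass.coe_mul]
  exact trunc_mul hR ((inCenter_top_iff.mpr a.2).conjFixed_top R)
    ((inCenter_top_iff.mpr b.2).conjFixed_top R)

/-- Blocks of the centralizer of a `p`-subgroup induce. -/
theorem exists_isInducedBlock_pcentralizer (hM : IsPModular p M) (hR : IsPGroup p R)
    (hf : IsPBlock M f) : ∃ B, IsInducedBlock M (Subgroup.centralizer (R : Set G)) f B := by
  set C := Subgroup.centralizer (R : Set G) with hC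
  obtain ⟨ξ, hξ⟩ := IsPBlock.nonempty hf
  let μ : Subalgebra.center (ResField M) (MonoidAlgebra (ResField M) G) →ₗ[ResField M] ResField M :=
    (lam M ξ).toLinearMap.comp (resCenter C)
  have h1 : μ 1 = 1 := by
    show lam M ξ (resCenter C 1) = 1
    rw [show resCenter C (1 : Subalgebra.center (ResField M) (MonoidAlgebra (ResField M) G)) = 1
      from Subtype.ext (MonoidAlgebra.ext (Finsupp.ext fun c => by
        rw [coeff_resCenter, OneMemClass.coe_one, OneMemClass.coe_one]
        by_cases hc : c = 1
        · subst hc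
          simp [MonoidAlgebra.one_def]
        · have hc' : (c : G) ≠ 1 := fun h => hc (Subtype.ext h)
          simp [MonoidAlgebra.one_def, Finsupp.single_eq_of_ne hc, Finsupp.single_eq_of_ne hc'])), map_one]
  have hmul : ∀ a b, μ (a * b) = μ a * μ b := fun a b => by
    show lam M ξ (resCenter C (a * b)) = lam M ξ (resCenter C a) * lam M ξ (resCenter C b)
    rw [resCenter_mul_of_isPGroup hM hR, map_mul]
  obtain ⟨χ, hχ⟩ := exists_eq_lam (AlgHom.ofLinearMap μ h1 hmul)
  refine ⟨blockOf M (χ : G → ℂ), ?_⟩
  rw [IsPBlock.eq_blockOf hf hξ]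
  exact isInducedBlock_of_lam_resCenter_eq ξ χ fun a => DFunLike.congr_fun hχ a

theorem IsInducedBlock.pair_eq (hM : IsPModular p M) (hR : IsPGroup p R) {B B' : Set (IrrCharacter G)}
    (h : IsInducedBlock M (Subgroup.centralizer (R : Set G)) f B) (hB' : IsPBlock M B') :
    trunc R (ebar hB') * eIn h.1 = eIn h.1 ↔ B = B' := by
  haveI : CharP (ResField M) p := charP_resField hM.1 (natCast_mem_of_isPModular hM)
  set C := Subgroup.centralizer (R : Set G) with hC
  obtain ⟨ξ, hξ⟩ := IsPBlock.nonempty h.1
  have hlam := CfsgLib.Blocks.IsInducedBlock.lam_resCenter_blockIdem h hB' hξ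
  have hidem : IsIdempotentElem (resCenter C (blockIdem hB')) := by
    show resCenter C (blockIdem hB') * resCenter C (blockIdem hB') = _
    rw [← resCenter_mul_of_isPGroup hM hR, isIdempotentElem_blockIdem hB']
  have hiff := lam_eq_one_iff h.1 hξ hidem
  rw [hlam, coe_resCenter_eq_down] at hiff
  have hup : ∀ a b : MonoidAlgebra (ResField M) C, up C a = up C b ↔ a = b := fun a b =>
    (up_injective C).eq_iff
  constructor
  · intro h2
    by_contra hne
    rw [if_neg hne] at hiff
    refine zero_ne_one (hiff.mpr ((hup _ _).1 ?_))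
    rw [up_mul, up_down (trunc_suppIn R _)]
    exact h2
  · intro h2
    rw [if_pos h2] at hiff
    have := congrArg (up C) (hiff.mp rfl)
    rw [up_mul, up_down (trunc_suppIn R _)] at this
    exact this

/-- The blocks of `C_G(R)` inducing `B` are the Brauer pairs of `B` at `R`. -/
theorem isInducedBlock_iff_pairOf (hM : IsPModular p M) (hR : IsPGroup p R)
    {B : Set (IrrCharacter G)} (hB : IsPBlock M B) (hf : IsPBlock M f) :
    IsInducedBlock M (Subgroup.centralizer (R : Set G)) f B ↔ PairOf p (ebar hB) R (eIn hf) := by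
  obtain ⟨B₀, hB₀⟩ := exists_isInducedBlock_pcentralizer hM hR hf
  constructor
  · intro h
    exact ⟨isBlockIdem_ebar hB, isPair_eIn hR hf, (IsInducedBlock.pair_eq hM hR h hB).mpr rfl⟩
  · intro h
    exact (IsInducedBlock.pair_eq hM hR hB₀ hB).mp h.br ▸ hB₀

end CfsgLib.Blocks.Pairs
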