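import Cfsg.Agent.Lib.Blocks.Pairs.Local

/-!
# Pairs of a subgroup as pairs of the group
-/

set_option autoImplicit false

namespace CfsgLib.Blocks.Pairs

open Cfsg CfsgLib.Blocks
open scoped Classical

universe u

variable {G : Type u} [Group G] [Finite G] {F : Type*} [Field F] {L : Subgroup G}

omit [Finite G] in
theorem centralizer_subgroupOf_map (X : Subgroup L) :
    Subgroup.centralizer (X : Set L) =
      (Subgroup.centralizer (X.map L.subtype : Set G)).subgroupOf L := by
  ext c
  rw [Subgroup.mem_subgroupOf, Subgroup.mem_centralizer_iff, Subgroup.mem_centralizer_iff]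
  constructor
  · rintro h _ ⟨x, hx, rfl⟩
    exact congrArg Subtype.val (h x hx)
  · intro h x hx
    exact Subtype.ext (h (x : G) ⟨x, hx, rfl⟩)

theorem suppIn_up_iff {K : Subgroup L} {a : MonoidAlgebra F L} :
    SuppIn (K.map L.subtype) (up L a) ↔ SuppIn K a := by
  constructor
  · intro h x hx
    rw [← coeff_up_coe L a x]
    exact h x fun ⟨y, hy, hyx⟩ => hx (Subtype.ext hyx ▸ hy)
  · intro h x hx
    by_cases hxL : x ∈ L
    · rw [show x = ((⟨x, hxL⟩ : L) : G) from rfl, coeff_up_coe]
      exact h _ fun hk => hx ⟨⟨x, hxL⟩, hk, rfl⟩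
    · exact up_suppIn L a x hxL

theorem coeff_up_conj (a : MonoidAlgebra F L) (u : L) (x : G) :
    (up L a).coeff ((u : G) * x * (u : G)⁻¹) =
      if h : x ∈ L then a.coeff (u * ⟨x, h⟩ * u⁻¹) else 0 := by
  by_cases hx : x ∈ L
  · rw [dif_pos hx, ← coeff_up_coe L a (u * ⟨x, hx⟩ * u⁻¹)]
    rfl
  · rw [dif_neg hx]
    apply up_suppIn L a
    intro h
    apply hx
    have := L.mul_mem (L.mul_mem (L.inv_mem u.2) h) u.2
    simpa [mul_assoc] using this

theorem conjFixed_up_iff {K : Subgroup L} {a : MonoidAlgebra F L} :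
    ConjFixed (K.map L.subtype) (up L a) ↔ ConjFixed K a := by
  constructor
  · intro h u hu x
    have := h (u : G) ⟨u, hu, rfl⟩ (x : G)
    rw [coeff_up_conj, dif_pos x.2, coeff_up_coe] at this
    exact this
  · rintro h _ ⟨u, hu, rfl⟩ x
    show (up L a).coeff ((u : G) * x * (u : G)⁻¹) = _
    rw [coeff_up_conj]
    by_cases hx : x ∈ L
    · rw [dif_pos hx, h u hu ⟨x, hx⟩, ← coeff_up_coe L a ⟨x, hx⟩]
    · rw [dif_neg hx, up_suppIn L a x hx]

theorem isBlockIdem_up_iff {K : Subgroup L} {e : MonoidAlgebra F L} :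
    IsBlockIdem (K.map L.subtype) (up L e) ↔ IsBlockIdem K e := by
  have hsL : ∀ {z : MonoidAlgebra F G}, SuppIn (K.map L.subtype) z → SuppIn L z :=
    fun h => h.mono (Subgroup.map_subtype_le K)
  constructor
  · intro h
    refine ⟨⟨suppIn_up_iff.mp h.mem.supp, conjFixed_up_iff.mp h.mem.fixed⟩,
      up_injective L (by rw [up_mul, h.idem]), fun h0 => h.ne_zero (by rw [h0, up_zero]),
      fun z hz hzi => ?_⟩
    rcases h.prim (up L z) ⟨suppIn_up_iff.mpr hz.supp, conjFixed_up_iff.mpr hz.fixed⟩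
      (by rw [← up_mul, hzi]) with h1 | h1
    · exact Or.inl (up_injective L (by rw [up_mul, h1]))
    · exact Or.inr (up_injective L (by rw [up_mul, h1, up_zero]))
  · intro h
    refine ⟨⟨suppIn_up_iff.mpr h.mem.supp, conjFixed_up_iff.mpr h.mem.fixed⟩,
      by rw [← up_mul, h.idem], fun h0 => h.ne_zero (up_injective L (by rw [h0, up_zero])),
      fun z hz hzi => ?_⟩
    have e1 : up L (down L z) = z := up_down (hsL hz.supp)
    rcases h.prim (down L z) ⟨suppIn_up_iff.mp (by rw [e1]; exact hz.supp),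
        conjFixed_up_iff.mp (by rw [e1]; exact hz.fixed)⟩
      (up_injective L (by rw [up_mul, e1, hzi])) with h1 | h1
    · exact Or.inl (by rw [← e1, ← up_mul, h1])
    · exact Or.inr (by rw [← e1, ← up_mul, h1, up_zero])

theorem up_trunc (X : Subgroup L) (a : MonoidAlgebra F L) :
    up L (trunc X a) = trunc (X.map L.subtype) (up L a) := by
  ext x
  by_cases hx : x ∈ L
  · rw [show x = ((⟨x, hx⟩ : L) : G) from rfl, coeff_up_coe, coeff_trunc, coeff_trunc,
      coeff_up_coe]
    exact if_congr (by rw [centralizer_subgroupOf_map, Subgroup.mem_subgroupOf]) rfl rfl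
  · rw [up_suppIn L _ x hx, coeff_trunc, up_suppIn L _ x hx, ite_self]

theorem up_conjA (c : L) (a : MonoidAlgebra F L) : up L (conjA c a) = conjA (c : G) (up L a) := by
  ext x
  rw [coeff_conjA, show (c : G)⁻¹ * x * (c : G) = ((c⁻¹ : L) : G) * x * ((c⁻¹ : L) : G)⁻¹ by simp,
    coeff_up_conj]
  by_cases hx : x ∈ L
  · refine (coeff_up_coe L (conjA c a) ⟨x, hx⟩).trans ?_
    rw [dif_pos hx, coeff_conjA, inv_inv]
  · rw [dif_neg hx, up_suppIn L _ x hx]

variable {p : ℕ}

theorem maxR_down {a : MonoidAlgebra F G} (ha : SuppIn L a) {D : Subgroup G}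
    (hD : MaxIn p L a D) : MaxR p (down L a) (D.subgroupOf L) := by
  refine ⟨hD.pgroup.of_equiv (Subgroup.subgroupOfEquivOfLe hD.le).symm, ?_, fun R hR hne => ?_⟩
  · rw [trunc_down_ne_zero_iff ha, Subgroup.map_subgroupOf_eq_of_le hD.le]
    exact hD.ne_zero
  · obtain ⟨y, hy, hle⟩ := hD.max (R.map L.subtype) (Subgroup.map_subtype_le R) (hR.map _)
      ((trunc_down_ne_zero_iff ha R).mp hne)
    refine ⟨⟨y, hy⟩, (Subgroup.map_le_map_iff_of_injective L.subtype_injective).mp ?_⟩
    rw [map_conjSub, Subgroup.map_subgroupOf_eq_of_le hD.le]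
    exact hle

theorem IsPair.up_of_le {A : Subgroup L} {a : MonoidAlgebra F L} (h : IsPair p A a)
    (hle : Subgroup.centralizer (A.map L.subtype : Set G) ≤ L) :
    IsPair p (A.map L.subtype) (up L a) := by
  refine ⟨h.pgroup.map _, ?_⟩
  have h1 := h.block
  rw [centralizer_subgroupOf_map, ← isBlockIdem_up_iff, Subgroup.map_subgroupOf_eq_of_le hle] at h1
  exact h1

theorem IsPair.down_of_le {A : Subgroup G} {a : MonoidAlgebra F G} (h : IsPair p A a)
    (hA : A ≤ L) (hle : Subgroup.centralizer (A : Set G) ≤ L) :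
    IsPair p (A.subgroupOf L) (down L a) := by
  refine ⟨h.pgroup.of_equiv (Subgroup.subgroupOfEquivOfLe hA).symm, ?_⟩
  rw [centralizer_subgroupOf_map, ← isBlockIdem_up_iff, Subgroup.map_subgroupOf_eq_of_le hA,
    Subgroup.map_subgroupOf_eq_of_le hle, up_down (h.block.mem.supp.mono hle)]
  exact h.block

theorem NS.up_of_le {A B : Subgroup L} {a b : MonoidAlgebra F L} (h : NS p A a B b)
    (hle : Subgroup.centralizer (A.map L.subtype : Set G) ≤ L) :
    NS p (A.map L.subtype) (up L a) (B.map L.subtype) (up L b) :=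
  ⟨h.pairQ.up_of_le hle,
    h.pairP.up_of_le ((centralizer_anti (Subgroup.map_mono h.le)).trans hle),
    Subgroup.map_mono h.le,
    (Subgroup.map_mono h.norm).trans (Subgroup.le_normalizer_map _),
    conjFixed_up_iff.mpr h.fix, by rw [← up_trunc, ← up_mul, h.br]⟩

theorem SLE.up_of_le {A B : Subgroup L} {a b : MonoidAlgebra F L} (h : SLE p A a B b)
    (hle : Subgroup.centralizer (A.map L.subtype : Set G) ≤ L) :
    SLE p (A.map L.subtype) (up L a) (B.map L.subtype) (up L b) := by
  suffices ∀ c : Subgroup L × MonoidAlgebra F L,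
      Relation.ReflTransGen (fun a b : Subgroup L × MonoidAlgebra F L => NS p a.1 a.2 b.1 b.2)
        (A, a) c → Subgroup.centralizer (c.1.map L.subtype : Set G) ≤ L ∧
          SLE p (A.map L.subtype) (up L a) (c.1.map L.subtype) (up L c.2) from (this _ h).2
  intro c hc
  induction hc with
  | refl => exact ⟨hle, SLE.refl _ _⟩
  | tail _ hbc ih =>
    exact ⟨(centralizer_anti (Subgroup.map_mono hbc.le)).trans ih.1,
      ih.2.trans (hbc.up_of_le ih.1).sle⟩

variable [Fact p.Prime] [CharP F p]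

/-- Conjugation of local pairs by an element of the local group. -/
theorem exists_conj_sle_local {Q D X : Subgroup G} {f g h : MonoidAlgebra F G}
    (hQL : Q ≤ L) (hCL : Subgroup.centralizer (Q : Set G) ≤ L)
    (hLN : L ≤ Subgroup.normalizer (Q : Set G)) (hfix : ConjFixed L f)
    (hD : MaxIn p L f D) (hg : NS p Q f D g) (hh : NS p Q f X h) (hXL : X ≤ L) :
    ∃ c ∈ L, SLE p (conjSub c X) (conjA c h) D g := by
  have hf := isBlockIdem_of_stable hh.pairQ hQL hLN hCL hfix
  have hsupp : SuppIn L f := hf.mem.supp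
  have hpair : ∀ {Y : Subgroup G} {k : MonoidAlgebra F G}, NS p Q f Y k → Y ≤ L →
      PairOf p (down L f) (Y.subgroupOf L) (down L k) := by
    intro Y k hk hY
    have hCY : Subgroup.centralizer (Y : Set G) ≤ L := (centralizer_anti hk.le).trans hCL
    refine ⟨isBlockIdem_down hf, hk.pairP.down_of_le hY hCY, up_injective L ?_⟩
    rw [up_mul, up_trunc, up_down hsupp, up_down (hk.pairP.block.mem.supp.mono hCY),
      Subgroup.map_subgroupOf_eq_of_le hY, hk.br]
  have hPD := hpair hg hD.le
  obtain ⟨c, hc⟩ := exists_conj_sle hPD ((maxR_down hsupp hD).noExt hPD) (hpair hh hXL)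
  have hCX : Subgroup.centralizer (X : Set G) ≤ L := (centralizer_anti hh.le).trans hCL
  have hmap : (conjSub c (X.subgroupOf L)).map L.subtype = conjSub (c : G) X := by
    rw [map_conjSub, Subgroup.map_subgroupOf_eq_of_le hXL]
  have hle : Subgroup.centralizer ((conjSub c (X.subgroupOf L)).map L.subtype : Set G) ≤ L := by
    rw [hmap, centralizer_conjSub]
    intro y hy
    have h1 := L.mul_mem (L.mul_mem c.2 (hCX (mem_conjSub.mp hy))) (L.inv_mem c.2)
    simpa [mul_assoc] using h1
  refine ⟨c, c.2, ?_⟩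
  have := hc.up_of_le hle
  rwa [hmap, up_conjA, Subgroup.map_subgroupOf_eq_of_le hD.le,
    up_down (hh.pairP.block.mem.supp.mono hCX),
    up_down (hg.pairP.block.mem.supp.mono ((centralizer_anti hg.le).trans hCL))] at this

end CfsgLib.Blocks.Pairs
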