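import Cfsg.Agent.Lib.Blocks.Pairs.Inertial
import Mathlib.RingTheory.IntegralDomain
import Mathlib.GroupTheory.SpecificGroups.Cyclic

/-!
The inertial quotient of a cyclic maximal pair.
-/

set_option autoImplicit false

open Cfsg CfsgLib.Blocks
open scoped Classical

namespace CfsgLib.Blocks.Pairs

universe u

variable {G : Type u} [Group G] [Finite G] {p : ℕ} [Fact p.Prime] {P : Subgroup G}

omit [Finite G] in
/-- A power map of order prime to `p` fixing a nonidentity element of a cyclic `p`-group is trivial. -/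
theorem fix_of_regular_action (hP : IsPGroup p P) {x y g : G} (hx : P = Subgroup.zpowers x)
    (hy : y ∈ P) (hy1 : y ≠ 1) (hgy : g * y * g⁻¹ = y) (hgN : g ∈ Subgroup.normalizer (P : Set G))
    {r : ℕ} (hr : ¬ p ∣ r) (hgr : g ^ r * x * (g ^ r)⁻¹ = x) : g * x * g⁻¹ = x := by
  have hp : p.Prime := Fact.out
  have hxP : x ∈ P := hx ▸ Subgroup.mem_zpowers x
  obtain ⟨n, hn⟩ := hP ⟨x, hxP⟩
  have hn' : x ^ p ^ n = 1 := congrArg Subtype.val hn
  obtain ⟨e, -, he⟩ := (Nat.dvd_prime_pow hp).1 (orderOf_dvd_of_pow_eq_one hn')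
  have hfin : IsOfFinOrder x := isOfFinOrder_iff_pow_eq_one.2 ⟨p ^ n, pow_pos hp.pos _, hn'⟩
  obtain ⟨m, hm⟩ : ∃ m : ℕ, x ^ m = g * x * g⁻¹ := by
    have : g * x * g⁻¹ ∈ Subgroup.zpowers x := hx ▸ (Subgroup.mem_normalizer_iff.1 hgN x).1 hxP
    exact hfin.mem_powers_iff_mem_zpowers.2 this
  obtain ⟨i, hi⟩ : ∃ i : ℕ, x ^ i = y := hfin.mem_powers_iff_mem_zpowers.2 (hx ▸ hy)
  have hiter : ∀ j : ℕ, g ^ j * x * (g ^ j)⁻¹ = x ^ m ^ j := by
    intro j
    induction j with
    | zero => simp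
    | succ j ih =>
      calc g ^ (j + 1) * x * (g ^ (j + 1))⁻¹ = g ^ j * (g * x * g⁻¹) * (g ^ j)⁻¹ := by
            rw [pow_succ]; group
        _ = (g ^ j * x * (g ^ j)⁻¹) ^ m := by rw [← hm, conj_pow]
        _ = x ^ m ^ (j + 1) := by rw [ih, ← pow_mul, pow_succ]
  rw [← hm]
  conv_rhs => rw [← pow_one x]
  rw [pow_eq_pow_iff_modEq, he]
  rcases Nat.eq_zero_or_pos e with rfl | he0
  · simp [Nat.ModEq, Nat.mod_one]
  -- `m ≡ 1` modulo `p`
  have h1 : m ≡ 1 [MOD p] := by
    have h2 : x ^ (m * i) = x ^ i := by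
      rw [pow_mul, hm, conj_pow, hi, hgy]
    rw [pow_eq_pow_iff_modEq, he] at h2
    rw [Nat.modEq_iff_dvd]
    have h3 : ((p ^ e : ℕ) : ℤ) ∣ ((1 : ℕ) - (m : ℤ)) * (i : ℤ) := by
      have := Nat.modEq_iff_dvd.1 h2
      push_cast at this ⊢
      rwa [sub_mul, one_mul]
    by_contra hp1
    refine hy1 ?_
    rw [← hi, ← orderOf_dvd_iff_pow_eq_one, he]
    have hco : IsCoprime ((p ^ e : ℕ) : ℤ) ((1 : ℕ) - (m : ℤ)) := by
      push_cast
      exact ((Nat.prime_iff_prime_int.1 hp).coprime_iff_not_dvd.2 (by simpa using hp1)).pow_left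
    exact Int.natCast_dvd_natCast.1 (hco.dvd_of_dvd_mul_left h3)
  have h2 : (m : ℤ) ^ (p ^ e) ≡ 1 [ZMOD (p ^ e : ℕ)] := by
    refine Int.modEq_iff_dvd.2 ?_
    have h := dvd_sub_pow_of_dvd_sub (R := ℤ) (p := p) (a := (1 : ℤ)) (b := (m : ℤ))
      (by have := Nat.modEq_iff_dvd.1 h1; simpa using this) e
    rw [one_pow] at h
    push_cast
    exact (pow_dvd_pow _ (Nat.le_succ e)).trans h
  have h3 : (m : ℤ) ^ r ≡ 1 [ZMOD (p ^ e : ℕ)] := by
    have h := hiter r
    rw [hgr] at h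
    conv_lhs at h => rw [← pow_one x]
    rw [pow_eq_pow_iff_modEq, he] at h
    have := (Int.natCast_modEq_iff.2 h).symm
    push_cast at this
    simpa using this
  rw [← Int.natCast_modEq_iff, ← ZMod.intCast_eq_intCast_iff]
  rw [← ZMod.intCast_eq_intCast_iff] at h2 h3
  push_cast at h2 h3 ⊢
  have : (m : ZMod (p ^ e)) ^ Nat.gcd (p ^ e) r = 1 := pow_gcd_eq_one.2 ⟨h2, h3⟩
  rwa [((Nat.Coprime.pow_left e (hp.coprime_iff_not_dvd.2 hr))).gcd_eq_one, pow_one] at this

/-- A cyclic maximal pair: the inertial quotient acts freely, is cyclic, and divides `p - 1`. -/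
theorem cyclic_inertial {T : Subgroup G} (hP : IsPGroup p P) (hP1 : P ≠ ⊥) (hcyc : IsCyclic P)
    (hTN : T ≤ Subgroup.normalizer (P : Set G))
    (hpow : ∀ g ∈ T, ∃ r : ℕ, ¬ p ∣ r ∧ g ^ r ∈ Subgroup.centralizer (P : Set G))
    [((Subgroup.centralizer (P : Set G)).subgroupOf T).Normal] :
    IsCyclic (T ⧸ (Subgroup.centralizer (P : Set G)).subgroupOf T) ∧
      (Subgroup.centralizer (P : Set G)).relIndex T ∣ p - 1 ∧ Free P T := by
  have hp : p.Prime := Fact.out
  obtain ⟨x, hx⟩ := (Subgroup.isCyclic_iff_exists_zpowers_eq_top P).1 hcyc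
  have hx' : P = Subgroup.zpowers x := hx.symm
  have hxP : x ∈ P := hx' ▸ Subgroup.mem_zpowers x
  have hfree : Free P T := by
    intro g hg y hy hy1 hgy
    obtain ⟨r, hr, hrC⟩ := hpow g hg
    have h1 := fix_of_regular_action hP hx' hy hy1 hgy (hTN hg) hr (by
      rw [← Subgroup.mem_centralizer_iff.1 hrC x hxP]; group)
    rw [hx', Subgroup.zpowers_eq_closure, Subgroup.centralizer_closure,
      Subgroup.mem_centralizer_singleton_iff]
    exact mul_inv_eq_iff_eq_mul.1 h1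
  refine ⟨?_, ?_⟩
  all_goals
    have hx1 : x ≠ 1 := fun h => hP1 (by rw [hx', h, Subgroup.zpowers_one_eq_bot])
    obtain ⟨n, hn⟩ := hP ⟨x, hxP⟩
    obtain ⟨e, -, he⟩ := (Nat.dvd_prime_pow hp).1
      (orderOf_dvd_of_pow_eq_one (congrArg Subtype.val hn : x ^ p ^ n = 1))
    have he0 : e ≠ 0 := fun h => hx1 (orderOf_eq_one_iff.1 (by rw [he, h, pow_zero]))
    set z := x ^ p ^ (e - 1) with hz
    have hzo : orderOf z = p := by
      rw [hz, orderOf_pow_of_dvd (pow_ne_zero _ hp.ne_zero) (by rw [he]; exact pow_dvd_pow p (Nat.sub_le e 1)),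
        he, Nat.pow_div (Nat.sub_le e 1) hp.pos, show e - (e - 1) = 1 by omega, pow_one]
    have hzP : z ∈ P := P.pow_mem hxP _
    set Z := Subgroup.zpowers z with hZ
    have hTZ : T ≤ Subgroup.normalizer (Z : Set G) := by
      intro g hg
      have hg' := hTN hg
      have key : ∀ u ∈ Subgroup.normalizer (P : Set G), ∀ w ∈ Z, u * w * u⁻¹ ∈ Z := by
        intro u hu w hw
        obtain ⟨i, rfl⟩ := Subgroup.mem_zpowers_iff.1 hw
        obtain ⟨j, hj⟩ := Subgroup.mem_zpowers_iff.1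
          (show u * x * u⁻¹ ∈ Subgroup.zpowers x from hx' ▸ (Subgroup.mem_normalizer_iff.1 hu x).1 hxP)
        refine Subgroup.mem_zpowers_iff.2 ⟨j * i, ?_⟩
        have : u * z * u⁻¹ = z ^ j := by
          rw [hz, ← conj_pow, ← hj, ← zpow_natCast, ← zpow_natCast, ← zpow_mul, ← zpow_mul, mul_comm]
        rw [zpow_mul, ← this, conj_zpow]
      rw [Subgroup.mem_normalizer_iff]
      exact fun w => ⟨key g hg' w, fun h => by
        simpa [mul_assoc] using key g⁻¹ (inv_mem hg') _ h⟩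
    let ψ : T →* MulAut Z := Z.normalizerMonoidHom.comp (Subgroup.inclusion hTZ)
    have hker : ψ.ker = (Subgroup.centralizer (P : Set G)).subgroupOf T := by
      ext t
      rw [MonoidHom.mem_ker]
      show Z.normalizerMonoidHom (Subgroup.inclusion hTZ t) = 1 ↔ _
      rw [← MonoidHom.mem_ker, Subgroup.normalizerMonoidHom_ker, Subgroup.mem_subgroupOf,
        Subgroup.mem_subgroupOf]
      constructor
      · intro ht
        refine hfree t t.2 z hzP (fun h => hp.ne_one (by rw [← hzo, h, orderOf_one])) ?_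
        have h : z * (t : G) = (t : G) * z :=
          Subgroup.mem_centralizer_iff.1 ht z (Subgroup.mem_zpowers z)
        rw [← h]; group
      · intro ht
        exact Subgroup.centralizer_le (Subgroup.zpowers_le.2 hzP) ht
    haveI : IsCyclic Z := inferInstance
    haveI : Fact p.Prime := ⟨hp⟩
    have hZc : Nat.card Z = p := by rw [hZ, Nat.card_zpowers, hzo]
    let E : MulAut Z ≃* (ZMod p)ˣ := (IsCyclic.mulAutMulEquiv Z).trans
      (Units.mapEquiv (ZMod.ringEquivCongr hZc).toMulEquiv)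
    let q := QuotientGroup.kerLift (E.toMonoidHom.comp ψ)
    have hker2 : (E.toMonoidHom.comp ψ).ker = (Subgroup.centralizer (P : Set G)).subgroupOf T := by
      rw [← hker]
      ext t
      simp [MonoidHom.mem_ker]
  · have hq : IsCyclic (T ⧸ (E.toMonoidHom.comp ψ).ker) :=
      isCyclic_of_injective q (QuotientGroup.kerLift_injective _)
    exact isCyclic_of_surjective (QuotientGroup.quotientMulEquivOfEq hker2).toMonoidHom
      (QuotientGroup.quotientMulEquivOfEq hker2).surjective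
  · refine ⟨?_, hfree⟩
    rw [Subgroup.relIndex, ← hker2, Subgroup.index_ker, ← ZMod.card_units p, ← Nat.card_eq_fintype_card]
    exact Subgroup.card_subgroup_dvd_card _

end CfsgLib.Blocks.Pairs
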