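import Cfsg.Agent.Lib.Blocks.Pairs.FusionSystem

/-!
# Saturation of the fusion system of a block
-/

set_option autoImplicit false

namespace CfsgLib.Blocks.Pairs

open Cfsg CfsgLib.Blocks
open scoped Classical

universe u

variable {G : Type u} [Group G] [Finite G] {p : ℕ} [Fact p.Prime] {M : Ideal AlgInt}
  [M.IsMaximal] [CharP (ResField M) p]

/-- A block idempotent of any subgroup has a largest subgroup. -/
theorem exists_maxIn_of_isBlockIdem (hM : IsPModular p M) {L : Subgroup G}
    {a : MonoidAlgebra (ResField M) G} (h : IsBlockIdem L a) : ∃ E, MaxIn p L a E := by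
  obtain ⟨b, hb, rfl⟩ := exists_eIn_eq h
  exact exists_maxIn hM hb

/-- Full automization at a well-placed pair. -/
theorem isFullyAutomized_of_maxIn (hM : IsPModular p M) {P Q : Subgroup G}
    {e f : MonoidAlgebra (ResField M) G} (hP : IsPair p P e) (h : SLE p Q f P e)
    (hD : MaxIn p (pairStab Q f) f (P ⊓ Subgroup.normalizer (Q : Set G))) :
    (pairFusion p P e hP).IsFullyAutomized p Q := by
  set T := pairStab Q f
  set D := P ⊓ Subgroup.normalizer (Q : Set G)
  set C := Subgroup.centralizer (Q : Set G)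
  have hQp := h.pair_left hP
  have hCT : C ≤ T := centralizer_le_pairStab hQp
  let ψ : T →* MulAut Q := Q.normalizerMonoidHom.comp
    (Subgroup.inclusion (fun y hy => hy.1 : T ≤ Subgroup.normalizer (Q : Set G)))
  have hψ : ∀ (t : T) (x : Q), ((ψ t x : Q) : G) = (t : G) * x * (t : G)⁻¹ := fun t x => rfl
  have hA : (pairFusion p P e hP).autGroup Q = ψ.range := by
    rw [autGroup_pairFusion hP h]
    ext α
    rw [CfsgLib.Fusion.mem_autInducedBy_iff]
    constructor
    · rintro ⟨t, ht, hα⟩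
      exact ⟨⟨t, ht⟩, MulEquiv.ext fun x => Subtype.ext ((hψ _ x).trans (hα x).symm)⟩
    · rintro ⟨t, rfl⟩
      exact ⟨t, t.2, hψ t⟩
  have hB : autInducedBy P Q = (D.subgroupOf T).map ψ := by
    ext α
    rw [CfsgLib.Fusion.mem_autInducedBy_iff]
    constructor
    · rintro ⟨t, ht, hα⟩
      have htN : t ∈ Subgroup.normalizer (Q : Set G) :=
        CfsgLib.Fusion.mem_normalizer_of_forall hα
      exact ⟨⟨t, hD.le ⟨ht, htN⟩⟩, ⟨ht, htN⟩,
        MulEquiv.ext fun x => Subtype.ext ((hψ _ x).trans (hα x).symm)⟩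
    · rintro ⟨t, ht, rfl⟩
      exact ⟨t, ht.1, hψ t⟩
  have hBp : IsPGroup p (autInducedBy P Q) := hB ▸
    (hD.pgroup.of_equiv (Subgroup.subgroupOfEquivOfLe hD.le).symm).map ψ
  haveI : Finite (MulAut Q) := CfsgLib.Fusion.finite_mulAut
  -- every p-subgroup of the automorphism group is no larger
  have key : ∀ X : Subgroup (MulAut Q), IsPGroup p X → X ≤ ψ.range →
      Nat.card X ≤ Nat.card (autInducedBy P Q) := by
    intro X hX hXle
    -- a p-subgroup of the stabilizer covering X
    obtain ⟨f₀, hf₀, hfe⟩ := exists_eIn_eq hQp.block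
    let Y : Subgroup T := X.comap ψ
    obtain ⟨S₀⟩ : Nonempty (Sylow p Y) := inferInstance
    let θ : Y →* X := (ψ.comp Y.subtype).codRestrict X fun y => y.2
    have hθ : Function.Surjective θ := fun a => by
      obtain ⟨t, ht⟩ := hXle a.2
      exact ⟨⟨t, show ψ t ∈ X from ht ▸ a.2⟩, Subtype.ext ht⟩
    let S : Subgroup G := ((S₀ : Subgroup Y).map Y.subtype).map T.subtype
    have hST : S ≤ T := Subgroup.map_subtype_le _
    have hcover : ∀ a ∈ X, ∃ t : T, (t : G) ∈ S ∧ ψ t = a := by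
      intro a ha
      have htop : ((S₀.mapSurjective hθ : Sylow p X) : Subgroup X) = ⊤ := by
        refine ((S₀.mapSurjective hθ).3 (Q := ⊤) ?_ le_top).symm
        exact hX.to_subgroup ⊤
      have hmem : (⟨a, ha⟩ : X) ∈ ((S₀.mapSurjective hθ : Sylow p X) : Subgroup X) :=
        htop ▸ Subgroup.mem_top _
      rw [Sylow.coe_mapSurjective] at hmem
      obtain ⟨y, hy, hya⟩ := hmem
      exact ⟨(y : T), ⟨(y : T), ⟨y, hy, rfl⟩, rfl⟩, congrArg Subtype.val hya⟩
    obtain ⟨g, hgC, hgne, hgS⟩ := exists_fixed_class hM hf₀ (K := C) (S := S)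
      ((S₀.2.map _).map _)
      (hST.trans fun y hy => normalizer_le_normalizer_centralizer Q hy.1)
      (by rw [hfe]; exact conjFixed_iff.mpr fun u hu => (hST hu).2)
    let W : Subgroup T := (Subgroup.centralizer ({g} : Set G)).subgroupOf T
    have hXW : X ≤ W.map ψ := by
      intro a ha
      obtain ⟨t, ht, rfl⟩ := hcover a ha
      obtain ⟨k, hk, hkg⟩ := hgS t ht
      refine ⟨(⟨k, hCT hk⟩ : T)⁻¹ * t, ?_, ?_⟩
      · show k⁻¹ * (t : G) ∈ Subgroup.centralizer ({g} : Set G)
        rw [Subgroup.mem_centralizer_singleton_iff]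
        calc k⁻¹ * (t : G) * g = k⁻¹ * ((t : G) * g * (t : G)⁻¹) * t := by group
          _ = k⁻¹ * (k * g * k⁻¹) * t := by rw [hkg]
          _ = g * (k⁻¹ * t) := by group
      · have h1 : ψ (⟨k, hCT hk⟩ : T) = 1 := MulEquiv.ext fun x => Subtype.ext (by
          rw [hψ]
          show k * (x : G) * k⁻¹ = x
          rw [← Subgroup.mem_centralizer_iff.mp hk x x.2, mul_inv_cancel_right])
        rw [map_mul, map_inv, h1, inv_one, one_mul]
    obtain ⟨R₀⟩ : Nonempty (Sylow p W) := inferInstance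
    let η : W →* W.map ψ := ψ.subgroupMap W
    let R₁ : Sylow p (W.map ψ) := R₀.mapSurjective (f := η) (ψ.subgroupMap_surjective W)
    have hR₁ : Nat.card X ≤ Nat.card (((R₀ : Subgroup W).map W.subtype).map ψ) := by
      obtain ⟨R₂, hR₂⟩ :=
        (hX.of_equiv (Subgroup.subgroupOfEquivOfLe hXW).symm).exists_le_sylow
      have e1 : Nat.card (R₁ : Subgroup (W.map ψ)) =
          Nat.card (((R₀ : Subgroup W).map W.subtype).map ψ) := by
        rw [← Subgroup.card_map_of_injective (W.map ψ).subtype_injective]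
        congr 2
        rw [Sylow.coe_mapSurjective, Subgroup.map_map, Subgroup.map_map]
        rfl
      calc Nat.card X = Nat.card (X.subgroupOf (W.map ψ)) :=
            (Nat.card_congr (Subgroup.subgroupOfEquivOfLe hXW).toEquiv).symm
        _ ≤ Nat.card (R₂ : Subgroup (W.map ψ)) := Subgroup.card_le_of_le hR₂
        _ = Nat.card (R₁ : Subgroup (W.map ψ)) := by
            rw [R₂.card_eq_multiplicity, R₁.card_eq_multiplicity]
        _ = _ := e1
    let R : Subgroup T := (R₀ : Subgroup W).map W.subtype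
    have hRne : trunc (R.map T.subtype) f ≠ 0 := by
      rw [trunc_ne_zero_iff]
      refine ⟨g, Subgroup.mem_centralizer_iff.mpr ?_, by rw [← hfe]; exact hgne⟩
      rintro _ ⟨_, ⟨w, -, rfl⟩, rfl⟩
      exact Subgroup.mem_centralizer_singleton_iff.mp w.2
    obtain ⟨y, hy, hyle⟩ := hD.max (R.map T.subtype) (Subgroup.map_subtype_le R)
      ((R₀.2.map _).map _) hRne
    have hle : conjSub (⟨y, hy⟩ : T) R ≤ D.subgroupOf T := by
      refine (Subgroup.map_le_map_iff_of_injective T.subtype_injective).mp ?_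
      rw [map_conjSub, Subgroup.map_subgroupOf_eq_of_le hD.le]
      exact hyle
    have hle2 : (conjSub (⟨y, hy⟩ : T) R).map ψ ≤ autInducedBy P Q :=
      hB ▸ Subgroup.map_mono hle
    have e2 : (conjSub (⟨y, hy⟩ : T) R).map ψ = conjSub (ψ ⟨y, hy⟩) (R.map ψ) := by
      refine SetLike.ext fun α => ⟨?_, ?_⟩
      · rintro ⟨_, ⟨r, hr, rfl⟩, rfl⟩
        exact ⟨ψ r, ⟨r, hr, rfl⟩, by simp [MulAut.conj_apply]⟩
      · rintro ⟨_, ⟨r, hr, rfl⟩, rfl⟩
        exact ⟨_, ⟨r, hr, rfl⟩, by simp [MulAut.conj_apply]⟩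
    have h3 := Subgroup.card_le_of_le hle2
    rw [e2, card_map_conj] at h3
    exact hR₁.trans h3
  refine ⟨h.le, ?_⟩
  refine ⟨{ toSubgroup := (autInducedBy P Q).subgroupOf ((pairFusion p P e hP).autGroup Q)
            isPGroup' := IsPGroup.comap_subtype hBp
            is_maximal' := ?_ }, rfl⟩
  intro X hX hle
  have hBA : autInducedBy P Q ≤ (pairFusion p P e hP).autGroup Q :=
    CfsgLib.Fusion.autInducedBy_le_autGroup _ h.le
  refine (Subgroup.eq_of_le_of_card_ge hle ?_).symm
  rw [Nat.card_congr (Subgroup.subgroupOfEquivOfLe hBA).toEquiv,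
    ← Subgroup.card_map_of_injective (Subgroup.subtype_injective _)]
  exact key _ (hX.map _) (hA ▸ Subgroup.map_subtype_le X)

/-- The fusion system of a maximal pair is saturated. -/
theorem isSaturated_pairFusion (hM : IsPModular p M) {P : Subgroup G}
    {B e : MonoidAlgebra (ResField M) G} (hP : PairOf p B P e) (hno : NoExt p P e) :
    (pairFusion p P e hP.pair).IsSaturated p := by
  intro Q hQ
  obtain ⟨f, hf⟩ := (existsUnique_sle hP.pair hQ).1
  have hQp := hf.pair_left hP.pair
  have hTN : pairStab Q f ≤ Subgroup.normalizer (Q : Set G) := fun y hy => hy.1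
  have hfix : ConjFixed (pairStab Q f) f := conjFixed_iff.mpr fun y hy => hy.2
  obtain ⟨D, hD⟩ := exists_maxIn_of_isBlockIdem hM
    (isBlockIdem_of_stable hQp (le_pairStab hQp) hTN (centralizer_le_pairStab hQp) hfix)
  obtain ⟨x, hx, hmx⟩ :=
    exists_conj_maxIn hP hno hf hTN (centralizer_le_pairStab hQp) hfix hD
  rw [conjSub_pairStab] at hmx
  have heq : P ⊓ pairStab (conjSub x Q) (conjA x f) =
      P ⊓ Subgroup.normalizer (conjSub x Q : Set G) :=
    le_antisymm (inf_le_inf_left _ fun y hy => hy.1)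
      (le_inf inf_le_left (inf_normalizer_le_pairStab hP.pair hx))
  rw [heq] at hmx
  refine ⟨conjSub x Q, ⟨conjHom Q x, ⟨x, fun u => rfl, f, hf, hx⟩, ?_⟩,
    isFullyAutomized_of_maxIn hM hP.pair hx hmx,
    isReceptive_of_maxIn hP.pair hx hmx fun L hL => exists_maxIn_of_isBlockIdem hM hL⟩
  exact range_eq_conjSub fun u => rfl

end CfsgLib.Blocks.Pairs
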