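import Cfsg.Agent.Lib.Blocks.Pairs.Principal
import Cfsg.Agent.Lib.Blocks.Defect

/-!
# Defect groups and maximal Brauer pairs
-/

set_option autoImplicit false

namespace CfsgLib.Blocks.Pairs

open Cfsg CfsgLib.Blocks
open scoped Classical

universe u

variable {G : Type u} [Group G]

omit [Group G] in
theorem trunc_ne_zero_iff {G : Type u} [Group G] [Finite G] {F : Type*} [Field F] {P : Subgroup G}
    {a : MonoidAlgebra F G} :
    trunc P a ≠ 0 ↔ ∃ c ∈ Subgroup.centralizer (P : Set G), a.coeff c ≠ 0 := by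
  constructor
  · intro h
    by_contra hc
    push Not at hc
    apply h
    ext x
    by_cases hx : x ∈ Subgroup.centralizer (P : Set G)
    · simp [hx, hc x hx]
    · simp [hx]
  · rintro ⟨c, hc, hne⟩ h
    apply hne
    have := congrArg (fun a => a.coeff c) h
    simpa [hc] using this

theorem blockCoeff_conjugate [Finite G] (B : Set (IrrCharacter G)) (x g : G) :
    blockCoeff B (x * g * x⁻¹) = blockCoeff B g :=
  blockCoeff_conj B x g

theorem centralChar_conjugate [Finite G] (χ : IrrCharacter G) (x g : G) :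
    centralChar (χ : G → ℂ) (x * g * x⁻¹) = centralChar (χ : G → ℂ) g := by
  have h : IsConj g (x * g * x⁻¹) := isConj_iff.2 ⟨x, rfl⟩
  unfold centralChar
  rw [← CfsgLib.BlockReg.char_conj_invariant χ g _ h, ← conj_centralizer_singleton,
    Subgroup.index_map_of_bijective (MulAut.conj x).bijective]

variable [Finite G] {p : ℕ} {M : Ideal AlgInt} {B : Set (IrrCharacter G)}

theorem isDefectClass_conjugate {g : G} (hg : IsDefectClass M B g) (x : G) :
    IsDefectClass M B (x * g * x⁻¹) := by
  unfold IsDefectClass at *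
  rw [blockCoeff_conjugate]
  simp only [centralChar_conjugate]
  exact hg

variable [Fact p.Prime]

theorem isDefectGroup_conjugate {D : Subgroup G} (hD : IsDefectGroup p M B D) (x : G) :
    IsDefectGroup p M B (conjSub x D) := by
  obtain ⟨g, hg, hgD⟩ := (isDefectGroup_iff _).1 hD
  exact ⟨x * g * x⁻¹, isDefectClass_conjugate hg x, hgD.conj x⟩

variable [M.IsMaximal]

theorem trunc_ebar_ne_zero_iff (hM : IsPModular p M) (hB : IsPBlock M B) {D : Subgroup G}
    (hD : IsDefectGroup p M B D) {P : Subgroup G} (hP : IsPGroup p P) :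
    trunc P (ebar hB) ≠ 0 ↔ ∃ x : G, conjSub x P ≤ D := by
  rw [trunc_ne_zero_iff, ← brTo_blockIdem_ne_zero_iff hM hB hD hP
    (le_refl (Subgroup.centralizer (P : Set G))), brTo_ne_zero_iff le_rfl]
  rfl

theorem maxR_of_isDefectGroup (hM : IsPModular p M) (hB : IsPBlock M B) {D : Subgroup G}
    (hD : IsDefectGroup p M B D) : MaxR p (ebar hB) D :=
  ⟨isPGroup_defectGroup hD,
    (trunc_ebar_ne_zero_iff hM hB hD (isPGroup_defectGroup hD)).2 ⟨1, by simp⟩,
    fun _ hR hne => (trunc_ebar_ne_zero_iff hM hB hD hR).1 hne⟩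

theorem isDefectGroup_iff_maxR (hM : IsPModular p M) (hB : IsPBlock M B) {D : Subgroup G} :
    IsDefectGroup p M B D ↔ MaxR p (ebar hB) D := by
  refine ⟨maxR_of_isDefectGroup hM hB, fun h => ?_⟩
  obtain ⟨E, hE⟩ := exists_defectGroup hM hB
  obtain ⟨x, hx⟩ := (maxR_of_isDefectGroup hM hB hE).exists_conj h
  exact hx ▸ isDefectGroup_conjugate hE x

/-- The first member of a maximal Brauer pair is a defect group. -/
theorem isDefectGroup_of_isMaximalBrauerPair (hM : IsPModular p M) {P : Subgroup G}
    {e : Set (IrrCharacter (Subgroup.centralizer (P : Set G)))}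
    (h : IsMaximalBrauerPair p M B P e) : IsDefectGroup p M B P := by
  haveI : CharP (ResField M) p := charP_resField hM.1 (natCast_mem_of_isPModular hM)
  obtain ⟨hB, he, hP, hno⟩ := noExt_of_isMaximalBrauerPair hM h
  exact (isDefectGroup_iff_maxR hM hB).2 (maxR_of_noExt hP hno)

end CfsgLib.Blocks.Pairs
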