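import Cfsg.Agent.Lib.Blocks.Pairs.LocalPure
import Cfsg.Agent.Lib.Blocks.Pairs.Defect

/-!
# Defect groups of blocks of subgroups, and blocks of stabilizers
-/

set_option autoImplicit false

namespace CfsgLib.Blocks.Pairs

open Cfsg CfsgLib.Blocks
open scoped Classical

universe u

variable {G : Type u} [Group G] [Finite G]

theorem trunc_down_ne_zero_iff {F : Type*} [Field F] {K : Subgroup G} {a : MonoidAlgebra F G}
    (ha : SuppIn K a) (R : Subgroup K) :
    trunc R (down K a) ≠ 0 ↔ trunc (R.map K.subtype) a ≠ 0 := by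
  rw [trunc_ne_zero_iff, trunc_ne_zero_iff]
  constructor
  · rintro ⟨c, hc, hne⟩
    refine ⟨c, Subgroup.mem_centralizer_iff.mpr ?_, by simpa using hne⟩
    rintro _ ⟨r, hr, rfl⟩
    exact congrArg Subtype.val (Subgroup.mem_centralizer_iff.mp hc r hr)
  · rintro ⟨c, hc, hne⟩
    have hcK : c ∈ K := by
      by_contra h
      exact hne (ha c h)
    exact ⟨⟨c, hcK⟩, Subgroup.mem_centralizer_iff.mpr fun r hr =>
      Subtype.ext (Subgroup.mem_centralizer_iff.mp hc (r : G) ⟨r, hr, rfl⟩), by simpa using hne⟩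

variable {p : ℕ} [Fact p.Prime] {M : Ideal AlgInt} [M.IsMaximal] {K : Subgroup G}
  {e : Set (IrrCharacter K)}

theorem map_conjSub (y : K) (R : Subgroup K) :
    (conjSub y R).map K.subtype = conjSub (y : G) (R.map K.subtype) := by
  unfold conjSub
  rw [Subgroup.map_map, Subgroup.map_map]
  congr 1

/-- Defect groups of a block of a subgroup, inside the whole group. -/
theorem isDefectGroup_iff_maxIn (hM : IsPModular p M) (he : IsPBlock M e) (D : Subgroup K) :
    IsDefectGroup p M e D ↔ MaxIn p K (eIn he) (D.map K.subtype) := by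
  rw [isDefectGroup_iff_maxR hM he]
  have hsupp : SuppIn K (eIn he) := up_suppIn K _
  have key : ∀ R : Subgroup K,
      trunc R (ebar he) ≠ 0 ↔ trunc (R.map K.subtype) (eIn he) ≠ 0 := fun R => by
    rw [← trunc_down_ne_zero_iff hsupp R, eIn, down_up]
  constructor
  · intro h
    refine ⟨Subgroup.map_subtype_le _, h.pgroup.map _, (key D).mp h.ne_zero,
      fun R hRK hR hne => ?_⟩
    obtain ⟨y, hy⟩ := h.max (R.subgroupOf K) (hR.of_equiv (Subgroup.subgroupOfEquivOfLe hRK).symm)
      ((key _).mpr (by rwa [Subgroup.map_subgroupOf_eq_of_le hRK]))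
    refine ⟨y, y.2, ?_⟩
    have := Subgroup.map_mono (f := K.subtype) hy
    rwa [map_conjSub, Subgroup.map_subgroupOf_eq_of_le hRK] at this
  · intro h
    refine ⟨h.pgroup.of_equiv
      (Subgroup.equivMapOfInjective _ _ K.subtype_injective).symm, (key D).mpr h.ne_zero,
      fun R hR hne => ?_⟩
    obtain ⟨y, hy, hle⟩ := h.max (R.map K.subtype) (Subgroup.map_subtype_le R) (hR.map _)
      ((key R).mp hne)
    refine ⟨⟨y, hy⟩, ?_⟩
    have h2 : (conjSub (⟨y, hy⟩ : K) R).map K.subtype ≤ D.map K.subtype := by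
      rw [map_conjSub]; exact hle
    exact (Subgroup.map_le_map_iff_of_injective K.subtype_injective).mp h2

theorem isDefectGroup_subgroupOf (hM : IsPModular p M) (he : IsPBlock M e) {D : Subgroup G}
    (h : MaxIn p K (eIn he) D) : IsDefectGroup p M e (D.subgroupOf K) := by
  rw [isDefectGroup_iff_maxIn hM he, Subgroup.map_subgroupOf_eq_of_le h.le]
  exact h

theorem exists_maxIn (hM : IsPModular p M) (he : IsPBlock M e) :
    ∃ D, MaxIn p K (eIn he) D := by
  obtain ⟨D, hD⟩ := exists_defectGroup hM he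
  exact ⟨_, (isDefectGroup_iff_maxIn hM he D).mp hD⟩

/-- A `p`-subgroup with nonzero Brauer image lies in a defect group. -/
theorem exists_defectGroup_ge (hM : IsPModular p M) (he : IsPBlock M e) {R : Subgroup G}
    (hRK : R ≤ K) (hR : IsPGroup p R) (hne : trunc R (eIn he) ≠ 0) :
    ∃ D : Subgroup K, IsDefectGroup p M e D ∧ R.subgroupOf K ≤ D := by
  obtain ⟨E, hE⟩ := exists_defectGroup hM he
  obtain ⟨y, hy, hle⟩ := ((isDefectGroup_iff_maxIn hM he E).mp hE).max R hRK hR hne
  refine ⟨conjSub (⟨y, hy⟩ : K)⁻¹ E, isDefectGroup_conjugate hE _, fun r hr => ?_⟩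
  rw [mem_conjSub, inv_inv]
  obtain ⟨s, hs, hsr⟩ := hle (show y * (r : G) * y⁻¹ ∈ conjSub y R from
    mem_conjSub.mpr (by simpa [mul_assoc] using Subgroup.mem_subgroupOf.mp hr))
  have : s = (⟨y, hy⟩ : K) * r * (⟨y, hy⟩ : K)⁻¹ := Subtype.ext (by simpa using hsr)
  exact this ▸ hs

omit [Fact p.Prime] in
theorem subgroupBlockCoeff_of_fixed (he : IsPBlock M e) {x : G}
    (hx : x ∈ Subgroup.normalizer (K : Set G)) (h : conjA x (eIn he) = eIn he) (g : G) :
    subgroupBlockCoeff K e (x * g * x⁻¹) = subgroupBlockCoeff K e g := by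
  let φ : K ≃* K :=
    { toFun := fun k => ⟨x⁻¹ * k * x, (Subgroup.mem_normalizer_iff''.mp hx k).mp k.2⟩
      invFun := fun k => ⟨x * k * x⁻¹, (Subgroup.mem_normalizer_iff.mp hx k).mp k.2⟩
      left_inv := fun k => Subtype.ext (by simp [mul_assoc])
      right_inv := fun k => Subtype.ext (by simp [mul_assoc])
      map_mul' := fun a b => Subtype.ext (by simp [mul_assoc]) }
  have hp : pullSet φ e = e := eIn_injective (isPBlock_pullSet φ he) he (by
    rw [eIn_conj φ x (fun _ => rfl) (conjSub_eq_of_mem_normalizer hx).symm he, h])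
  by_cases hg : g ∈ K
  · have hg' : x * g * x⁻¹ ∈ K := (Subgroup.mem_normalizer_iff.mp hx g).mp hg
    rw [subgroupBlockCoeff, subgroupBlockCoeff, dif_pos hg', dif_pos hg]
    conv_lhs => rw [← hp, blockCoeff_pullSet]
    congr 1
    exact Subtype.ext (show x⁻¹ * (x * g * x⁻¹) * x = g by group)
  · rw [subgroupBlockCoeff, subgroupBlockCoeff, dif_neg hg,
      dif_neg fun h' => hg ((Subgroup.mem_normalizer_iff.mp hx g).mpr h')]

omit [Fact p.Prime] in
/-- The exact idempotent of a block of a subgroup determines that of a block of a larger group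
having the same idempotent modulo `M`. -/
theorem blockCoeff_eq_subgroupBlockCoeff {T : Subgroup G} (he : IsPBlock M e) (hKT : K ≤ T)
    (hTN : T ≤ Subgroup.normalizer (K : Set G)) (hfix : ConjFixed T (eIn he))
    {F : Set (IrrCharacter T)} (hF : IsPBlock M F) (hFe : eIn hF = eIn he) (t : T) :
    blockCoeff F t = subgroupBlockCoeff K e (t : G) := by
  haveI := Fintype.ofFinite G
  set β : G → ℂ := subgroupBlockCoeff K e with hβ
  have hβsupp : SuppIn T (ofFun β : MonoidAlgebra ℂ G) := fun x hx => by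
    simp [β, subgroupBlockCoeff, show x ∉ K from fun h => hx (hKT h)]
  have hidem : (ofFun β : MonoidAlgebra ℂ G) * ofFun β = ofFun β := by
    have e1 : (ofFun β : MonoidAlgebra ℂ G) = up K (ofFun (blockCoeff e)) := by
      ext x
      by_cases hx : x ∈ K <;> simp [β, up, subgroupBlockCoeff, hx]
    have e2 : idemC e * idemC e = idemC e := omega_ext fun χ => by
      rw [map_mul, omega_idemC]
      unfold blockInd
      split_ifs <;> simp
    have e3 := congrArg Subtype.val e2
    simp only [MulMemClass.coe_mul, coe_idemC] at e3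
    rw [e1, ← up_mul, e3]
  let zR : Subalgebra.center (locRing M) (MonoidAlgebra (locRing M) T) :=
    ⟨ofFun fun s => ⟨β s, subgroupBlockCoeff_mem he _⟩, ofFun_mem_center fun u x =>
      Subtype.ext (subgroupBlockCoeff_of_fixed he (hTN u.2)
        (conjFixed_iff.mp hfix (u : G) u.2) (x : G))⟩
  have hC : ((mapCenter (locRing M).subtype zR : Subalgebra.center ℂ (MonoidAlgebra ℂ T)) :
      MonoidAlgebra ℂ T) = down T (ofFun β) := by
    ext x; simp [coe_mapCenter, zR]
  have hzi : zR * zR = zR := mapCenter_injective (locRing M).subtype_injective (by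
    rw [map_mul]
    refine Subtype.ext ?_
    rw [MulMemClass.coe_mul, hC]
    exact up_injective T (by rw [up_mul, up_down hβsupp, hidem]))
  have hres : mapCenter (red M) zR = blockIdem hF := Subtype.ext (up_injective T (by
    show up T _ = eIn hF
    rw [hFe]
    ext x
    by_cases hx : x ∈ T
    · rw [coeff_eIn]
      simp [up, hx, coe_mapCenter, zR, β]
    · rw [up_suppIn T _ x hx, coeff_eIn]
      exact ((map_zero (red M)).symm.trans (congrArg (red M) (Subtype.ext (by
        simp [subgroupBlockCoeff, show x ∉ K from fun h => hx (hKT h)]))))))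
  have hlam : ∀ χ : IrrCharacter T, lamR M χ zR = blockInd F χ := by
    intro χ
    have h1 : red M (lamR M χ zR) = blockInd F χ := by rw [← lam_mapCenter, hres, lam_blockIdem]
    have h2 : lamR M χ zR = 0 ∨ lamR M χ zR = 1 :=
      IsIdempotentElem.iff_eq_zero_or_one.mp (IsIdempotentElem.map hzi (lamR M χ))
    by_cases hχ : χ ∈ F
    · rw [blockInd, if_pos hχ] at h1 ⊢
      exact h2.resolve_left fun h => zero_ne_one (α := ResField M) (by rw [← h1, h, map_zero])
    · rw [blockInd, if_neg hχ] at h1 ⊢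
      exact h2.resolve_right fun h => one_ne_zero (α := ResField M) (by rw [← h1, h, map_one])
  have hzF : mapCenter (locRing M).subtype zR = idemC F :=
    omega_ext fun χ => by rw [omega_idemC, ← coe_lamR, hlam, coe_blockInd]
  have h4 := congrArg (fun a : Subalgebra.center ℂ (MonoidAlgebra ℂ T) =>
    (a : MonoidAlgebra ℂ T).coeff t) hzF
  simp only [hC, coe_idemC, coeff_down, coeff_ofFun] at h4
  exact h4.symm

/-- The block of the stabilizer with the idempotent of a given block of the centralizer. -/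
theorem exists_block_stabilizer (hM : IsPModular p M) {Q T : Subgroup G}
    {f : Set (IrrCharacter (Subgroup.centralizer (Q : Set G)))} (hf : IsPBlock M f)
    (hQ : IsPGroup p Q) (hT : ∀ y : G, y ∈ T ↔ y ∈ Subgroup.normalizer (Q : Set G) ∧
      StabilizesBlock (Subgroup.centralizer (Q : Set G)) f y) :
    T ≤ Subgroup.normalizer (Q : Set G) ∧ Subgroup.centralizer (Q : Set G) ≤ T ∧
      ConjFixed T (eIn hf) ∧
      ∃ (F : Set (IrrCharacter T)) (hF : IsPBlock M F), eIn hF = eIn hf ∧
        ∀ t : T, blockCoeff F t =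
          subgroupBlockCoeff (Subgroup.centralizer (Q : Set G)) f (t : G) := by
  haveI : CharP (ResField M) p := charP_resField hM.1 (natCast_mem_of_isPModular hM)
  have hTN : T ≤ Subgroup.normalizer (Q : Set G) := fun y hy => ((hT y).mp hy).1
  have hmem : ∀ y ∈ Subgroup.normalizer (Q : Set G),
      conjA y (eIn hf) = eIn hf → y ∈ T := fun y hy h =>
    (hT y).mpr ⟨hy, (stabilizesBlock_iff hf (normalizer_le_normalizer_centralizer Q hy)).mpr h⟩
  have hCT : Subgroup.centralizer (Q : Set G) ≤ T := fun y hy =>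
    hmem y (Subgroup.centralizer_le_normalizer _ hy)
      (conjFixed_iff.mp (isBlockIdem_eIn hf).mem.fixed y hy)
  have hQT : Q ≤ T := fun y hy => hmem y (Subgroup.le_normalizer hy)
    (conjFixed_iff.mp (suppIn_centralizer_conjFixed (isBlockIdem_eIn hf).mem.supp) y hy)
  have hfix : ConjFixed T (eIn hf) := conjFixed_iff.mpr fun y hy =>
    (stabilizesBlock_iff hf (normalizer_le_normalizer_centralizer Q (hTN hy))).mp
      ((hT y).mp hy).2
  obtain ⟨F, hF, hFe⟩ :=
    exists_eIn_eq (isBlockIdem_of_stable (isPair_eIn hQ hf) hQT hTN hCT hfix)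
  exact ⟨hTN, hCT, hfix, F, hF, hFe, fun t => blockCoeff_eq_subgroupBlockCoeff hf hCT
    (hTN.trans (normalizer_le_normalizer_centralizer Q)) hfix hF hFe t⟩

end CfsgLib.Blocks.Pairs
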