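import Cfsg.Agent.Lib.Blocks.Pairs.Local
import Mathlib.RingTheory.Finiteness.Basic
import Mathlib.RingTheory.Finiteness.Nakayama
import Mathlib.RingTheory.Jacobson.Ideal

/-!
# Idempotents with local integral coefficients are determined by their reductions
-/

set_option autoImplicit false

namespace CfsgLib.Blocks.Pairs

open Cfsg CfsgLib.Blocks
open scoped Classical

universe u

variable {G : Type u} [Group G] [Finite G] {M : Ideal AlgInt} [M.IsMaximal]

/-- Local integral coefficients. -/
def Loc (M : Ideal AlgInt) [M.IsPrime] (a : MonoidAlgebra ℂ G) : Prop := ∀ g, a.coeff g ∈ locRing M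

/-- Reduction of an element with local integral coefficients. -/
noncomputable def rd (M : Ideal AlgInt) [M.IsMaximal] (a : MonoidAlgebra ℂ G) :
    MonoidAlgebra (ResField M) G :=
  ofFun fun g => if h : a.coeff g ∈ locRing M then red M ⟨_, h⟩ else 0

theorem coeff_rd {a : MonoidAlgebra ℂ G} (ha : Loc M a) (g : G) :
    (rd M a).coeff g = red M ⟨a.coeff g, ha g⟩ := by simp [rd, dif_pos (ha g)]

theorem Loc.mul {a b : MonoidAlgebra ℂ G} (ha : Loc M a) (hb : Loc M b) : Loc M (a * b) := by
  haveI := Fintype.ofFinite G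
  intro g
  rw [coeff_mul_group]
  exact sum_mem fun x _ => mul_mem (ha x) (hb _)

theorem Loc.zero : Loc M (0 : MonoidAlgebra ℂ G) := fun g => by simp

theorem Loc.sum {ι : Type*} {s : Finset ι} {a : ι → MonoidAlgebra ℂ G}
    (ha : ∀ i ∈ s, Loc M (a i)) : Loc M (∑ i ∈ s, a i) := by
  intro g
  rw [MonoidAlgebra.coeff_sum, Finsupp.finsetSum_apply]
  exact sum_mem fun i hi => ha i hi g

theorem Loc.conjA {a : MonoidAlgebra ℂ G} (ha : Loc M a) (x : G) :
    Loc M (Pairs.conjA x a) := fun g => by simpa using ha _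

theorem rd_zero : rd M (0 : MonoidAlgebra ℂ G) = 0 := by
  ext g
  rw [coeff_rd Loc.zero]
  exact (congrArg (red M) (Subtype.ext (by simp) : _ = (0 : locRing M))).trans (map_zero _)

theorem rd_mul {a b : MonoidAlgebra ℂ G} (ha : Loc M a) (hb : Loc M b) :
    rd M (a * b) = rd M a * rd M b := by
  haveI := Fintype.ofFinite G
  ext g
  rw [coeff_rd (ha.mul hb), coeff_mul_group (rd M a)]
  have h : (⟨(a * b).coeff g, ha.mul hb g⟩ : locRing M) =
      ∑ x : G, ⟨a.coeff x, ha x⟩ * ⟨b.coeff (x⁻¹ * g), hb _⟩ := by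
    apply Subtype.ext
    rw [AddSubmonoidClass.coe_finsetSum]
    exact coeff_mul_group a b g
  rw [h, map_sum]
  refine Finset.sum_congr rfl fun x _ => ?_
  rw [map_mul, coeff_rd ha, coeff_rd hb]

theorem rd_sum {ι : Type*} {s : Finset ι} {a : ι → MonoidAlgebra ℂ G}
    (ha : ∀ i, Loc M (a i)) : rd M (∑ i ∈ s, a i) = ∑ i ∈ s, rd M (a i) := by
  ext g
  rw [coeff_rd (Loc.sum fun i _ => ha i), MonoidAlgebra.coeff_sum (s := s) (f := fun i => rd M (a i)),
    Finsupp.finsetSum_apply]
  rw [Finset.sum_congr rfl (fun i _ => coeff_rd (ha i) g), ← map_sum]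
  congr 1
  apply Subtype.ext
  rw [AddSubmonoidClass.coe_finsetSum]
  simp [MonoidAlgebra.coeff_sum, Finsupp.finsetSum_apply]

theorem rd_conjA {a : MonoidAlgebra ℂ G} (ha : Loc M a) (x : G) :
    rd M (conjA x a) = conjA x (rd M a) := by
  ext g
  refine (coeff_rd (ha.conjA x) g).trans ?_
  refine Eq.trans ?_ (coeff_conjA x (rd M a) g).symm
  rw [coeff_rd ha]
  exact congrArg (red M) (Subtype.ext (coeff_conjA x a g))

theorem ker_red_le_jacobson :
    RingHom.ker (red M) ≤ (⊥ : Ideal (locRing M)).jacobson := by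
  intro x hx
  rw [Ideal.mem_jacobson_bot]
  intro y
  refine isUnit_of_red_ne_zero ?_
  rw [map_add, map_mul, RingHom.mem_ker.mp hx, zero_mul, zero_add, map_one]
  exact one_ne_zero

/-- Commuting idempotents with local integral coefficients and equal reductions are equal. -/
theorem idem_ext {a b : MonoidAlgebra ℂ G} (ha : Loc M a) (hb : Loc M b) (hai : a * a = a)
    (hbi : b * b = b) (hab : a * b = b * a) (h : rd M a = rd M b) : a = b := by
  haveI := Fintype.ofFinite G
  set d := a - b with hd
  have hdloc : Loc M d := fun g => by simp [hd, sub_mem (ha g) (hb g)]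
  have hd3 : d * d * d = d := by
    have h1 : a * (a * b) = a * b := by rw [← mul_assoc, hai]
    have h2 : b * (a * b) = a * b := by rw [← mul_assoc, ← hab, mul_assoc, hbi]
    have h3 : a * b * b = a * b := by rw [mul_assoc, hbi]
    simp only [hd, sub_mul, mul_sub, mul_assoc, hai, hbi, ← hab, h1, h2]
    abel
  let δ : G → locRing M := fun g => ⟨d.coeff g, hdloc g⟩
  have hker : ∀ g, δ g ∈ RingHom.ker (red M) := fun g => by
    have h1 := congrArg (fun z => z.coeff g) h
    simp only [coeff_rd ha, coeff_rd hb] at h1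
    rw [RingHom.mem_ker, show δ g = ⟨a.coeff g, ha g⟩ - ⟨b.coeff g, hb g⟩ from
      Subtype.ext (by simp [δ, hd]), map_sub, h1, sub_self]
  let I : Ideal (locRing M) := Ideal.span (Set.range δ)
  have hI : I ≤ RingHom.ker (red M) • I := by
    rw [Ideal.span_le]
    rintro _ ⟨g, rfl⟩
    have e : δ g = ∑ x : G, (∑ y : G, δ y * δ (y⁻¹ * x)) * δ (x⁻¹ * g) := by
      apply Subtype.ext
      show d.coeff g = _
      conv_lhs => rw [← hd3, coeff_mul_group]
      rw [AddSubmonoidClass.coe_finsetSum]
      refine Finset.sum_congr rfl fun x _ => ?_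
      rw [MulMemClass.coe_mul, AddSubmonoidClass.coe_finsetSum, coeff_mul_group]
      rfl
    rw [SetLike.mem_coe, e]
    exact sum_mem fun x _ => Submodule.smul_mem_smul
      (sum_mem fun y _ => Ideal.mul_mem_right _ _ (hker y)) (Ideal.subset_span ⟨_, rfl⟩)
  have hI0 : I = ⊥ := Submodule.eq_bot_of_le_smul_of_le_jacobson_bot (RingHom.ker (red M)) I
    (Submodule.fg_span (Set.finite_range δ)) hI ker_red_le_jacobson
  refine sub_eq_zero.mp ?_
  ext g
  have : δ g ∈ I := Ideal.subset_span ⟨g, rfl⟩
  rw [hI0, Ideal.mem_bot] at this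
  simpa [δ, hd] using congrArg Subtype.val this

/-- The exact idempotent of a block of a subgroup, in the complex group algebra. -/
noncomputable def exactIn (H : Subgroup G) (e : Set (IrrCharacter H)) : MonoidAlgebra ℂ G :=
  ofFun (subgroupBlockCoeff H e)

theorem exactIn_eq_up (H : Subgroup G) (e : Set (IrrCharacter H)) :
    exactIn H e = up H (ofFun (blockCoeff e)) := by
  ext x
  by_cases hx : x ∈ H <;> simp [exactIn, up, subgroupBlockCoeff, hx]

theorem exactIn_idem (H : Subgroup G) (e : Set (IrrCharacter H)) :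
    exactIn H e * exactIn H e = exactIn H e := by
  have e2 : idemC e * idemC e = idemC e := omega_ext fun χ => by
    rw [map_mul, omega_idemC]
    unfold blockInd
    split_ifs <;> simp
  have e3 := congrArg Subtype.val e2
  simp only [MulMemClass.coe_mul, coe_idemC] at e3
  rw [exactIn_eq_up, ← up_mul, e3]

theorem inCenter_exactIn (H : Subgroup G) (e : Set (IrrCharacter H)) :
    InCenter H (exactIn H e) := by
  rw [exactIn_eq_up]
  exact inCenter_up (inCenter_top_iff.mpr (idemC e).2)

theorem loc_exactIn {H : Subgroup G} {e : Set (IrrCharacter H)} (he : IsPBlock M e) :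
    Loc M (exactIn H e) := fun g => by simpa [exactIn] using subgroupBlockCoeff_mem he g

theorem rd_exactIn {H : Subgroup G} {e : Set (IrrCharacter H)} (he : IsPBlock M e) :
    rd M (exactIn H e) = eIn he := by
  ext g
  rw [coeff_rd (loc_exactIn he), coeff_eIn]
  rfl

/-- The exact idempotent of a block, in the complex group algebra. -/
noncomputable def exact (B : Set (IrrCharacter G)) : MonoidAlgebra ℂ G := ofFun (blockCoeff B)

theorem exact_idem (B : Set (IrrCharacter G)) : exact B * exact B = exact B := by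
  have e2 : idemC B * idemC B = idemC B := omega_ext fun χ => by
    rw [map_mul, omega_idemC]
    unfold blockInd
    split_ifs <;> simp
  simpa [exact] using congrArg Subtype.val e2

theorem inCenter_exact (B : Set (IrrCharacter G)) : InCenter (⊤ : Subgroup G) (exact B) :=
  inCenter_top_iff.mpr (idemC B).2

theorem loc_exact {B : Set (IrrCharacter G)} (hB : IsPBlock M B) : Loc M (exact B) :=
  fun g => by simpa [exact] using blockCoeff_mem hB g

theorem rd_exact {B : Set (IrrCharacter G)} (hB : IsPBlock M B) : rd M (exact B) = ebar hB := by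
  ext g
  rw [coeff_rd (loc_exact hB), coeff_ebar]
  rfl

end CfsgLib.Blocks.Pairs
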