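import Cfsg.Agent.Lib.Blocks.Pairs.InducedPair
import Cfsg.Agent.Lib.Blocks.Pairs.SubTransport

/-!
Induction inside a subgroup from the centralizer of a `p`-subgroup, as inclusion of pairs.
-/

set_option autoImplicit false
set_option maxHeartbeats 1000000
set_option synthInstance.maxHeartbeats 400000

open Cfsg CfsgLib.Blocks
open scoped Classical

namespace CfsgLib.Blocks.Pairs

universe u

variable {G : Type u} [Group G] [Finite G] {p : ℕ} [Fact p.Prime] {M : Ideal AlgInt} [M.IsMaximal]

/-- Induction inside `H` from `C_G(P)` is read off the Brauer map at `P`. -/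
theorem isInducedBlockIn_iff (hM : IsPModular p M) {H P : Subgroup G} (hP : IsPGroup p P)
    (hPH : P ≤ H) (hCH : Subgroup.centralizer (P : Set G) ≤ H)
    {c : Set (IrrCharacter (Subgroup.centralizer (P : Set G)))} (hc : IsPBlock M c)
    {f : Set (IrrCharacter H)} (hf : IsPBlock M f) :
    IsInducedBlockIn M H (Subgroup.centralizer (P : Set G)) c f ↔
      trunc P (eIn hf) * eIn hc = eIn hc := by
  haveI := Fintype.ofFinite (Subgroup.centralizer (P : Set G))
  set P' := P.subgroupOf H with hP'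
  set C' := Subgroup.centralizer (P' : Set H) with hC'
  haveI := Fintype.ofFinite C'
  have hC'eq : C' = (Subgroup.centralizer (P : Set G)).subgroupOf H := by
    rw [hC', centralizer_subgroupOf_map, hP', Subgroup.map_subgroupOf_eq_of_le hPH]
  let φ : C' ≃* Subgroup.centralizer (P : Set G) :=
    (MulEquiv.subgroupCongr hC'eq).trans (Subgroup.subgroupOfEquivOfLe hCH)
  have hφ : ∀ k : C', (φ k : G) = ((k : H) : G) := fun k => rfl
  have hc' := isPBlock_pullSet φ hc
  have hval : ∀ (ξ : IrrCharacter (Subgroup.centralizer (P : Set G))) (h : H),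
      inducedCentralChar C' (pull φ ξ : C' → ℂ) h =
        inducedCentralCharIn H (Subgroup.centralizer (P : Set G))
          (ξ : Subgroup.centralizer (P : Set G) → ℂ) (h : G) := by
    intro ξ h
    refine finsum_mem_eq_of_bijOn φ ⟨fun k hk => ?_, φ.injective.injOn, fun k hk => ?_⟩
      fun k _ => by rw [pull_apply, pull_apply, map_one]
    · obtain ⟨x, hx⟩ := isConj_iff.1 (IsConj.symm hk)
      exact ⟨x, by rw [hφ]; exact congrArg Subtype.val hx⟩
    · obtain ⟨x, hx⟩ := hk
      refine ⟨φ.symm k, (isConj_iff.2 ⟨x, Subtype.ext ?_⟩ : IsConj ((φ.symm k : C') : H) h).symm,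
        φ.apply_symm_apply k⟩
      show (x : G) * ((φ.symm k : H) : G) * (x : G)⁻¹ = (h : G)
      rw [← hφ, φ.apply_symm_apply, hx]
  have hup : up H (eIn hc') = eIn hc := by
    ext g
    by_cases hg : g ∈ Subgroup.centralizer (P : Set G)
    · have hgH := hCH hg
      have hg' : (⟨g, hgH⟩ : H) ∈ C' := by rw [hC'eq]; exact hg
      simp only [up, eIn, coeff_ofFun, dif_pos hgH, dif_pos hg', dif_pos hg, coeff_ebar]
      congr 1
      apply Subtype.ext
      show blockCoeff (pullSet φ c) _ = _
      rw [blockCoeff_pullSet]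
      rfl
    · conv_rhs => rw [eIn, up_suppIn _ _ g hg]
      by_cases hgH : g ∈ H
      · have hg' : (⟨g, hgH⟩ : H) ∉ C' := by rw [hC'eq]; exact hg
        simp [up, hgH, eIn, hg']
      · rw [up_suppIn H _ g hgH]
  have hP'p : IsPGroup p P' := hP.of_equiv (Subgroup.subgroupOfEquivOfLe hPH).symm
  have h1 : IsInducedBlockIn M H (Subgroup.centralizer (P : Set G)) c f ↔
      IsInducedBlock M C' (pullSet φ c) f := by
    constructor
    · rintro ⟨-, -, h⟩
      refine ⟨hc', hf, ?_⟩
      rintro _ ⟨ξ, hξ, rfl⟩ χ hχ g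
      rw [hval]
      exact h ξ hξ χ hχ g
    · rintro ⟨-, -, h⟩
      refine ⟨hc, hf, fun ξ hξ χ hχ g => ?_⟩
      rw [← hval]
      exact h _ ⟨ξ, hξ, rfl⟩ χ hχ g
  rw [h1, isInducedBlock_iff_pairOf hM hP'p hf hc']
  have hkey : up H (trunc P' (ebar hf) * eIn hc') = trunc P (eIn hf) * eIn hc := by
    rw [up_mul, up_trunc, hup, Subgroup.map_subgroupOf_eq_of_le hPH]
    rfl
  constructor
  · intro h
    rw [← hkey, h.br, hup]
  · intro h
    refine ⟨isBlockIdem_ebar hf, isPair_eIn hP'p hc', up_injective H ?_⟩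
    rw [hkey, h, hup]

/-- For an abelian `P`, induction inside `C_G(Q)` is inclusion of pairs. -/
theorem isInducedBlockIn_iff_sle [CharP (ResField M) p] (hM : IsPModular p M) {P Q : Subgroup G}
    (hP : IsPGroup p P) (hab : ∀ x ∈ P, ∀ y ∈ P, x * y = y * x) (hQP : Q ≤ P)
    {c : Set (IrrCharacter (Subgroup.centralizer (P : Set G)))} (hc : IsPBlock M c)
    {f : Set (IrrCharacter (Subgroup.centralizer (Q : Set G)))} (hf : IsPBlock M f) :
    IsInducedBlockIn M (Subgroup.centralizer (Q : Set G)) (Subgroup.centralizer (P : Set G)) c f ↔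
      SLE p Q (eIn hf) P (eIn hc) := by
  have hPC : P ≤ Subgroup.centralizer (Q : Set G) := fun x hx =>
    Subgroup.mem_centralizer_iff.2 fun q hq => hab q (hQP hq) x hx
  rw [isInducedBlockIn_iff hM hP hPC (centralizer_anti hQP) hc hf]
  have hPN : P ≤ Subgroup.normalizer (Q : Set G) :=
    hPC.trans (Subgroup.centralizer_le_normalizer _)
  constructor
  · intro h
    exact (NS.mk (isPair_eIn (hP.to_le hQP) hf) (isPair_eIn hP hc) hQP hPN
      ((isBlockIdem_eIn hf).mem.fixed.mono hPC) h).sle
  · intro h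
    obtain ⟨f', hf'⟩ := exists_ns (isPair_eIn hP hc) hQP hPN
    rw [SLE.unique (isPair_eIn hP hc) h hf'.sle]
    exact hf'.br

end CfsgLib.Blocks.Pairs
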