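import Cfsg.Agent.Lib.Blocks.Pairs.Local
import Cfsg.Agent.Lib.Blocks.Pairs.Lift
import Cfsg.Agent.Lib.Blocks.Cover
import Cfsg.Agent.Lib.Blocks.CoverInduced

/-!
Stable blocks of a normal subgroup of `p`-power index are blocks of the whole group.
-/

set_option autoImplicit false
set_option maxHeartbeats 1000000
set_option synthInstance.maxHeartbeats 400000

open Cfsg CfsgLib.Blocks
open scoped Classical

namespace CfsgLib.Blocks.Pairs

universe u

variable {G : Type u} [Group G] [Finite G] {p : ℕ} [Fact p.Prime] {M : Ideal AlgInt} [M.IsMaximal]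
  {N : Subgroup G} [hN : N.Normal] {c : Set (IrrCharacter N)}

theorem conjA_eIn_of_stable (hc : IsPBlock M c) (hst : ∀ x : G, StabilizesBlock N c x) (x : G) :
    conjA x (eIn hc) = eIn hc :=
  (stabilizesBlock_iff hc (Subgroup.normalizer_eq_top (H := N) ▸ Subgroup.mem_top x)).mp (hst x)

theorem inCenter_top_eIn (hc : IsPBlock M c) (hst : ∀ x : G, StabilizesBlock N c x) :
    InCenter (⊤ : Subgroup G) (eIn hc) :=
  ⟨fun x hx => absurd (Subgroup.mem_top x) hx,
    conjFixed_iff.mpr fun x _ => conjA_eIn_of_stable hc hst x⟩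

/-- A block idempotent of `G` is supported on a normal subgroup of `p`-power index. -/
theorem suppIn_of_isBlockIdem_top (hM : IsPModular p M) {k : ℕ} (hidx : N.index = p ^ k)
    {E : MonoidAlgebra (ResField M) G} (hE : IsBlockIdem (⊤ : Subgroup G) E) : SuppIn N E := by
  obtain ⟨B, hB, rfl⟩ := exists_ebar_eq hE
  intro g hg
  have hp : p ∣ orderOf g := by
    by_contra h
    exact hg (mem_of_regular_of_index N Fact.out hidx g h)
  rw [coeff_ebar]
  exact (congrArg (red M) (Subtype.ext (CfsgLib.BlockReg.blockCoeff_singular hM hB g hp))).trans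
      (map_zero _)

/-- A stable block of a normal subgroup of `p`-power index has a block idempotent of `G`. -/
theorem isBlockIdem_top_eIn (hM : IsPModular p M) {k : ℕ} (hidx : N.index = p ^ k)
    (hc : IsPBlock M c) (hst : ∀ x : G, StabilizesBlock N c x) :
    IsBlockIdem (⊤ : Subgroup G) (eIn hc) := by
  have he := isBlockIdem_eIn hc
  have hcen := inCenter_top_eIn hc hst
  obtain ⟨E, hE, hne⟩ : ∃ E, IsBlockIdem (⊤ : Subgroup G) E ∧ E * eIn hc ≠ 0 := by
    by_contra hcon
    push Not at hcon
    apply he.ne_zero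
    rw [← one_mul (eIn hc), ← sum_blks (⊤ : Subgroup G), Finset.sum_mul]
    exact Finset.sum_eq_zero fun E hE => hcon E (mem_blks.mp hE)
  have hEN : InCenter N E :=
    ⟨suppIn_of_isBlockIdem_top hM hidx hE, hE.mem.fixed.mono le_top⟩
  have h1 : E * eIn hc = eIn hc := (he.prim E hEN hE.idem).resolve_right hne
  have h2 : eIn hc * E = E := (hE.prim (eIn hc) hcen he.idem).resolve_right (by
    rwa [hE.mem.mul_comm hcen] at hne)
  rw [hE.mem.mul_comm hcen, h2] at h1
  rwa [← h1]

theorem exists_block_top (hM : IsPModular p M) {k : ℕ} (hidx : N.index = p ^ k)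
    (hc : IsPBlock M c) (hst : ∀ x : G, StabilizesBlock N c x) :
    ∃ B : Set (IrrCharacter G), ∃ hB : IsPBlock M B, ebar hB = eIn hc ∧
      ∀ g : G, blockCoeff B g = subgroupBlockCoeff N c g := by
  obtain ⟨B, hB, hBe⟩ := exists_ebar_eq (isBlockIdem_top_eIn hM hidx hc hst)
  refine ⟨B, hB, hBe, fun g => ?_⟩
  have h : exact B = exactIn N c := idem_ext (M := M) (loc_exact hB) (loc_exactIn hc)
    (exact_idem B) (exactIn_idem N c)
    (Subalgebra.mem_center_iff.mp (inCenter_top_iff.mp (inCenter_exact B)) _).symm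
    (by rw [rd_exact hB, rd_exactIn hc, hBe])
  have := congrArg (fun a : MonoidAlgebra ℂ G => a.coeff g) h
  simpa [exact, exactIn] using this

theorem ebar_eq_eIn_of_coeff {B : Set (IrrCharacter G)} (hB : IsPBlock M B) (hc : IsPBlock M c)
    (h : ∀ g : G, blockCoeff B g = subgroupBlockCoeff N c g) : ebar hB = eIn hc := by
  ext g
  rw [coeff_ebar, coeff_eIn]
  exact congrArg (red M) (Subtype.ext (h g))

/-- The block of `G` with the idempotent of `c` consists of the characters over `c`. -/
theorem mem_of_constituent (hM : IsPModular p M) [Fintype N] {B : Set (IrrCharacter G)} (hB : IsPBlock M B)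
    (hc : IsPBlock M c) (h : ∀ g : G, blockCoeff B g = subgroupBlockCoeff N c g)
    {χ : IrrCharacter G} {θ : IrrCharacter N}
    (hcon : classInner (fun n : N => (χ : G → ℂ) n) (θ : N → ℂ) ≠ 0) :
    χ ∈ B ↔ θ ∈ c := by
  have hsupp : ∀ g, g ∉ N → (blockIdem hB : MonoidAlgebra (ResField M) G).coeff g = 0 := by
    intro g hg
    rw [coeff_blockIdem_eq_zero_iff hB, h g, subgroupBlockCoeff, dif_neg hg]
    exact CfsgLib.BlockReg.memIdeal_zero hM
  have e := lam_eq_lam_resCenter_of_constituent (M := M) N hcon (blockIdem hB) hsupp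
  have e2 : resCenter N (blockIdem hB) = blockIdem hc := by
    refine Subtype.ext (MonoidAlgebra.ext (Finsupp.ext fun n => ?_))
    have := h (n : G)
    simp [subgroupBlockCoeff] at this
    rw [coeff_blockIdem hc]
    simp [coeff_blockIdem hB, this]
  rw [e2, lam_blockIdem, lam_blockIdem, blockInd, blockInd] at e
  constructor
  · intro hχ
    by_contra hn
    rw [if_pos hχ, if_neg hn] at e
    exact one_ne_zero e
  · intro hθ
    by_contra hn
    rw [if_neg hn, if_pos hθ] at e
    exact zero_ne_one e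

omit [Fact p.Prime] [M.IsMaximal] in
theorem index_centralizer_coe (n : N) :
    (Subgroup.centralizer ({n} : Set N)).index =
      (Subgroup.centralizer ({(n : G)} : Set G)).relIndex N := by
  rw [Subgroup.relIndex]
  congr 1
  ext x
  rw [Subgroup.mem_subgroupOf, Subgroup.mem_centralizer_singleton_iff,
    Subgroup.mem_centralizer_singleton_iff]
  exact ⟨fun h => congrArg Subtype.val h, fun h => Subtype.ext h⟩

omit [Fact p.Prime] [M.IsMaximal] in
theorem index_centralizer_normal (n : G) :
    (Subgroup.centralizer ({n} : Set G)).index =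
      (Subgroup.centralizer ({n} : Set G)).relIndex N *
        (N ⊔ Subgroup.centralizer ({n} : Set G)).index := by
  set C := Subgroup.centralizer ({n} : Set G)
  have h1 : (C ⊓ N).index = C.relIndex N * N.index := by
    rw [← Subgroup.relIndex_mul_index (inf_le_right : C ⊓ N ≤ N), Subgroup.inf_relIndex_right]
  have h2 : (C ⊓ N).index = N.relIndex C * C.index := by
    rw [← Subgroup.relIndex_mul_index (inf_le_left : C ⊓ N ≤ C), Subgroup.inf_relIndex_left]
  have h3 : N.index = N.relIndex C * (N ⊔ C).index := by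
    rw [← Subgroup.relIndex_mul_index (le_sup_left : N ≤ N ⊔ C), Subgroup.relIndex_sup_left]
  rw [h3, h2, mul_left_comm] at h1
  exact mul_left_cancel₀ Subgroup.index_ne_zero_of_finite h1

/-- The induced central character of a stable block at an element of `N`. -/
theorem inducedCentralChar_congr_stable (hM : IsPModular p M) (hc : IsPBlock M c)
    (hst : ∀ x : G, StabilizesBlock N c x) {θ : IrrCharacter N} (hθ : θ ∈ c) (n : N) :
    MemLocalIdeal M (inducedCentralChar N (θ : N → ℂ) (n : G) -
      ((N ⊔ Subgroup.centralizer ({(n : G)} : Set G)).index : ℂ) *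
        centralChar (θ : N → ℂ) n) := by
  haveI := Fintype.ofFinite N
  set S : Finset N := Finset.univ.filter fun h : N => IsConj (n : G) (h : G) with hS
  have hcentral : ∀ h : N, (θ : N → ℂ) h / (θ : N → ℂ) 1 *
      ((Subgroup.centralizer ({h} : Set N)).index : ℂ) = centralChar (θ : N → ℂ) h := fun h => by
    rw [centralChar]; ring
  have hI : inducedCentralChar N (θ : N → ℂ) (n : G) =
      ∑ h ∈ S, (θ : N → ℂ) h / (θ : N → ℂ) 1 := by
    rw [inducedCentralChar, finsum_mem_eq_toFinset_sum, Set.toFinset_setOf]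
  set T : Finset (ConjClasses N) := S.image ConjClasses.mk with hT
  set d := (Subgroup.centralizer ({(n : G)} : Set G)).relIndex N with hd
  have hidx : ∀ h ∈ S, (Subgroup.centralizer ({h} : Set N)).index = d := by
    intro h hh
    obtain ⟨t, ht⟩ := isConj_iff.1 (Finset.mem_filter.1 hh).2
    rw [hd, ← index_centralizer_coe n]
    have := index_centralizer_equiv (MulAut.conjNormal (H := N) t) n
    rw [show (MulAut.conjNormal (H := N) t) n = h from
      Subtype.ext (by rw [MulAut.conjNormal_apply, ht])] at this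
    omega
  have hcong : ∀ h ∈ S, MemLocalIdeal M (centralChar (θ : N → ℂ) h - centralChar (θ : N → ℂ) n) := by
    intro h hh
    obtain ⟨t, ht⟩ := isConj_iff.1 (Finset.mem_filter.1 hh).2
    obtain ⟨θ', hθ', hconj⟩ := (hst t).2 θ hθ
    have e : centralChar (θ' : N → ℂ) h = centralChar (θ : N → ℂ) n := by
      have hpull : pull (MulAut.conjNormal (H := N) t) θ' = θ := Subtype.ext (funext fun k => by
        rw [pull_apply]
        exact hconj k _ (MulAut.conjNormal_apply t k))
      rw [← hpull, centralChar_pull]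
      congr 1
      exact Subtype.ext (by rw [MulAut.conjNormal_apply, ht])
    rw [← e]
    exact CfsgLib.BlockReg.block_congr hM hc hθ hθ' h
  have hfib : ∀ D ∈ T, ∃ a ∈ S, ConjClasses.mk a = D ∧
      (S.filter fun h => ConjClasses.mk h = D).card = d ∧
      ∑ h ∈ S.filter (fun h => ConjClasses.mk h = D), (θ : N → ℂ) h / (θ : N → ℂ) 1 =
        centralChar (θ : N → ℂ) a := by
    intro D hD
    obtain ⟨a, ha, rfl⟩ := Finset.mem_image.1 hD
    have hset : S.filter (fun h => ConjClasses.mk h = ConjClasses.mk a) =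
        Finset.univ.filter fun h : N => IsConj a h := by
      ext h
      simp only [Finset.mem_filter, Finset.mem_univ, true_and, hS, ConjClasses.mk_eq_mk_iff_isConj]
      exact ⟨fun hh => hh.2.symm, fun hh => ⟨((Finset.mem_filter.1 ha).2).trans
        (N.subtype.map_isConj hh), hh.symm⟩⟩
    have hcard : (S.filter fun h => ConjClasses.mk h = ConjClasses.mk a).card = d := by
      rw [hset, ← Fintype.card_subtype, ← Nat.card_eq_fintype_card,
        ← CfsgLib.Char.index_centralizer_eq_card_isConj, hidx a ha]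
    refine ⟨a, ha, rfl, hcard, ?_⟩
    have hval : ∀ h ∈ S.filter (fun h => ConjClasses.mk h = ConjClasses.mk a),
        (θ : N → ℂ) h / (θ : N → ℂ) 1 = (θ : N → ℂ) a / (θ : N → ℂ) 1 := fun h hh => by
      rw [CfsgLib.BlockReg.char_conj_invariant θ h a
        (ConjClasses.mk_eq_mk_iff_isConj.1 (Finset.mem_filter.1 hh).2)]
    rw [Finset.sum_congr rfl hval, Finset.sum_const, nsmul_eq_mul, hcard, ← hidx a ha, ← hcentral]
    ring
  have hcount : T.card * d = S.card := by
    rw [Finset.card_eq_sum_card_fiberwise (f := ConjClasses.mk) (t := T)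
      (fun h hh => Finset.mem_image_of_mem _ hh), Finset.sum_const_nat (m := d)]
    intro D hD
    obtain ⟨a, -, -, h, -⟩ := hfib D hD
    exact h
  have hScard : S.card = (Subgroup.centralizer ({(n : G)} : Set G)).index := by
    rw [CfsgLib.Char.index_centralizer_eq_card_isConj, hS, ← Fintype.card_subtype,
      ← Nat.card_eq_fintype_card]
    refine Nat.card_congr ⟨fun m => ⟨(m.1 : G), m.2⟩, fun y => ⟨⟨y.1, ?_⟩, y.2⟩,
      fun m => rfl, fun y => rfl⟩
    obtain ⟨t, ht⟩ := isConj_iff.1 y.2
    exact ht ▸ hN.conj_mem _ n.2 t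
  have hTcard : T.card = (N ⊔ Subgroup.centralizer ({(n : G)} : Set G)).index := by
    rw [hScard, index_centralizer_normal (N := N)] at hcount
    have hd0 : d ≠ 0 := by rw [hd, Subgroup.relIndex]; exact Subgroup.index_ne_zero_of_finite
    exact mul_left_cancel₀ hd0 ((mul_comm _ _).trans hcount)
  rw [hI, ← Finset.sum_fiberwise_of_maps_to (g := ConjClasses.mk) (t := T)
    (fun h hh => Finset.mem_image_of_mem _ hh), ← hTcard, ← nsmul_eq_mul, ← Finset.sum_const,
    ← Finset.sum_sub_distrib]
  refine CfsgLib.BlockReg.memIdeal_sum hM _ fun D hD => ?_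
  obtain ⟨a, ha, -, -, e⟩ := hfib D hD
  rw [e]
  exact hcong a ha

/-- A defect group of the block of `G` covers the quotient by `N`. -/
theorem sup_defect_eq_top (hM : IsPModular p M) {k : ℕ} (hidx : N.index = p ^ k)
    (hc : IsPBlock M c) (hst : ∀ x : G, StabilizesBlock N c x) {B : Set (IrrCharacter G)}
    (hB : IsPBlock M B) (h : ∀ g : G, blockCoeff B g = subgroupBlockCoeff N c g)
    {P : Subgroup G} (hP : IsDefectGroup p M B P) : N ⊔ P = ⊤ := by
  haveI := Fintype.ofFinite N
  have hpp : p.Prime := Fact.out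
  obtain ⟨g, hg, hS'⟩ := hP
  set C := Subgroup.centralizer ({g} : Set G) with hC
  obtain ⟨S, hS⟩ := hS'
  have hgN : g ∈ N := by
    by_contra hgn
    apply hg.2.1
    rw [h g, subgroupBlockCoeff, dif_neg hgn]
    exact CfsgLib.BlockReg.memIdeal_zero hM
  obtain ⟨θ, hθ⟩ := IsPBlock.nonempty hc
  obtain ⟨χ, hχ⟩ := exists_over_constituent N θ
  have hχB : χ ∈ B := (mem_of_constituent hM hB hc h hχ).mpr hθ
  have hHidx : (N ⊔ C).index ∣ p ^ k := hidx ▸ Subgroup.index_dvd_of_le le_sup_left
  have htop : (N ⊔ C).index = 1 := by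
    obtain ⟨j, -, hj⟩ := (Nat.dvd_prime_pow hpp).1 hHidx
    rcases Nat.eq_zero_or_pos j with rfl | hj0
    · simpa using hj
    exfalso
    apply hg.2.2 χ hχB
    rw [centralChar_eq_inducedCentralChar N hχ ⟨g, hgN⟩]
    refine (CfsgLib.BlockReg.memIdeal_iff_of_sub hM
      (inducedCentralChar_congr_stable hM hc hst hθ ⟨g, hgN⟩)).mpr ?_
    refine CfsgLib.BlockReg.memIdeal_mul_right hM
      ((CfsgLib.BlockReg.memIdeal_natCast_iff hM _).2 ?_)
      (CfsgLib.BlockReg.memRing_centralChar hM θ _)
    show p ∣ (N ⊔ C).index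
    rw [hj]
    exact dvd_pow_self _ hj0.ne'
  have hPC : P ≤ C := hS ▸ Subgroup.map_subtype_le _
  have hSidx : ¬ p ∣ P.relIndex C := by
    rw [hS, Subgroup.relIndex, Subgroup.subgroupOf,
      Subgroup.comap_map_eq_self_of_injective C.subtype_injective]
    exact S.not_dvd_index
  have hd1 : (N ⊔ P).relIndex C ∣ P.relIndex C := Subgroup.relIndex_dvd_of_le_left _ le_sup_right
  have hd2 : (N ⊔ P).relIndex C ∣ p ^ k :=
    (Subgroup.relIndex_dvd_of_le_left _ le_sup_left).trans
      (hidx ▸ Subgroup.relIndex_dvd_index_of_normal N C)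
  have h1 : (N ⊔ P).relIndex C = 1 := Nat.eq_one_of_dvd_coprimes
    (Nat.Coprime.pow_right k ((hpp.coprime_iff_not_dvd.2 hSidx).symm)) hd1 hd2
  rw [eq_top_iff, ← Subgroup.index_eq_one.1 htop]
  exact sup_le le_sup_left (Subgroup.relIndex_eq_one.1 h1)

/-- The intersection of a defect group with `N` is a defect group of `c`. -/
theorem isDefectGroup_inf (hM : IsPModular p M) {k : ℕ} (hidx : N.index = p ^ k)
    (hc : IsPBlock M c) (hst : ∀ x : G, StabilizesBlock N c x) {B : Set (IrrCharacter G)}
    (hB : IsPBlock M B) (h : ∀ g : G, blockCoeff B g = subgroupBlockCoeff N c g)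
    {P : Subgroup G} (hP : IsDefectGroup p M B P) :
    IsDefectGroup p M c ((P ⊓ N).subgroupOf N) := by
  haveI : CharP (ResField M) p := charP_resField hM.1 (natCast_mem_of_isPModular hM)
  have htop := sup_defect_eq_top hM hidx hc hst hB h hP
  have hmax : MaxR p (eIn hc) P := by
    rw [← ebar_eq_eIn_of_coeff hB hc h]
    exact (isDefectGroup_iff_maxR hM hB).mp hP
  apply isDefectGroup_subgroupOf hM hc
  refine ⟨inf_le_right, hmax.pgroup.to_le inf_le_left, ?_, fun R hR hRp hne => ?_⟩
  · intro h0
    apply hmax.ne_zero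
    rw [← trunc_trunc (inf_le_left : P ⊓ N ≤ P), h0]
    ext x; simp [coeff_trunc]
  · obtain ⟨x, hx⟩ := hmax.max R hRp hne
    obtain ⟨u, hu, n, hn, rfl⟩ : ∃ u ∈ P, ∃ n ∈ N, u * n = x := by
      have hx' : x ∈ P ⊔ N := by rw [sup_comm, htop]; exact Subgroup.mem_top x
      obtain ⟨u, hu, n, hn, he⟩ := Subgroup.mem_sup_of_normal_right.1 hx'
      exact ⟨u, hu, n, hn, he⟩
    refine ⟨n, hn, le_inf ?_ ?_⟩
    · have h1 := conjSub_mono u⁻¹ hx
      rw [conjSub_conjSub, inv_mul_cancel_left,
        conjSub_eq_of_mem_normalizer (Subgroup.le_normalizer (inv_mem hu))] at h1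
      exact h1
    · intro y hy
      have := hR (mem_conjSub.1 hy)
      have h2 := hN.conj_mem _ this n
      simpa [mul_assoc] using h2

end CfsgLib.Blocks.Pairs
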