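import Cfsg.Agent.Lib.Blocks.Pairs.CoverTrunc
import Cfsg.Agent.Lib.Blocks.Pairs.PPowerIndex
import Cfsg.Agent.Lib.Blocks.Pairs.SubTransport

/-!
Covered blocks through idempotents, and their defect groups.
-/

set_option autoImplicit false
set_option maxHeartbeats 1000000
set_option synthInstance.maxHeartbeats 400000

open Cfsg CfsgLib.Blocks
open scoped Classical

namespace CfsgLib.Blocks.Pairs

universe u v

section Pure

variable {F : Type v} [Field F] {G : Type u} [Group G] [Finite G] {N : Subgroup G} [hN : N.Normal]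

/-- The distinct conjugates of an element. -/
noncomputable def conjs (e : MonoidAlgebra F G) : Finset (MonoidAlgebra F G) :=
  (Set.finite_range fun x : G => conjA x e).toFinset

theorem mem_conjs {e f : MonoidAlgebra F G} : f ∈ conjs e ↔ ∃ x : G, conjA x e = f := by
  simp [conjs]

theorem isBlockIdem_of_mem_conjs {e f : MonoidAlgebra F G} (he : IsBlockIdem N e)
    (hf : f ∈ conjs e) : IsBlockIdem N f := by
  obtain ⟨x, rfl⟩ := mem_conjs.1 hf
  exact he.conj_of_normalizer (Subgroup.normalizer_eq_top (H := N) ▸ Subgroup.mem_top x)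

/-- The sum of the conjugates of a block idempotent of `N`. -/
noncomputable def conjSum (e : MonoidAlgebra F G) : MonoidAlgebra F G := ∑ f ∈ conjs e, f

theorem suppIn_conjSum {e : MonoidAlgebra F G} (he : IsBlockIdem N e) : SuppIn N (conjSum e) :=
  fun x hx => by
    rw [conjSum, MonoidAlgebra.coeff_sum, Finset.sum_apply']
    exact Finset.sum_eq_zero fun f hf => (isBlockIdem_of_mem_conjs he hf).mem.supp x hx

omit hN in
theorem conjA_conjSum (e : MonoidAlgebra F G) (x : G) : conjA x (conjSum e) = conjSum e := by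
  rw [conjSum, conjA_sum]
  refine Finset.sum_bij (fun f _ => conjA x f) (fun f hf => ?_)
    (fun f _ g _ h => conjA_injective x h) (fun f hf => ?_) (fun _ _ => rfl)
  · obtain ⟨y, rfl⟩ := mem_conjs.1 hf
    exact mem_conjs.2 ⟨x * y, (conjA_conjA x y e).symm⟩
  · obtain ⟨y, rfl⟩ := mem_conjs.1 hf
    exact ⟨conjA (x⁻¹ * y) e, mem_conjs.2 ⟨_, rfl⟩, by rw [conjA_conjA, mul_inv_cancel_left]⟩

omit hN in
theorem inCenter_conjSum (e : MonoidAlgebra F G) : InCenter (⊤ : Subgroup G) (conjSum e) :=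
  ⟨fun x hx => absurd (Subgroup.mem_top x) hx, conjFixed_iff.2 fun x _ => conjA_conjSum e x⟩

theorem conjSum_mul {e f : MonoidAlgebra F G} (he : IsBlockIdem N e) (hf : f ∈ conjs e) :
    conjSum e * f = f := by
  rw [conjSum, Finset.sum_mul, Finset.sum_eq_single_of_mem f hf]
  · exact (isBlockIdem_of_mem_conjs he hf).idem
  · exact fun g hg hne =>
      (isBlockIdem_of_mem_conjs he hg).mul_eq_zero (isBlockIdem_of_mem_conjs he hf) hne

theorem conjSum_idem {e : MonoidAlgebra F G} (he : IsBlockIdem N e) :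
    conjSum e * conjSum e = conjSum e := by
  conv_lhs => arg 2; rw [conjSum]
  rw [Finset.mul_sum]
  exact Finset.sum_congr rfl fun f hf => conjSum_mul he hf

omit hN in
theorem self_mem_conjs (e : MonoidAlgebra F G) : e ∈ conjs e := mem_conjs.2 ⟨1, conjA_one e⟩

omit hN in
theorem mul_conj_ne_zero {E e : MonoidAlgebra F G} (hE : InCenter (⊤ : Subgroup G) E) (x : G)
    (h : E * e ≠ 0) : E * conjA x e ≠ 0 := by
  intro h0
  apply h
  apply conjA_injective x
  rw [conjA_mul, hE.conjA_eq, h0, conjA_zero]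

end Pure

variable {G : Type u} [Group G] [Finite G] {p : ℕ} [Fact p.Prime] {M : Ideal AlgInt} [M.IsMaximal]
  {N : Subgroup G} [hN : N.Normal]

omit [Fact p.Prime] in
theorem mul_ebar_iff_constituent [Fintype N] {B : Set (IrrCharacter G)} (hB : IsPBlock M B)
    {χ : IrrCharacter G} (hχ : χ ∈ B) {θ : IrrCharacter N}
    (hcon : classInner (fun n : N => (χ : G → ℂ) n) (θ : N → ℂ) ≠ 0)
    {c : Set (IrrCharacter N)} (hc : IsPBlock M c) (hθ : θ ∈ c)
    {a : MonoidAlgebra (ResField M) G} (ha : InCenter (⊤ : Subgroup G) a) (hai : a * a = a)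
    (haN : SuppIn N a) : a * ebar hB = ebar hB ↔ a * eIn hc = eIn hc := by
  obtain ⟨z, rfl⟩ := exists_center_eq ha
  have hz : IsIdempotentElem z := Subtype.ext hai
  have e1 := lam_eq_lam_resCenter_of_constituent (M := M) N hcon z haN
  have hdown : (resCenter N z : MonoidAlgebra (ResField M) N) =
      down N (z : MonoidAlgebra (ResField M) G) := by
    ext n; simp
  have hzr : IsIdempotentElem (resCenter N z) := by
    refine Subtype.ext (up_injective N ?_)
    rw [MulMemClass.coe_mul, up_mul, hdown, up_down haN, hai]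
  rw [← lam_eq_one_iff hB hχ hz, e1, lam_eq_one_iff hc hθ hzr, hdown]
  constructor
  · intro h
    have := congrArg (up N) h
    rwa [up_mul, up_down haN] at this
  · intro h
    apply up_injective N
    rwa [up_mul, up_down haN]

omit [Fact p.Prime] [Finite G] in
theorem eq_zero_or_eq_of_covered {F : Type v} [Field F] [Finite G] {E e : MonoidAlgebra F G}
    (hE : IsBlockIdem (⊤ : Subgroup G) E) (he : IsBlockIdem N e) (hne : E * e ≠ 0) :
    conjSum e * E = E := by
  refine (hE.prim _ (inCenter_conjSum e) (conjSum_idem he)).resolve_right fun h => hne ?_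
  rw [← conjSum_mul he (self_mem_conjs e), ← mul_assoc, hE.mem.mul_comm (inCenter_conjSum e), h,
    zero_mul]

omit [Fact p.Prime] in
/-- A block of `N` is covered exactly when its idempotent is not killed by the block of `G`. -/
theorem covers_iff [Fintype N] {B : Set (IrrCharacter G)} (hB : IsPBlock M B)
    {c : Set (IrrCharacter N)} (hc : IsPBlock M c) :
    (∃ χ ∈ B, ∃ θ ∈ c, classInner (fun n : N => (χ : G → ℂ) n) (θ : N → ℂ) ≠ 0) ↔
      ebar hB * eIn hc ≠ 0 := by
  haveI := Fintype.ofFinite G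
  have he := isBlockIdem_eIn hc
  have hE := isBlockIdem_ebar hB
  constructor
  · rintro ⟨χ, hχ, θ, hθ, hcon⟩ h0
    have h1 := (mul_ebar_iff_constituent hB hχ hcon hc hθ (inCenter_conjSum (eIn hc))
      (conjSum_idem he) (suppIn_conjSum he)).2 (conjSum_mul he (self_mem_conjs _))
    apply hE.ne_zero
    rw [← h1, hE.mem.mul_comm (inCenter_conjSum (eIn hc)) |>.symm, conjSum, Finset.mul_sum]
    refine Finset.sum_eq_zero fun f hf => ?_
    obtain ⟨x, rfl⟩ := mem_conjs.1 hf
    apply conjA_injective x⁻¹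
    rw [conjA_mul, hE.mem.conjA_eq, conjA_inv_conjA, conjA_zero, h0]
  · intro hne
    obtain ⟨χ, hχ⟩ := IsPBlock.nonempty hB
    obtain ⟨θ₀, hθ₀, hcon⟩ := CfsgLib.Clifford.exists_constituent_res N χ.2
    set t : IrrCharacter N := ⟨θ₀, hθ₀⟩ with ht
    have ht' := isPBlock_blockOf (M := M) t
    have h1 := (mul_ebar_iff_constituent hB hχ (θ := t) hcon ht' (mem_blockOf_self t)
      (inCenter_conjSum (eIn hc)) (conjSum_idem he) (suppIn_conjSum he)).1
        (eq_zero_or_eq_of_covered hE he hne)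
    obtain ⟨f, hf, hfne⟩ : ∃ f ∈ conjs (eIn hc), f * eIn ht' ≠ 0 := by
      by_contra hcon'
      push Not at hcon'
      apply (isBlockIdem_eIn ht').ne_zero
      rw [← h1, conjSum, Finset.sum_mul]
      exact Finset.sum_eq_zero hcon'
    have hfeq : f = eIn ht' :=
      (isBlockIdem_of_mem_conjs he hf).eq_of_mul_ne_zero (isBlockIdem_eIn ht') hfne
    obtain ⟨x, hx⟩ := mem_conjs.1 hf
    have hxe : conjA x⁻¹ (eIn ht') = eIn hc := by rw [← hfeq, ← hx, conjA_inv_conjA]
    have hK : N = conjSub x⁻¹ N :=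
      (conjSub_eq_of_mem_normalizer (Subgroup.normalizer_eq_top (H := N) ▸ Subgroup.mem_top _)).symm
    have hps : pullSet (MulAut.conjNormal (H := N) x) (blockOf M (t : N → ℂ)) = c := by
      refine eIn_injective (isPBlock_pullSet _ ht') hc ?_
      rw [eIn_conj _ x⁻¹ (fun k => by rw [MulAut.conjNormal_apply, inv_inv]) hK ht', hxe]
    refine ⟨χ, hχ, conjIrr N t x, ?_, ?_⟩
    · rw [← hps, conjIrr_eq_pull]
      exact ⟨t, mem_blockOf_self t, rfl⟩
    · rw [coe_conjIrr, CfsgLib.Clifford.classInner_res_conjFun N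
        (CfsgLib.Char.IsIrrCharacter.isClassFunction χ.2)]
      exact hcon

/-- A block of `G` covers a block of `N` fixed by a defect group `P`, with defect group `P ⊓ N`. -/
theorem exists_stable_covered [Fintype N] (hM : IsPModular p M) {B : Set (IrrCharacter G)}
    (hB : IsPBlock M B) {P : Subgroup G} (hP : IsDefectGroup p M B P) :
    ∃ c : Set (IrrCharacter N), IsPBlock M c ∧ (∀ x ∈ P, StabilizesBlock N c x) ∧
      (∃ χ ∈ B, ∃ θ ∈ c, classInner (fun n : N => (χ : G → ℂ) n) (θ : N → ℂ) ≠ 0) ∧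
      IsDefectGroup p M c ((P ⊓ N).subgroupOf N) := by
  haveI : CharP (ResField M) p := charP_resField hM.1 (natCast_mem_of_isPModular hM)
  have hE := isBlockIdem_ebar hB
  have hmax := (isDefectGroup_iff_maxR hM hB).mp hP
  have hnorm : ∀ x : G, x ∈ Subgroup.normalizer (N : Set G) := fun x =>
    Subgroup.normalizer_eq_top (H := N) ▸ Subgroup.mem_top x
  obtain ⟨f, hf, hfix, hne, htr⟩ : ∃ f : MonoidAlgebra (ResField M) G, IsBlockIdem N f ∧
      ConjFixed P f ∧ ebar hB * f ≠ 0 ∧ trunc P f ≠ 0 := by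
    set S := (blks (F := ResField M) N).filter fun f => ebar hB * f ≠ 0 with hS
    have hmem : ∀ f ∈ S, IsBlockIdem N f := fun f hf => mem_blks.1 (Finset.mem_filter.1 hf).1
    have hsum : ebar hB = ebar hB * ∑ f ∈ S, f := by
      conv_lhs => rw [← mul_one (ebar hB), ← sum_blks (F := ResField M) N, Finset.mul_sum]
      rw [Finset.mul_sum, hS, Finset.sum_filter_ne_zero]
    have hperm : ∀ u ∈ P, ∀ f ∈ S, conjA u f ∈ S := fun u _ f hf => Finset.mem_filter.2
      ⟨mem_blks.2 ((hmem f hf).conj_of_normalizer (hnorm u)),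
        mul_conj_ne_zero hE.mem u (Finset.mem_filter.1 hf).2⟩
    have hSfix : ConjFixed P (∑ f ∈ S, f) := conjFixed_iff.2 fun u hu => by
      rw [conjA_sum]
      refine Finset.sum_bij (fun f _ => conjA u f) (hperm u hu)
        (fun f _ g _ h => conjA_injective u h) (fun f hf => ⟨conjA u⁻¹ f, hperm _ (inv_mem hu) f hf,
          by rw [conjA_conjA, mul_inv_cancel, conjA_one]⟩) (fun _ _ => rfl)
    have h1 : trunc P (∑ f ∈ S, f) ≠ 0 := fun h0 => hmax.ne_zero (by
      rw [hsum, trunc_mul hmax.pgroup (hE.mem.conjFixed_top P) hSfix, h0, mul_zero])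
    rw [trunc_sum_fixed hmax.pgroup S hperm] at h1
    obtain ⟨f, hf, hf0⟩ := Finset.exists_ne_zero_of_sum_ne_zero h1
    obtain ⟨hfS, hff⟩ := Finset.mem_filter.1 hf
    exact ⟨f, hmem f hfS, hff, (Finset.mem_filter.1 hfS).2, hf0⟩
  obtain ⟨c, hc, rfl⟩ := exists_eIn_eq hf
  refine ⟨c, hc, fun x hx => (stabilizesBlock_iff hc (hnorm x)).2 (conjFixed_iff.1 hfix x hx),
    (covers_iff hB hc).2 hne, isDefectGroup_subgroupOf hM hc ?_⟩
  obtain ⟨D, hD⟩ := exists_maxIn hM hc
  have htrPN : trunc (P ⊓ N) (eIn hc) ≠ 0 := fun h0 => htr (by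
    rw [← trunc_trunc (inf_le_left : P ⊓ N ≤ P), h0, trunc_zero])
  obtain ⟨y, hy, hle⟩ := hD.max _ inf_le_right (hmax.pgroup.to_le inf_le_left) htrPN
  obtain ⟨x, hx⟩ := hmax.max D hD.pgroup
    (trunc_ne_zero_of_covered hE.mem hE.idem hf hne hD.le hD.pgroup hD.ne_zero)
  have hxN : conjSub x D ≤ P ⊓ N := le_inf hx fun z hz => by
    simpa [mul_assoc] using hN.conj_mem _ (hD.le (mem_conjSub.1 hz)) x
  have hcard : ∀ (g : G) (H : Subgroup G), Nat.card (conjSub g H) = Nat.card H := fun g H =>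
    Subgroup.card_map_of_injective (MulAut.conj g).injective
  have heq : conjSub y (P ⊓ N) = D := Subgroup.eq_of_le_of_card_ge hle (by
    rw [hcard y, ← hcard x D]
    exact Subgroup.card_le_of_le hxN)
  have hfixy : conjA y⁻¹ (eIn hc) = eIn hc := conjFixed_iff.1 hf.mem.fixed _ (inv_mem hy)
  have hNy : conjSub y⁻¹ N = N := conjSub_eq_of_mem_normalizer (hnorm _)
  have := hD.conj y⁻¹
  rwa [hfixy, hNy, ← heq, conjSub_conjSub, inv_mul_cancel, conjSub_one] at this

/-- If `N` contains a defect group of a covering block, the inertial group of a covered block meets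
a normal overgroup of `p`-power index over `N` only in `N`. -/
theorem inf_stabilizer_eq [Fintype N] (hM : IsPModular p M) {L : Subgroup G} [L.Normal]
    (hNL : N ≤ L) {k : ℕ} (hLN : (N.subgroupOf L).index = p ^ k) {B : Set (IrrCharacter G)}
    (hB : IsPBlock M B) {c : Set (IrrCharacter N)} (hc : IsPBlock M c)
    (hne : ebar hB * eIn hc ≠ 0) {D : Subgroup G} (hD : IsDefectGroup p M B D) (hDN : D ≤ N)
    {T : Subgroup G} (hT : ∀ x : G, x ∈ T ↔ StabilizesBlock N c x) : T ⊓ L = N := by
  haveI : CharP (ResField M) p := charP_resField hM.1 (natCast_mem_of_isPModular hM)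
  have hnorm : ∀ x : G, x ∈ Subgroup.normalizer (N : Set G) := fun x =>
    Subgroup.normalizer_eq_top (H := N) ▸ Subgroup.mem_top x
  have he := isBlockIdem_eIn hc
  have hmemT : ∀ x : G, x ∈ T ↔ conjA x (eIn hc) = eIn hc := fun x =>
    (hT x).trans (stabilizesBlock_iff hc (hnorm x))
  have hNT : N ≤ T := fun x hx => (hmemT x).2 (conjFixed_iff.1 he.mem.fixed x hx)
  have hNK : N ≤ T ⊓ L := le_inf hNT hNL
  set K := T ⊓ L with hK
  let N' := N.subgroupOf K
  let φ : N' ≃* N := Subgroup.subgroupOfEquivOfLe hNK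
  haveI : Finite N := inferInstance
  have hc' := isPBlock_pullSet φ hc
  have hup : up K (eIn hc') = eIn hc := by
    ext g
    by_cases hg : g ∈ N
    · have hgK := hNK hg
      have hg' : (⟨g, hgK⟩ : K) ∈ N' := hg
      simp only [up, eIn, coeff_ofFun, dif_pos hgK, dif_pos hg', dif_pos hg, coeff_ebar]
      congr 1
      apply Subtype.ext
      show blockCoeff (pullSet φ c) _ = _
      rw [blockCoeff_pullSet]
      rfl
    · conv_rhs => rw [eIn, up_suppIn N _ g hg]
      by_cases hgK : g ∈ K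
      · simp [up, hgK, eIn, N', Subgroup.mem_subgroupOf, hg]
      · rw [up_suppIn K _ g hgK]
  have hidx : ∃ j, N'.index = p ^ j := by
    obtain ⟨j, -, hj⟩ := (Nat.dvd_prime_pow (Fact.out : p.Prime)).1 (show N'.index ∣ p ^ k by
      rw [← hLN]
      show N.relIndex K ∣ N.relIndex L
      exact ⟨K.relIndex L, (Subgroup.relIndex_mul_relIndex N K L hNK inf_le_right).symm⟩)
    exact ⟨j, hj⟩
  obtain ⟨j, hj⟩ := hidx
  have hst' : ∀ x : K, StabilizesBlock N' (pullSet φ c) x := by
    intro x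
    rw [stabilizesBlock_iff hc' (Subgroup.normalizer_eq_top (H := N') ▸ Subgroup.mem_top x)]
    apply up_injective K
    rw [up_conjA, hup]
    exact (hmemT x).1 x.2.1
  obtain ⟨b, hb, hbe, hbc⟩ := exists_block_top hM hj hc' hst'
  obtain ⟨S, hS⟩ := exists_defectGroup hM hb
  have htop := sup_defect_eq_top hM hj hc' hst' hb hbc hS
  have hmaxS := (isDefectGroup_iff_maxR hM hb).mp hS
  have htrS : trunc (S.map K.subtype) (eIn hc) ≠ 0 := by
    rw [← hup]
    rw [← hbe, ← trunc_down_ne_zero_iff (up_suppIn K _) S, down_up]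
    exact hmaxS.ne_zero
  set R := S.map K.subtype with hR
  have hRK : R ≤ K := Subgroup.map_subtype_le _
  have hRp : IsPGroup p R := hmaxS.pgroup.map _
  -- the block of `L` over `c`
  obtain ⟨a, ha, hane⟩ : ∃ a, IsBlockIdem L a ∧ ebar hB * eIn hc * a ≠ 0 := by
    by_contra hcon
    push Not at hcon
    apply hne
    rw [← mul_one (ebar hB * eIn hc), ← sum_blks (F := ResField M) L, Finset.mul_sum]
    exact Finset.sum_eq_zero fun a ha => hcon a (mem_blks.1 ha)
  have hcae : eIn hc * a = a * eIn hc := mul_comm_of_suppIn he.mem.supp (ha.mem.fixed.mono hNL)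
  have haN : SuppIn N a := by
    obtain ⟨b', hb', rfl⟩ := exists_eIn_eq ha
    intro g hg
    rw [coeff_eIn]
    refine (congrArg (red M) (Subtype.ext ?_)).trans (map_zero _)
    show subgroupBlockCoeff L b' g = 0
    unfold subgroupBlockCoeff
    split_ifs with hgL
    · refine CfsgLib.BlockReg.blockCoeff_singular hM hb' _ ?_
      by_contra h
      exact hg (Subgroup.mem_subgroupOf.1
        (mem_of_regular_of_index (N.subgroupOf L) Fact.out hLN ⟨g, hgL⟩ h))
    · rfl
  have hae : a * eIn hc = eIn hc := (he.prim a ⟨haN, ha.mem.fixed.mono hNL⟩ ha.idem).resolve_right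
    fun h => hane (by rw [mul_assoc, hcae, h, mul_zero])
  have htra : trunc R a ≠ 0 := fun h0 => htrS (by
    rw [← hae, trunc_mul hRp (ha.mem.fixed.mono (hRK.trans inf_le_right))
      (conjFixed_iff.2 fun x hx => (hmemT x).1 (hRK hx).1), h0, zero_mul])
  have hEa : ebar hB * a ≠ 0 := fun h0 => hane (by
    rw [mul_assoc, hcae, ← mul_assoc, h0, zero_mul])
  obtain ⟨x, hx⟩ := ((isDefectGroup_iff_maxR hM hB).mp hD).max R hRp
    (trunc_ne_zero_of_covered (isBlockIdem_ebar hB).mem (isBlockIdem_ebar hB).idem ha hEa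
      (hRK.trans inf_le_right) hRp htra)
  have hRN : R ≤ N := fun r hr => by
    have h1 : x * r * x⁻¹ ∈ N := hDN (hx (mem_conjSub.2 (by simpa [mul_assoc] using hr)))
    simpa [mul_assoc] using hN.conj_mem _ h1 x⁻¹
  refine le_antisymm (fun g hg => ?_) hNK
  have hSN : S ≤ N' := fun s hs => hRN ⟨s, hs, rfl⟩
  have : (⟨g, hg⟩ : K) ∈ N' := by
    rw [← sup_eq_left.2 hSN, htop]
    exact Subgroup.mem_top _
  exact this

end CfsgLib.Blocks.Pairs
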