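import Cfsg.Agent.Lib.Blocks.BrauerMap
import Mathlib.LinearAlgebra.FiniteDimensional.Lemmas
import Mathlib.Algebra.MonoidAlgebra.MapDomain

/-!
# Central idempotents of subgroups inside a group algebra

Elements of the group algebra of a subgroup are read in the group algebra of the whole group:
`InCenter H a` says that `a` is supported on `H` and invariant under conjugation by `H`.
-/

set_option autoImplicit false

namespace CfsgLib.Blocks.Pairs

open CfsgLib.Blocks
open scoped Classical

universe u v

variable {F : Type v} [Field F] {G : Type u} [Group G] [Finite G]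

/-! ### Supports and truncation -/

omit [Finite G] in
/-- The coefficients of `a` vanish outside `H`. -/
def SuppIn (H : Subgroup G) (a : MonoidAlgebra F G) : Prop := ∀ x, x ∉ H → a.coeff x = 0

/-- Truncation to the centralizer of `P`. -/
noncomputable def trunc (P : Subgroup G) (a : MonoidAlgebra F G) : MonoidAlgebra F G :=
  ofFun fun x => if x ∈ Subgroup.centralizer (P : Set G) then a.coeff x else 0

@[simp] lemma coeff_trunc (P : Subgroup G) (a : MonoidAlgebra F G) (x : G) :
    (trunc P a).coeff x = if x ∈ Subgroup.centralizer (P : Set G) then a.coeff x else 0 := rfl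

lemma trunc_suppIn (P : Subgroup G) (a : MonoidAlgebra F G) :
    SuppIn (Subgroup.centralizer (P : Set G)) (trunc P a) := fun x hx => by simp [hx]

@[simp] lemma trunc_zero (P : Subgroup G) : trunc P (0 : MonoidAlgebra F G) = 0 := by
  ext x; simp

@[simp] lemma trunc_one (P : Subgroup G) : trunc P (1 : MonoidAlgebra F G) = 1 := by
  ext x
  by_cases hx : x = 1
  · subst hx; simp [Subgroup.one_mem]
  · simp [MonoidAlgebra.one_def, Finsupp.single_eq_of_ne hx]

lemma trunc_add (P : Subgroup G) (a b : MonoidAlgebra F G) :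
    trunc P (a + b) = trunc P a + trunc P b := by
  ext x; by_cases hx : x ∈ Subgroup.centralizer (P : Set G) <;> simp [hx]

lemma trunc_sum {ι : Type*} (P : Subgroup G) (s : Finset ι) (a : ι → MonoidAlgebra F G) :
    trunc P (∑ i ∈ s, a i) = ∑ i ∈ s, trunc P (a i) := by
  induction s using Finset.induction with
  | empty => simp
  | insert i s hi ih => rw [Finset.sum_insert hi, Finset.sum_insert hi, trunc_add, ih]

lemma centralizer_anti {Q P : Subgroup G} (h : Q ≤ P) :
    Subgroup.centralizer (P : Set G) ≤ Subgroup.centralizer (Q : Set G) :=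
  Subgroup.centralizer_le (fun x hx => h hx)

lemma trunc_trunc {Q P : Subgroup G} (h : Q ≤ P) (a : MonoidAlgebra F G) :
    trunc P (trunc Q a) = trunc P a := by
  ext x
  by_cases hx : x ∈ Subgroup.centralizer (P : Set G)
  · simp [hx, centralizer_anti h hx]
  · simp [hx]

lemma trunc_eq_self {P : Subgroup G} {a : MonoidAlgebra F G}
    (h : SuppIn (Subgroup.centralizer (P : Set G)) a) : trunc P a = a := by
  ext x
  by_cases hx : x ∈ Subgroup.centralizer (P : Set G)
  · simp [hx]
  · simp [hx, h x hx]

lemma SuppIn.mul {H : Subgroup G} {a b : MonoidAlgebra F G} (ha : SuppIn H a) (hb : SuppIn H b) :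
    SuppIn H (a * b) := by
  haveI := Fintype.ofFinite G
  intro c hc
  rw [coeff_mul_group]
  refine Finset.sum_eq_zero fun x _ => ?_
  by_cases hx : x ∈ H
  · rw [hb (x⁻¹ * c) fun h => hc (by simpa using H.mul_mem hx h), mul_zero]
  · rw [ha x hx, zero_mul]

omit [Finite G] in
lemma SuppIn.mono {H K : Subgroup G} {a : MonoidAlgebra F G} (ha : SuppIn H a) (h : H ≤ K) :
    SuppIn K a := fun x hx => ha x fun hx' => hx (h hx')

lemma conjFixed_mul {P : Subgroup G} {a b : MonoidAlgebra F G} (ha : ConjFixed P a)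
    (hb : ConjFixed P b) : ConjFixed P (a * b) := by
  haveI := Fintype.ofFinite G
  intro u hu c
  rw [coeff_mul_group, coeff_mul_group]
  rw [← Equiv.sum_comp (MulAut.conj u).toEquiv]
  refine Finset.sum_congr rfl fun x _ => ?_
  simp only [MulEquiv.toEquiv_eq_coe, EquivLike.coe_coe, MulAut.conj_apply]
  rw [ha u hu x]
  congr 1
  rw [show (u * x * u⁻¹)⁻¹ * (u * c * u⁻¹) = u * (x⁻¹ * c) * u⁻¹ by group]
  exact hb u hu _

/-- An element supported on `H` commutes with an element invariant under conjugation by `H`. -/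
lemma mul_comm_of_suppIn {H : Subgroup G} {a b : MonoidAlgebra F G} (ha : SuppIn H a)
    (hb : ConjFixed H b) : a * b = b * a := by
  haveI := Fintype.ofFinite G
  ext c
  rw [coeff_mul_group, coeff_mul_group]
  rw [← Equiv.sum_comp ((Equiv.inv G).trans (Equiv.mulLeft c)) (fun x => b.coeff x * a.coeff (x⁻¹ * c))]
  refine Finset.sum_congr rfl fun x _ => ?_
  simp only [Equiv.trans_apply, Equiv.inv_apply, Equiv.coe_mulLeft, mul_inv_rev, inv_inv,
    inv_mul_cancel_right]
  by_cases hx : x ∈ H
  · rw [mul_comm, ← hb x hx (x⁻¹ * c)]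
    congr 2
    group
  · rw [ha x hx, zero_mul, mul_zero]

/-- `a` is central in the group algebra of the subgroup `H`. -/
structure InCenter (H : Subgroup G) (a : MonoidAlgebra F G) : Prop where
  supp : SuppIn H a
  fixed : ConjFixed H a

lemma InCenter.mul {H : Subgroup G} {a b : MonoidAlgebra F G} (ha : InCenter H a)
    (hb : InCenter H b) : InCenter H (a * b) :=
  ⟨ha.supp.mul hb.supp, conjFixed_mul ha.fixed hb.fixed⟩

lemma InCenter.mul_comm {H : Subgroup G} {a b : MonoidAlgebra F G} (ha : InCenter H a)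
    (hb : InCenter H b) : a * b = b * a :=
  mul_comm_of_suppIn ha.supp hb.fixed

lemma inCenter_zero (H : Subgroup G) : InCenter H (0 : MonoidAlgebra F G) :=
  ⟨fun x _ => by simp, fun u _ x => by simp⟩

lemma inCenter_one (H : Subgroup G) : InCenter H (1 : MonoidAlgebra F G) := by
  refine ⟨fun x hx => ?_, fun u _ x => ?_⟩
  · have : x ≠ 1 := fun h => hx (h ▸ H.one_mem)
    simp [MonoidAlgebra.one_def, Finsupp.single_eq_of_ne this]
  · simp [MonoidAlgebra.one_def, Finsupp.single_apply, eq_comm]

lemma InCenter.add {H : Subgroup G} {a b : MonoidAlgebra F G} (ha : InCenter H a)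
    (hb : InCenter H b) : InCenter H (a + b) :=
  ⟨fun x hx => by simp [ha.supp x hx, hb.supp x hx],
    fun u hu x => by simp [ha.fixed u hu x, hb.fixed u hu x]⟩

lemma InCenter.sub {H : Subgroup G} {a b : MonoidAlgebra F G} (ha : InCenter H a)
    (hb : InCenter H b) : InCenter H (a - b) :=
  ⟨fun x hx => by simp [ha.supp x hx, hb.supp x hx],
    fun u hu x => by simp [ha.fixed u hu x, hb.fixed u hu x]⟩

lemma InCenter.sum {ι : Type*} {H : Subgroup G} {s : Finset ι} {a : ι → MonoidAlgebra F G}
    (ha : ∀ i ∈ s, InCenter H (a i)) : InCenter H (∑ i ∈ s, a i) :=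
  Finset.sum_induction _ _ (fun _ _ h h' => h.add h') (inCenter_zero H) ha

lemma inCenter_top_iff {a : MonoidAlgebra F G} :
    InCenter ⊤ a ↔ a ∈ Subalgebra.center F (MonoidAlgebra F G) := by
  rw [mem_center_iff_conjFixed]
  exact ⟨fun h => h.fixed, fun h => ⟨fun x hx => absurd trivial hx, h⟩⟩

variable {p : ℕ} [Fact p.Prime] [CharP F p]

/-- The truncation is multiplicative on invariant elements. -/
lemma trunc_mul {P : Subgroup G} (hP : IsPGroup p P) {a b : MonoidAlgebra F G}
    (ha : ConjFixed P a) (hb : ConjFixed P b) : trunc P (a * b) = trunc P a * trunc P b := by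
  haveI := Fintype.ofFinite G
  ext c
  rw [coeff_mul_group (trunc P a) (trunc P b), coeff_trunc]
  by_cases hc : c ∈ Subgroup.centralizer (P : Set G)
  · rw [if_pos hc, coeff_mul_eq_sum_centralizer hP ha hb hc, Finset.sum_filter]
    refine Finset.sum_congr rfl fun x _ => ?_
    by_cases hx : x ∈ Subgroup.centralizer (P : Set G)
    · simp [hx, Subgroup.mul_mem _ (Subgroup.inv_mem _ hx) hc]
    · simp [hx]
  · rw [if_neg hc]
    refine (Finset.sum_eq_zero fun x _ => ?_).symm
    by_cases hx : x ∈ Subgroup.centralizer (P : Set G)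
    · simp [show x⁻¹ * c ∉ Subgroup.centralizer (P : Set G) from
        fun h => hc (by simpa using Subgroup.mul_mem _ hx h)]
    · simp [hx]

omit [Fact p.Prime] [CharP F p] in
lemma trunc_conjFixed {P : Subgroup G} {K : Subgroup G} (hK : K ≤ Subgroup.normalizer (P : Set G))
    {a : MonoidAlgebra F G} (ha : ConjFixed K a) : ConjFixed K (trunc P a) := by
  intro u hu x
  simp only [coeff_trunc]
  exact if_congr (conj_mem_centralizer_iff (hK hu) x) (ha u hu x) rfl

omit [Fact p.Prime] [CharP F p] in
lemma trunc_inCenter {P : Subgroup G} {a : MonoidAlgebra F G}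
    (ha : ConjFixed (Subgroup.centralizer (P : Set G)) a) :
    InCenter (Subgroup.centralizer (P : Set G)) (trunc P a) :=
  ⟨trunc_suppIn P a, trunc_conjFixed (Subgroup.centralizer_le_normalizer _) ha⟩

omit [Fact p.Prime] [CharP F p] in
lemma suppIn_centralizer_conjFixed {P : Subgroup G} {a : MonoidAlgebra F G}
    (h : SuppIn (Subgroup.centralizer (P : Set G)) a) : ConjFixed P a := by
  intro u hu x
  by_cases hx : x ∈ Subgroup.centralizer (P : Set G)
  · rw [conj_eq_self_of_mem_centralizer hu hx]
  · rw [h x hx, h _ fun hc => hx ((conj_mem_centralizer_iff (Subgroup.le_normalizer hu) x).mp hc)]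

/-! ### Primitive idempotents -/

omit [Fact p.Prime] [CharP F p]

/-- `e` is a block idempotent of the subgroup `H`. -/
structure IsBlockIdem (H : Subgroup G) (e : MonoidAlgebra F G) : Prop where
  mem : InCenter H e
  idem : e * e = e
  ne_zero : e ≠ 0
  prim : ∀ z : MonoidAlgebra F G, InCenter H z → z * z = z → z * e = e ∨ z * e = 0

lemma finiteDimensional_monoidAlgebra : FiniteDimensional F (MonoidAlgebra F G) :=
  Module.Finite.equiv ((Finsupp.linearEquivFunOnFinite F F G).symm.trans
    (MonoidAlgebra.coeffLinearEquiv F).symm)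

lemma IsBlockIdem.eq_of_mul_ne_zero {H : Subgroup G} {e e' : MonoidAlgebra F G}
    (he : IsBlockIdem H e) (he' : IsBlockIdem H e') (h : e * e' ≠ 0) : e = e' := by
  have h1 : e * e' = e' := (he'.prim e he.mem he.idem).resolve_right h
  rw [he.mem.mul_comm he'.mem] at h h1
  have h2 : e' * e = e := (he.prim e' he'.mem he'.idem).resolve_right h
  rw [← h2, h1]

lemma IsBlockIdem.mul_eq_zero {H : Subgroup G} {e e' : MonoidAlgebra F G}
    (he : IsBlockIdem H e) (he' : IsBlockIdem H e') (h : e ≠ e') : e * e' = 0 := by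
  by_contra hne
  exact h (he.eq_of_mul_ne_zero he' hne)

/-- Every central idempotent of `H` is a sum of distinct block idempotents. -/
theorem exists_sum_blockIdem (H : Subgroup G) (z : MonoidAlgebra F G) (hz : InCenter H z)
    (hi : z * z = z) : ∃ s : Finset (MonoidAlgebra F G),
      (∀ e ∈ s, IsBlockIdem H e ∧ z * e = e) ∧ z = ∑ e ∈ s, e := by
  haveI := finiteDimensional_monoidAlgebra (F := F) (G := G)
  generalize hn : Module.finrank F (LinearMap.range (LinearMap.mulLeft F z)) = n
  induction n using Nat.strong_induction_on generalizing z with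
  | _ n ih =>
    by_cases h0 : z = 0
    · exact ⟨∅, by simp [h0]⟩
    by_cases hb : IsBlockIdem H z
    · exact ⟨{z}, by simp [hb, hi]⟩
    obtain ⟨w, hw, hwi, h1, h2⟩ : ∃ w, InCenter H w ∧ w * w = w ∧ w * z ≠ z ∧ w * z ≠ 0 := by
      by_contra hc
      push Not at hc
      exact hb ⟨hz, hi, h0, fun w hw hwi => or_iff_not_imp_left.mpr (hc w hw hwi)⟩
    have hlt : ∀ v : MonoidAlgebra F G, InCenter H v → v * v = v → z * v = v → v ≠ z →
        Module.finrank F (LinearMap.range (LinearMap.mulLeft F v)) < n := by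
      intro v hv hvi hzv hne
      rw [← hn]
      refine Submodule.finrank_lt_finrank_of_lt (lt_of_le_of_ne ?_ ?_)
      · rintro _ ⟨x, rfl⟩
        exact ⟨v * x, by simp [← mul_assoc, hzv]⟩
      · intro he
        obtain ⟨x, hx⟩ : z ∈ LinearMap.range (LinearMap.mulLeft F v) := he ▸ ⟨1, by simp⟩
        have hx' : v * x = z := hx
        apply hne
        rw [← hzv, hz.mul_comm hv, ← hx', ← mul_assoc, hvi]
    have hwz : InCenter H (w * z) := hw.mul hz
    have hwzi : w * z * (w * z) = w * z := by
      rw [mul_assoc, ← mul_assoc z, hz.mul_comm hw, mul_assoc w z z, hi, ← mul_assoc, hwi]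
    have hzwz : z * (w * z) = w * z := by
      rw [← mul_assoc, hz.mul_comm hw, mul_assoc, hi]
    have hwzz : w * z * z = w * z := by rw [mul_assoc, hi]
    have hr : (z - w * z) * (z - w * z) = z - w * z := by
      rw [sub_mul, mul_sub, mul_sub, hi, hzwz, hwzz, hwzi]
      abel
    have hzr : z * (z - w * z) = z - w * z := by rw [mul_sub, hi, hzwz]
    obtain ⟨s, hs, hse⟩ := ih _ (hlt _ hwz hwzi hzwz h1) _ hwz hwzi rfl
    obtain ⟨t, ht, hte⟩ :=
      ih _ (hlt _ (hz.sub hwz) hr hzr (fun h => h2 (sub_eq_self.mp h))) _ (hz.sub hwz) hr rfl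
    refine ⟨s ∪ t, fun e he => ?_, ?_⟩
    · rcases Finset.mem_union.mp he with he | he
      · exact ⟨(hs e he).1, by rw [← (hs e he).2, ← mul_assoc, hzwz]⟩
      · exact ⟨(ht e he).1, by rw [← (ht e he).2, ← mul_assoc, hzr]⟩
    · have hd : Disjoint s t := Finset.disjoint_left.mpr fun e hes het => by
        apply (hs e hes).1.ne_zero
        have h3 := (ht e het).2
        rw [← (hs e hes).2, ← mul_assoc, sub_mul, hzwz, hwzi, sub_self, zero_mul] at h3
        rw [← (hs e hes).2, ← h3]
      rw [Finset.sum_union hd, ← hse, ← hte, add_sub_cancel]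

/-- The block idempotents of `H`. -/
noncomputable def blks (H : Subgroup G) : Finset (MonoidAlgebra F G) :=
  Classical.choose (exists_sum_blockIdem (F := F) H 1 (inCenter_one H) (one_mul 1))

lemma sum_blks (H : Subgroup G) : ∑ e ∈ blks (F := F) H, e = 1 :=
  (Classical.choose_spec (exists_sum_blockIdem (F := F) H 1 (inCenter_one H) (one_mul 1))).2.symm

lemma mem_blks {H : Subgroup G} {e : MonoidAlgebra F G} : e ∈ blks H ↔ IsBlockIdem H e := by
  refine ⟨fun h => ((Classical.choose_spec
    (exists_sum_blockIdem (F := F) H 1 (inCenter_one H) (one_mul 1))).1 e h).1, fun he => ?_⟩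
  by_contra hne
  apply he.ne_zero
  rw [← mul_one e, ← sum_blks (F := F) H, Finset.mul_sum]
  refine Finset.sum_eq_zero fun f hf => he.mul_eq_zero ?_ fun h => hne (h ▸ hf)
  exact ((Classical.choose_spec
    (exists_sum_blockIdem (F := F) H 1 (inCenter_one H) (one_mul 1))).1 f hf).1

/-- A nonzero central idempotent lies over some block. -/
lemma exists_blockIdem_mul {H : Subgroup G} {z : MonoidAlgebra F G} (hz : InCenter H z)
    (hi : z * z = z) (h0 : z ≠ 0) : ∃ e, IsBlockIdem H e ∧ z * e = e := by
  obtain ⟨s, hs, hse⟩ := exists_sum_blockIdem H z hz hi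
  obtain ⟨e, he⟩ : s.Nonempty := by
    by_contra h
    exact h0 (by rw [hse, Finset.not_nonempty_iff_eq_empty.mp h, Finset.sum_empty])
  exact ⟨e, hs e he⟩

/-- Two central idempotents with the same blocks are equal. -/
lemma eq_of_forall_blocks {H : Subgroup G} {z w : MonoidAlgebra F G}
    (h : ∀ e, IsBlockIdem H e → z * e = w * e) : z = w := by
  rw [← mul_one z, ← mul_one w, ← sum_blks (F := F) H, Finset.mul_sum, Finset.mul_sum]
  exact Finset.sum_congr rfl fun e he => h e (mem_blks.mp he)

/-- Fitting: a central element that is not nilpotent on a block is invertible there. -/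
lemma IsBlockIdem.exists_inverse {H : Subgroup G} {e x : MonoidAlgebra F G}
    (he : IsBlockIdem H e) (hx : InCenter H x) (hnil : ∀ n : ℕ, x ^ n * e ≠ 0) :
    ∃ z, InCenter H z ∧ x * z * e = e := by
  haveI := finiteDimensional_monoidAlgebra (F := F) (G := G)
  let S : Submodule F (MonoidAlgebra F G) :=
    { carrier := {a | InCenter H a}
      zero_mem' := inCenter_zero H
      add_mem' := fun h h' => h.add h'
      smul_mem' := fun r a ha => ⟨fun y hy => by simp [ha.supp y hy],
        fun u hu y => by simp [ha.fixed u hu y]⟩ }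
  have hpow : ∀ n : ℕ, InCenter H (x ^ n) := by
    intro n
    induction n with
    | zero => exact inCenter_one H
    | succ n ih => rw [pow_succ]; exact ih.mul hx
  let T : ℕ → Submodule F (MonoidAlgebra F G) := fun n => S.map (LinearMap.mulLeft F (x ^ n * e))
  have hT : ∀ m k : ℕ, T (m + k) ≤ T m := by
    intro m k
    rintro _ ⟨a, ha, rfl⟩
    refine ⟨x ^ k * a, (hpow k).mul ha, ?_⟩
    simp only [LinearMap.mulLeft_apply]
    rw [pow_add, mul_assoc (x ^ m) (x ^ k) e, (hpow k).mul_comm he.mem]
    simp [mul_assoc]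
  have hex : ∃ d, ∃ n, Module.finrank F (T n) = d := ⟨_, 0, rfl⟩
  obtain ⟨n, hn⟩ := Nat.find_spec hex
  have hstab : T n = T (n + (n + 1)) := (Submodule.eq_of_le_of_finrank_le (hT n (n + 1))
    (hn.le.trans (Nat.find_min' hex ⟨_, rfl⟩))).symm
  have h1 : x ^ n * e * 1 ∈ T n := ⟨1, inCenter_one H, rfl⟩
  rw [hstab] at h1
  obtain ⟨a, ha, hae⟩ := h1
  simp only [LinearMap.mulLeft_apply, mul_one] at hae
  have hae' : x ^ n * (x ^ (n + 1) * (e * a)) = x ^ n * e := by
    rw [← hae]; simp only [pow_add, pow_one, mul_assoc]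
  set w := x ^ (n + 1) * (e * a) with hw
  have hwc : InCenter H w := (hpow _).mul (he.mem.mul ha)
  have hwi : w * w = w := by
    have h2 : w * w = x * ((x ^ n * e) * a) := by
      calc w * w = x ^ (n + 1) * ((e * a) * w) := by rw [hw, mul_assoc]
        _ = x ^ (n + 1) * (w * (e * a)) := by rw [(he.mem.mul ha).mul_comm hwc]
        _ = x * (x ^ n * w) * (e * a) := by rw [pow_succ']; simp [mul_assoc]
        _ = x * (x ^ n * e) * (e * a) := by rw [hw, hae']
        _ = x * ((x ^ n * e) * a) := by
            simp only [mul_assoc]; rw [← mul_assoc e e a, he.idem]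
    rw [h2, hw, pow_succ']; simp [mul_assoc]
  rcases he.prim w hwc hwi with h | h
  · refine ⟨x ^ n * (e * a), (hpow n).mul (he.mem.mul ha), ?_⟩
    rw [← mul_assoc x, ← pow_succ', ← hw, h]
  · exfalso
    apply hnil n
    have : x ^ n * (w * e) = x ^ n * e := by
      rw [← mul_assoc, hw, hae', mul_assoc, he.idem]
    rw [← this, h, mul_zero]

end CfsgLib.Blocks.Pairs
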