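import Cfsg.Agent.Lib.Blocks.Pairs.Basic

/-!
# Conjugation on the group algebra
-/

set_option autoImplicit false

namespace CfsgLib.Blocks.Pairs

open CfsgLib.Blocks
open scoped Classical

universe u v

variable {F : Type v} [Field F] {G : Type u} [Group G] [Finite G]

/-- The conjugate `x a x⁻¹`. -/
noncomputable def conjA (x : G) (a : MonoidAlgebra F G) : MonoidAlgebra F G :=
  ofFun fun y => a.coeff (x⁻¹ * y * x)

/-- The conjugate subgroup `x P x⁻¹`. -/
abbrev conjSub {G : Type u} [Group G] (x : G) (P : Subgroup G) : Subgroup G :=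
  P.map (MulAut.conj x).toMonoidHom

@[simp] lemma coeff_conjA (x : G) (a : MonoidAlgebra F G) (y : G) :
    (conjA x a).coeff y = a.coeff (x⁻¹ * y * x) := rfl

omit [Finite G] in
lemma mem_conjSub {x y : G} {P : Subgroup G} : y ∈ conjSub x P ↔ x⁻¹ * y * x ∈ P := by
  constructor
  · rintro ⟨z, hz, rfl⟩
    simpa [mul_assoc] using hz
  · intro h
    exact ⟨_, h, by simp [mul_assoc]⟩

omit [Finite G] in
lemma mem_centralizer_conjSub {x y : G} {P : Subgroup G} :
    y ∈ Subgroup.centralizer (conjSub x P : Set G) ↔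
      x⁻¹ * y * x ∈ Subgroup.centralizer (P : Set G) := by
  simp only [Subgroup.mem_centralizer_iff]
  constructor
  · intro h u hu
    have := h (x * u * x⁻¹) (mem_conjSub.mpr (by simpa [mul_assoc] using hu))
    calc u * (x⁻¹ * y * x) = x⁻¹ * (x * u * x⁻¹ * y) * x := by group
      _ = x⁻¹ * (y * (x * u * x⁻¹)) * x := by rw [this]
      _ = x⁻¹ * y * x * u := by group
  · intro h u hu
    have := h _ (mem_conjSub.mp hu)
    calc u * y = x * (x⁻¹ * u * x * (x⁻¹ * y * x)) * x⁻¹ := by group
      _ = x * (x⁻¹ * y * x * (x⁻¹ * u * x)) * x⁻¹ := by rw [this]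
      _ = y * u := by group

omit [Finite G] in
lemma centralizer_conjSub (x : G) (P : Subgroup G) :
    Subgroup.centralizer (conjSub x P : Set G) = conjSub x (Subgroup.centralizer (P : Set G)) := by
  ext y; rw [mem_centralizer_conjSub, mem_conjSub]

omit [Finite G] in
lemma mem_normalizer_conjSub {x y : G} {P : Subgroup G} :
    y ∈ Subgroup.normalizer (conjSub x P : Set G) ↔
      x⁻¹ * y * x ∈ Subgroup.normalizer (P : Set G) := by
  simp only [Subgroup.mem_normalizer_iff, mem_conjSub]
  constructor
  · intro h u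
    have := h (x * u * x⁻¹)
    simpa [mul_assoc] using this
  · intro h u
    have := h (x⁻¹ * u * x)
    simpa [mul_assoc] using this

omit [Finite G] in
lemma conjSub_conjSub (x y : G) (P : Subgroup G) : conjSub x (conjSub y P) = conjSub (x * y) P := by
  ext z; simp only [mem_conjSub, mul_inv_rev, mul_assoc]

omit [Finite G] in
@[simp] lemma conjSub_one (P : Subgroup G) : conjSub (1 : G) P = P := by
  ext z; simp [mem_conjSub]

omit [Finite G] in
lemma conjSub_mono (x : G) {P Q : Subgroup G} (h : Q ≤ P) : conjSub x Q ≤ conjSub x P :=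
  Subgroup.map_mono h

omit [Finite G] in
lemma conjSub_eq_of_mem_normalizer {x : G} {P : Subgroup G}
    (h : x ∈ Subgroup.normalizer (P : Set G)) : conjSub x P = P := by
  ext y
  rw [mem_conjSub]
  have := (Subgroup.mem_normalizer_iff.mp (Subgroup.inv_mem _ h)) y
  simpa using this.symm

omit [Finite G] in
lemma mem_normalizer_of_conjSub_eq {x : G} {P : Subgroup G} (h : conjSub x P = P) :
    x ∈ Subgroup.normalizer (P : Set G) := by
  rw [Subgroup.mem_normalizer_iff]
  intro u
  constructor
  · intro hu
    rw [← h, mem_conjSub]; simpa [mul_assoc] using hu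
  · intro hu
    rw [← h, mem_conjSub] at hu; simpa [mul_assoc] using hu

lemma conjA_conjA (x y : G) (a : MonoidAlgebra F G) : conjA x (conjA y a) = conjA (x * y) a := by
  ext z; simp [mul_assoc]

@[simp] lemma conjA_one (a : MonoidAlgebra F G) : conjA (1 : G) a = a := by
  ext z; simp

@[simp] lemma conjA_zero (x : G) : conjA x (0 : MonoidAlgebra F G) = 0 := by
  ext z; simp

@[simp] lemma conjA_inv_conjA (x : G) (a : MonoidAlgebra F G) : conjA x⁻¹ (conjA x a) = a := by
  rw [conjA_conjA]; simp

lemma conjA_injective (x : G) : Function.Injective (conjA (F := F) x) :=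
  fun a b h => by rw [← conjA_inv_conjA x a, h, conjA_inv_conjA]

lemma conjA_eq_self_iff {x : G} {a : MonoidAlgebra F G} :
    conjA x a = a ↔ ∀ y, a.coeff (x * y * x⁻¹) = a.coeff y := by
  constructor
  · intro h y
    conv_lhs => rw [← h]
    simp [mul_assoc]
  · intro h
    ext y
    have := h (x⁻¹ * y * x)
    rw [coeff_conjA, ← this]
    simp [mul_assoc]

lemma conjFixed_iff {P : Subgroup G} {a : MonoidAlgebra F G} :
    ConjFixed P a ↔ ∀ u ∈ P, conjA u a = a :=
  ⟨fun h u hu => conjA_eq_self_iff.mpr (h u hu), fun h u hu => conjA_eq_self_iff.mp (h u hu)⟩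

lemma conjA_mul (x : G) (a b : MonoidAlgebra F G) : conjA x (a * b) = conjA x a * conjA x b := by
  haveI := Fintype.ofFinite G
  ext c
  rw [coeff_conjA, coeff_mul_group, coeff_mul_group, ← Equiv.sum_comp (MulAut.conj x⁻¹).toEquiv]
  refine Finset.sum_congr rfl fun y _ => ?_
  simp only [MulEquiv.toEquiv_eq_coe, EquivLike.coe_coe, MulAut.conj_apply, coeff_conjA, inv_inv]
  congr 2
  group

lemma conjA_add (x : G) (a b : MonoidAlgebra F G) : conjA x (a + b) = conjA x a + conjA x b := by
  ext c; simp

lemma conjA_sum {ι : Type*} (x : G) (s : Finset ι) (a : ι → MonoidAlgebra F G) :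
    conjA x (∑ i ∈ s, a i) = ∑ i ∈ s, conjA x (a i) := by
  induction s using Finset.induction with
  | empty => simp
  | insert i s hi ih => rw [Finset.sum_insert hi, Finset.sum_insert hi, conjA_add, ih]

lemma trunc_conjA (x : G) (P : Subgroup G) (a : MonoidAlgebra F G) :
    trunc (conjSub x P) (conjA x a) = conjA x (trunc P a) := by
  ext y
  simp only [coeff_trunc, coeff_conjA]
  exact if_congr mem_centralizer_conjSub rfl rfl

lemma InCenter.conj {H : Subgroup G} {a : MonoidAlgebra F G} (ha : InCenter H a) (x : G) :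
    InCenter (conjSub x H) (conjA x a) := by
  refine ⟨fun y hy => ?_, fun u hu y => ?_⟩
  · rw [coeff_conjA]; exact ha.supp _ fun h => hy (mem_conjSub.mpr h)
  · simp only [coeff_conjA]
    rw [← ha.fixed _ (mem_conjSub.mp hu) (x⁻¹ * y * x)]
    congr 1
    group

lemma IsBlockIdem.conj {H : Subgroup G} {e : MonoidAlgebra F G} (he : IsBlockIdem H e) (x : G) :
    IsBlockIdem (conjSub x H) (conjA x e) := by
  refine ⟨he.mem.conj x, by rw [← conjA_mul, he.idem],
    fun h => he.ne_zero (conjA_injective x (by rw [h, conjA_zero])), fun z hz hzi => ?_⟩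
  have hz' : InCenter H (conjA x⁻¹ z) := by
    have := hz.conj x⁻¹
    rwa [conjSub_conjSub, inv_mul_cancel, conjSub_one] at this
  rcases he.prim (conjA x⁻¹ z) hz' (by rw [← conjA_mul, hzi]) with h | h
  · left
    have := congrArg (conjA x) h
    rwa [conjA_mul, conjA_conjA, mul_inv_cancel, conjA_one] at this
  · right
    have := congrArg (conjA x) h
    rwa [conjA_mul, conjA_conjA, mul_inv_cancel, conjA_one, conjA_zero] at this

lemma IsBlockIdem.conj_of_normalizer {H : Subgroup G} {e : MonoidAlgebra F G}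
    (he : IsBlockIdem H e) {x : G} (hx : x ∈ Subgroup.normalizer (H : Set G)) :
    IsBlockIdem H (conjA x e) := by
  have := he.conj x
  rwa [conjSub_eq_of_mem_normalizer hx] at this

lemma IsBlockIdem.conj_centralizer {Q : Subgroup G} {e : MonoidAlgebra F G}
    (he : IsBlockIdem (Subgroup.centralizer (Q : Set G)) e) (x : G) :
    IsBlockIdem (Subgroup.centralizer (conjSub x Q : Set G)) (conjA x e) := by
  rw [centralizer_conjSub]; exact he.conj x

omit [Finite G] in
lemma normalizer_le_normalizer_centralizer (Q : Subgroup G) :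
    Subgroup.normalizer (Q : Set G) ≤
      Subgroup.normalizer ((Subgroup.centralizer (Q : Set G) : Subgroup G) : Set G) := by
  intro x hx
  apply mem_normalizer_of_conjSub_eq
  rw [← centralizer_conjSub, conjSub_eq_of_mem_normalizer hx]

end CfsgLib.Blocks.Pairs
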