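import Cfsg.Agent.Lib.Blocks.Pairs.Defect

/-!
Defect groups of covered blocks: a block idempotent of a normal subgroup `N` meeting the idempotent
of a block of `G` has its Brauer images dominated by those of that block.
-/

set_option autoImplicit false

open Cfsg CfsgLib.Blocks
open scoped Classical

namespace CfsgLib.Blocks.Pairs

universe u v

/-- An idempotent in the span of a multiplicative set of nilpotent elements vanishes. -/
theorem idem_eq_zero_of_nil {F : Type v} [Field F] {A : Type u} [Ring A] [Algebra F A]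
    [FiniteDimensional F A] (S : Set A) (hS : ∀ s ∈ S, ∀ t ∈ S, s * t ∈ S)
    (hnil : ∀ s ∈ S, IsNilpotent s) {x : A} (hx : x ∈ Submodule.span F S) (hxx : x * x = x) :
    x = 0 := by
  by_contra hx0
  let Inv : Submodule F A → Prop := fun P => ∀ s ∈ S, ∀ v ∈ P, s * v ∈ P
  obtain ⟨M₀, ⟨hM₀, hxM₀⟩, hmax⟩ :=
    set_has_maximal_iff_noetherian.mpr (inferInstance : IsNoetherian F A)
      {P : Submodule F A | Inv P ∧ x ∉ P}
      ⟨⊥, fun s _ v hv => by rw [(Submodule.mem_bot F).1 hv, mul_zero]; exact zero_mem _,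
        fun h => hx0 ((Submodule.mem_bot F).1 h)⟩
  let gen : A → Submodule F A := fun y =>
    M₀ ⊔ Submodule.span F (insert y ((fun s => s * y) '' S))
  have hgen : ∀ y, Inv (gen y) := by
    intro y s hs v hv
    have : gen y ≤ (gen y).comap (LinearMap.mulLeft F s) := by
      refine sup_le (fun w hw => ?_) (Submodule.span_le.2 ?_)
      · exact Submodule.mem_sup_left (hM₀ s hs w hw)
      · rintro w (rfl | ⟨t, ht, rfl⟩)
        · exact Submodule.mem_sup_right (Submodule.subset_span (Or.inr ⟨s, hs, rfl⟩))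
        · exact Submodule.mem_sup_right (Submodule.subset_span
            (Or.inr ⟨s * t, hS s hs t ht, mul_assoc _ _ _⟩))
    exact this hv
  have hmem : ∀ y, y ∈ gen y := fun y =>
    Submodule.mem_sup_right (Submodule.subset_span (Or.inl rfl))
  have hbig : ∀ y, y ∉ M₀ → gen x ≤ gen y := by
    intro y hy
    have hxy : x ∈ gen y := by
      by_contra h
      exact hmax _ ⟨hgen y, h⟩ (lt_of_le_of_ne le_sup_left fun he => hy (by
        rw [he]; exact hmem y))
    refine sup_le le_sup_left (Submodule.span_le.2 ?_)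
    rintro w (rfl | ⟨t, ht, rfl⟩)
    · exact hxy
    · exact hgen y t ht x hxy
  let I : A → Submodule F A := fun s => (gen x).map (LinearMap.mulLeft F s) ⊔ M₀
  have hkill : ∀ s ∈ S, ∀ v ∈ gen x, s * v ∈ M₀ := by
    by_contra hcon
    push Not at hcon
    have hex : ∃ d : ℕ, ∃ s ∈ S, (∃ v ∈ gen x, s * v ∉ M₀) ∧ Module.finrank F (I s) = d := by
      obtain ⟨s, hs, h⟩ := hcon
      exact ⟨_, s, hs, h, rfl⟩
    obtain ⟨s, hs, ⟨v, hv, hsv⟩, hd⟩ := Nat.find_spec hex
    have key : ∀ t : A, (t = 1 ∨ t ∈ S) → ∀ w ∈ gen x, s * (t * (s * w)) ∈ M₀ := by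
      intro t ht
      by_contra hne
      push Not at hne
      obtain ⟨w, hw, hne⟩ := hne
      have hg : s * t ∈ S := by
        rcases ht with rfl | ht
        · rwa [mul_one]
        · exact hS s hs t ht
      have hu : s * t * s ∈ S := hS _ hg s hs
      have hle : I (s * t * s) ≤ I s := by
        refine sup_le ?_ le_sup_right
        rintro _ ⟨z, hz, rfl⟩
        refine Submodule.mem_sup_left ⟨t * (s * z), ?_, by simp [mul_assoc]⟩
        rcases ht with rfl | ht
        · rw [one_mul]; exact hgen x s hs z hz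
        · exact hgen x t ht _ (hgen x s hs z hz)
      have heq : I (s * t * s) = I s := Submodule.eq_of_le_of_finrank_le hle
        (hd.le.trans (Nat.find_min' hex ⟨_, hu, ⟨w, hw, by simpa [mul_assoc] using hne⟩, rfl⟩))
      have hpowM : ∀ k : ℕ, ∀ m ∈ M₀, (s * t) ^ k * m ∈ M₀ := by
        intro k
        induction k with
        | zero => simp
        | succ k ih =>
          intro m hm
          rw [pow_succ, mul_assoc]
          exact ih _ (hM₀ _ hg m hm)
      have hstep : ∀ k : ℕ, I s ≤ (I s).map (LinearMap.mulLeft F ((s * t) ^ k)) ⊔ M₀ := by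
        intro k
        induction k with
        | zero =>
          intro z hz
          exact Submodule.mem_sup_left ⟨z, hz, by simp⟩
        | succ k ih =>
          refine ih.trans (sup_le ?_ le_sup_right)
          rintro _ ⟨z, hz, rfl⟩
          rw [← heq] at hz
          obtain ⟨_, ⟨a, ha, rfl⟩, m, hm, rfl⟩ := Submodule.mem_sup.1 hz
          rw [LinearMap.mulLeft_apply, LinearMap.mulLeft_apply, mul_add]
          refine add_mem (Submodule.mem_sup_left ⟨s * a, Submodule.mem_sup_left ⟨a, ha, rfl⟩,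
            by simp [pow_succ, mul_assoc]⟩) (Submodule.mem_sup_right ?_)
          exact hpowM k m hm
      obtain ⟨n, hn⟩ := hnil _ hg
      obtain ⟨_, ⟨z, -, rfl⟩, m, hm, he⟩ :=
        Submodule.mem_sup.1 (hstep n (Submodule.mem_sup_left ⟨v, hv, rfl⟩))
      apply hsv
      rw [LinearMap.mulLeft_apply, LinearMap.mulLeft_apply] at he
      rw [← he, hn, zero_mul, zero_add]
      exact hm
    have hle2 : gen (s * v) ≤ M₀.comap (LinearMap.mulLeft F s) := by
      refine sup_le (fun w hw => hM₀ s hs w hw) (Submodule.span_le.2 ?_)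
      rintro w (rfl | ⟨t, ht, rfl⟩)
      · simpa using key 1 (Or.inl rfl) v hv
      · exact key t (Or.inr ht) v hv
    exact hsv (hle2 (hbig _ hsv hv))
  have h2 : Submodule.span F S ≤ M₀.comap (LinearMap.mulRight F x) :=
    Submodule.span_le.2 fun s hs => hkill s hs x (hmem x)
  exact hxM₀ (by simpa [hxx] using h2 hx)

variable {F : Type v} [Field F] {G : Type u} [Group G] [Finite G]

/-- The part of an element supported on one coset of a normal subgroup. -/
noncomputable def part {N : Subgroup G} [N.Normal] (q : G ⧸ N) (a : MonoidAlgebra F G) :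
    MonoidAlgebra F G :=
  ofFun fun x => if (x : G ⧸ N) = q then a.coeff x else 0

section
variable {N : Subgroup G} [N.Normal]

theorem coeff_part (q : G ⧸ N) (a : MonoidAlgebra F G) (x : G) :
    (part q a).coeff x = if (x : G ⧸ N) = q then a.coeff x else 0 := by simp [part]

/-- Support in one coset. -/
def OnCoset (q : G ⧸ N) (a : MonoidAlgebra F G) : Prop :=
  ∀ x : G, (x : G ⧸ N) ≠ q → a.coeff x = 0

theorem onCoset_part (q : G ⧸ N) (a : MonoidAlgebra F G) : OnCoset q (part q a) :=
  fun x hx => by simp [coeff_part, hx]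

theorem onCoset_one_iff {a : MonoidAlgebra F G} : OnCoset (1 : G ⧸ N) a ↔ SuppIn N a := by
  simp [OnCoset, SuppIn, QuotientGroup.eq_one_iff]

theorem sum_part [Fintype (G ⧸ N)] (a : MonoidAlgebra F G) : ∑ q : G ⧸ N, part q a = a := by
  ext x
  rw [MonoidAlgebra.coeff_sum, Finset.sum_apply', Finset.sum_eq_single (x : G ⧸ N)]
  · simp [coeff_part]
  · intro q _ hq; simp [coeff_part, Ne.symm hq]
  · intro h; exact absurd (Finset.mem_univ _) h

theorem OnCoset.mul {q r : G ⧸ N} {a b : MonoidAlgebra F G} (ha : OnCoset q a)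
    (hb : OnCoset r b) : OnCoset (q * r) (a * b) := by
  haveI := Fintype.ofFinite G
  intro c hc
  rw [coeff_mul_group]
  refine Finset.sum_eq_zero fun x _ => ?_
  by_cases hx : (x : G ⧸ N) = q
  · rw [hb (x⁻¹ * c) fun h => hc (by rw [← hx, ← h]; simp), mul_zero]
  · rw [ha x hx, zero_mul]

theorem part_mul_left {q r : G ⧸ N} {a b : MonoidAlgebra F G} (ha : OnCoset q a) :
    part (q * r) (a * b) = a * part r b := by
  haveI := Fintype.ofFinite G
  ext c
  rw [coeff_part, coeff_mul_group a (part r b), coeff_mul_group]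
  by_cases hc : (c : G ⧸ N) = q * r
  · rw [if_pos hc]
    refine Finset.sum_congr rfl fun x _ => ?_
    by_cases hx : (x : G ⧸ N) = q
    · rw [coeff_part, if_pos (by simp [hc, hx])]
    · rw [ha x hx, zero_mul, zero_mul]
  · rw [if_neg hc]
    refine (Finset.sum_eq_zero fun x _ => ?_).symm
    by_cases hx : (x : G ⧸ N) = q
    · rw [coeff_part, if_neg (fun h => hc (by rw [← hx, ← h]; simp)), mul_zero]
    · rw [ha x hx, zero_mul]

theorem part_mul_right {r : G ⧸ N} {a b : MonoidAlgebra F G} (hb : OnCoset (1 : G ⧸ N) b) :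
    part r (a * b) = part r a * b := by
  haveI := Fintype.ofFinite G
  ext c
  rw [coeff_part, coeff_mul_group (part r a) b, coeff_mul_group]
  have hcx : ∀ x : G, ((x⁻¹ * c : G) : G ⧸ N) = 1 → (x : G ⧸ N) = (c : G ⧸ N) := fun x h => by
    rw [QuotientGroup.mk_mul, QuotientGroup.mk_inv, inv_mul_eq_one] at h
    exact h
  by_cases hc : (c : G ⧸ N) = r
  · rw [if_pos hc]
    refine Finset.sum_congr rfl fun x _ => ?_
    by_cases hx : ((x⁻¹ * c : G) : G ⧸ N) = 1
    · rw [coeff_part, if_pos ((hcx x hx).trans hc)]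
    · rw [hb _ hx, mul_zero, mul_zero]
  · rw [if_neg hc]
    refine (Finset.sum_eq_zero fun x _ => ?_).symm
    by_cases hx : ((x⁻¹ * c : G) : G ⧸ N) = 1
    · rw [coeff_part, if_neg (fun h => hc ((hcx x hx).symm.trans h)), zero_mul]
    · rw [hb _ hx, mul_zero]

theorem conjFixed_part {q : G ⧸ N} {a : MonoidAlgebra F G} (ha : ConjFixed N a) :
    ConjFixed N (part q a) := by
  intro u hu x
  have h1 : ((u : G) : G ⧸ N) = 1 := (QuotientGroup.eq_one_iff u).2 hu
  simp [coeff_part, h1, ha u hu x]

theorem part_trunc (q : G ⧸ N) (P : Subgroup G) (a : MonoidAlgebra F G) :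
    part q (trunc P a) = trunc P (part q a) := by
  ext x
  simp only [coeff_part, coeff_trunc]
  split_ifs <;> rfl

variable {p : ℕ} [Fact p.Prime] [CharP F p]

/-- If the block idempotent `e` of `N` meets the central idempotent `E` of `G`, then a Brauer image
of `e` at a subgroup of `N` can only be nonzero if that of `E` is. -/
theorem trunc_ne_zero_of_covered {E e : MonoidAlgebra F G} (hE : InCenter (⊤ : Subgroup G) E)
    (hEi : E * E = E) (he : IsBlockIdem N e) (hne : E * e ≠ 0) {R : Subgroup G} (hRN : R ≤ N)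
    (hR : IsPGroup p R) (htr : trunc R e ≠ 0) : trunc R E ≠ 0 := by
  haveI := finiteDimensional_monoidAlgebra (F := F) (G := G)
  haveI := Fintype.ofFinite (G ⧸ N)
  set x := E * e with hx
  have he1 : OnCoset (1 : G ⧸ N) e := onCoset_one_iff.2 he.mem.supp
  have hEN : ConjFixed N E := hE.fixed.mono le_top
  have hxN : ConjFixed N x := conjFixed_mul hEN he.mem.fixed
  have hcomm : e * E = E * e := mul_comm_of_suppIn he.mem.supp hEN
  have hxx : x * x = x := by
    rw [hx, mul_assoc, ← mul_assoc e E e, hcomm, mul_assoc, he.idem, ← mul_assoc, hEi]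
  have hze : ∀ q, part q x * e = part q x := fun q => by
    rw [← part_mul_right he1, hx, mul_assoc, he.idem]
  have hez : ∀ q, e * part q x = part q x := fun q => by
    rw [mul_comm_of_suppIn he.mem.supp (conjFixed_part hxN), hze]
  let T : Subsemigroup (MonoidAlgebra F G) :=
    Subsemigroup.closure (Set.range fun q : G ⧸ N => part q x)
  have hform : ∀ s ∈ T, ConjFixed N s ∧ s * e = s ∧
      ∃ (r : G ⧸ N) (w : MonoidAlgebra F G) (q : G ⧸ N),
      s = w * part q x ∧ OnCoset r w ∧ ConjFixed N w := by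
    intro s hs
    induction hs using Subsemigroup.closure_induction with
    | mem s hs =>
      obtain ⟨q, rfl⟩ := hs
      exact ⟨conjFixed_part hxN, hze q, 1, e, q, (hez q).symm, he1, he.mem.fixed⟩
    | mul a b _ _ iha ihb =>
      obtain ⟨ha, -, r, w, q, hw, hwr, -⟩ := iha
      obtain ⟨hb, hbe, r', w', q', hw', hwr', hwf'⟩ := ihb
      refine ⟨conjFixed_mul ha hb, by rw [mul_assoc, hbe], r * q * r', a * w', q', ?_, ?_,
        conjFixed_mul ha hwf'⟩
      · rw [hw', mul_assoc]
      · rw [hw]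
        exact (hwr.mul (onCoset_part q x)).mul hwr'
  obtain ⟨s, hs, hsnil⟩ : ∃ s ∈ T, ¬ IsNilpotent s := by
    by_contra hcon
    push Not at hcon
    refine hne (idem_eq_zero_of_nil (F := F) (T : Set (MonoidAlgebra F G))
      (fun a ha b hb => T.mul_mem ha hb) hcon ?_ hxx)
    have h : ∑ q : G ⧸ N, part q x ∈ Submodule.span F (T : Set (MonoidAlgebra F G)) :=
      Submodule.sum_mem _ fun q _ =>
        Submodule.subset_span (Subsemigroup.subset_closure ⟨q, rfl⟩)
    rwa [sum_part] at h
  obtain ⟨hsf, hse, r, w, q, hsw, hwr, hwf⟩ := hform s hs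
  have hsd : OnCoset (r * q) s := hsw ▸ hwr.mul (onCoset_part q x)
  have hpow : ∀ m : ℕ, OnCoset ((r * q) ^ m) (s ^ m) ∧ ConjFixed N (s ^ m) := by
    intro m
    induction m with
    | zero => exact ⟨by simpa using onCoset_one_iff.2 (inCenter_one (F := F) N).supp,
        by simpa using (inCenter_one (F := F) N).fixed⟩
    | succ m ih =>
      rw [pow_succ, pow_succ]
      exact ⟨ih.1.mul hsd, conjFixed_mul ih.2 hsf⟩
  obtain ⟨m, hm⟩ : ∃ m, orderOf (r * q) = m + 1 :=
    ⟨orderOf (r * q) - 1, by have := orderOf_pos (r * q); omega⟩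
  have hyc : InCenter N (s ^ (m + 1)) := by
    refine ⟨onCoset_one_iff.1 ?_, (hpow (m + 1)).2⟩
    rw [← pow_orderOf_eq_one (r * q), hm]
    exact (hpow (m + 1)).1
  have hnil : ∀ n : ℕ, (s ^ (m + 1)) ^ n * e ≠ 0 := by
    intro n h0
    rcases Nat.eq_zero_or_pos n with rfl | hn
    · exact he.ne_zero (by simpa using h0)
    · apply hsnil
      refine ⟨(m + 1) * n, ?_⟩
      obtain ⟨j, hj⟩ : ∃ j, (m + 1) * n = j + 1 := ⟨(m + 1) * n - 1, by
        have : 0 < (m + 1) * n := by positivity
        omega⟩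
      rw [← pow_mul, hj, pow_succ, mul_assoc, hse] at h0
      rw [hj, pow_succ]
      exact h0
  obtain ⟨v, hv, hve⟩ := he.exists_inverse hyc hnil
  -- a homogeneous element `u` with `u * part q x = e`
  obtain ⟨u, r', hur, huf, hue⟩ : ∃ u r', OnCoset r' u ∧ ConjFixed N u ∧ u * part q x = e := by
    refine ⟨v * (s ^ m * w), _, (onCoset_one_iff.2 hv.supp).mul ((hpow m).1.mul hwr),
      conjFixed_mul hv.fixed (conjFixed_mul (hpow m).2 hwf), ?_⟩
    calc v * (s ^ m * w) * part q x = v * (s ^ m * (w * part q x)) := by simp [mul_assoc]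
      _ = v * (s ^ m * (w * part q x * e)) := by rw [mul_assoc w, hze]
      _ = v * s ^ (m + 1) * e := by rw [← hsw, pow_succ]; simp [mul_assoc]
      _ = e := by rw [← hyc.mul_comm hv, hve]
  have hrq : r' * q = 1 := by
    by_contra hne1
    apply he.ne_zero
    ext c
    rw [← hue]
    by_cases hc : (c : G ⧸ N) = r' * q
    · rw [hue]
      simpa using he1 c (by rw [hc]; exact hne1)
    · simpa using (hur.mul (onCoset_part q x)) c hc
  have hfin : e = part (1 : G ⧸ N) (u * x) := by rw [← hrq, part_mul_left hur, hue]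
  intro h0
  apply htr
  rw [hfin, ← part_trunc, trunc_mul hR (huf.mono hRN) (hxN.mono hRN), hx,
    trunc_mul hR (hEN.mono hRN) (he.mem.fixed.mono hRN), h0, zero_mul, mul_zero]
  ext c
  simp [coeff_part]

end

end CfsgLib.Blocks.Pairs
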