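import Cfsg.Agent.Lib.Blocks.Pairs.SubTransport

/-!
# A class fixed by a `p`-group acting on a stable block
-/

set_option autoImplicit false

namespace CfsgLib.Blocks.Pairs

open Cfsg CfsgLib.Blocks
open scoped Classical

universe u

variable {G : Type u} [Group G] [Finite G] {p : ℕ} [Fact p.Prime] {M : Ideal AlgInt} [M.IsMaximal]

/-- A `p`-group stabilizing a block of a subgroup `K` fixes a class of `K` on which the block
idempotent does not vanish. -/
theorem exists_fixed_class (hM : IsPModular p M) {K S : Subgroup G} {e : Set (IrrCharacter K)}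
    (he : IsPBlock M e) (hS : IsPGroup p S) (hSN : S ≤ Subgroup.normalizer (K : Set G))
    (hfix : ConjFixed S (eIn he)) :
    ∃ g ∈ K, (eIn he).coeff g ≠ 0 ∧ ∀ s ∈ S, ∃ k ∈ K, k * g * k⁻¹ = s * g * s⁻¹ := by
  haveI : CharP (ResField M) p := charP_resField hM.1 (natCast_mem_of_isPModular hM)
  haveI := Fintype.ofFinite G
  haveI := Fintype.ofFinite K
  obtain ⟨ξ, hξ⟩ := IsPBlock.nonempty he
  let φ : S → K →* K := fun s =>
    { toFun := fun k => ⟨(s : G) * k * (s : G)⁻¹,
        (Subgroup.mem_normalizer_iff.mp (hSN s.2) k).mp k.2⟩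
      map_one' := Subtype.ext (by simp)
      map_mul' := fun a b => Subtype.ext (by simp [mul_assoc]) }
  letI : MulAction S (ConjClasses K) :=
    { smul := fun s C => ConjClasses.map (φ s) C
      one_smul := fun C => by
        induction C using Quotient.inductionOn with
        | h k => exact congrArg ConjClasses.mk (Subtype.ext (by simp [φ]))
      mul_smul := fun s t C => by
        induction C using Quotient.inductionOn with
        | h k => exact congrArg ConjClasses.mk (Subtype.ext (by simp [φ, mul_assoc])) }
  -- the summand on elements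
  let w : K → ResField M := fun k => (ebar he).coeff k * red M (centralR M ξ k)
  have hwconj : ∀ u x : K, w (u * x * u⁻¹) = w x := by
    intro u x
    simp only [w]
    rw [show ebar he = (blockIdem he : MonoidAlgebra (ResField M) K) from rfl,
      ← coeff_eq_of_isConj (blockIdem he).2 (isConj_iff.2 ⟨u, rfl⟩)]
    congr 2
    exact Subtype.ext (by simpa using centralChar_conj ξ u x)
  let W : ConjClasses K → ResField M := fun C => w (Quotient.out C)
  have hW : ∀ k : K, W (ConjClasses.mk k) = w k := by
    intro k
    obtain ⟨c, hc⟩ := isConj_iff.1 (ConjClasses.mk_eq_mk_iff_isConj.1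
      (Quotient.out_eq (ConjClasses.mk k) :
        ConjClasses.mk (Quotient.out (ConjClasses.mk k)) = ConjClasses.mk k))
    show w (Quotient.out (ConjClasses.mk k)) = w k
    conv_rhs => rw [← hc, hwconj]
  have hWinv : ∀ (s : S) (C : ConjClasses K), W (s • C) = W C := by
    intro s C
    induction C using Quotient.inductionOn with
    | h k =>
      show W (ConjClasses.mk (φ s k)) = W (ConjClasses.mk k)
      rw [hW, hW]
      simp only [w]
      congr 1
      · rw [← coeff_up_coe K (ebar he) k, ← coeff_up_coe K (ebar he) (φ s k)]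
        exact hfix _ s.2 _
      · let ψ : K ≃* K :=
          { toFun := fun k => ⟨(s : G) * k * (s : G)⁻¹,
              (Subgroup.mem_normalizer_iff.mp (hSN s.2) k).mp k.2⟩
            invFun := fun k => ⟨(s : G)⁻¹ * k * (s : G),
              (Subgroup.mem_normalizer_iff''.mp (hSN s.2) k).mp k.2⟩
            left_inv := fun k => Subtype.ext (by simp [mul_assoc])
            right_inv := fun k => Subtype.ext (by simp [mul_assoc])
            map_mul' := fun a b => Subtype.ext (by simp [mul_assoc]) }
        have hp : pullSet ψ e = e := eIn_injective (isPBlock_pullSet ψ he) he (by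
          rw [eIn_conj ψ (s : G)⁻¹ (fun k => by simp [ψ])
            (conjSub_eq_of_mem_normalizer (Subgroup.inv_mem _ (hSN s.2))).symm he]
          exact conjFixed_iff.mp hfix _ (S.inv_mem s.2))
        have hmem : pull ψ ξ ∈ e := by
          rw [← hp]; exact ⟨ξ, hξ, rfl⟩
        have h1 : lam M (pull ψ ξ) = lam M ξ := IsPBlock.lam_eq he hmem hξ
        have h2 := DFunLike.congr_fun h1 (classSumC (ResField M) k)
        rw [lam_classSumC, lam_classSumC] at h2
        rw [← h2]
        congr 1
        exact Subtype.ext (by simpa [ψ, φ] using (centralChar_pull ψ ξ k).symm)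
  -- the sum over classes is one
  have hsum : ∑ C : ConjClasses K, W C = 1 := by
    rw [← lam_blockIdem_of_mem he hξ, lam_apply, classEval]
    rfl
  rw [sum_eq_sum_fixed hS W hWinv] at hsum
  obtain ⟨C, hC, hne⟩ := Finset.exists_ne_zero_of_sum_ne_zero
    (hsum.trans_ne (one_ne_zero (α := ResField M)))
  refine ⟨(Quotient.out C : K), (Quotient.out C : K).2, ?_, fun s hs => ?_⟩
  · intro h0
    apply hne
    show w (Quotient.out C) = 0
    simp only [w]
    rw [← coeff_up_coe K (ebar he), show up K (ebar he) = eIn he from rfl, h0, zero_mul]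
  · have h1 : ConjClasses.mk (φ ⟨s, hs⟩ (Quotient.out C)) = ConjClasses.mk (Quotient.out C) := by
      have h2 := (Finset.mem_filter.mp hC).2 ⟨s, hs⟩
      conv_rhs => rw [show ConjClasses.mk (Quotient.out C) = C from Quotient.out_eq C, ← h2]
      conv_rhs => rw [← Quotient.out_eq C]
      rfl
    obtain ⟨c, hc⟩ := isConj_iff.1 (ConjClasses.mk_eq_mk_iff_isConj.1 h1.symm)
    exact ⟨c, c.2, congrArg Subtype.val hc⟩

end CfsgLib.Blocks.Pairs
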