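import Cfsg.Prelude.Def_BlockFusion
import Cfsg.Agent.Lib.Blocks.Pairs.FixedClass
import Cfsg.Agent.Lib.Fusion.Saturation

/-!
# The fusion system of a block
-/

set_option autoImplicit false

namespace CfsgLib.Blocks.Pairs

open Cfsg CfsgLib.Blocks
open scoped Classical Pointwise

universe u

variable {G : Type u} [Group G] [Finite G] {F : Type*} [Field F]

/-- The maps of the fusion system of a Brauer pair. -/
def pairHom (p : ℕ) (P : Subgroup G) (e : MonoidAlgebra F G) (Q : Subgroup G) : Set (Q →* G) :=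
  {φ | ∃ g : G, (∀ u : Q, φ u = g * (u : G) * g⁻¹) ∧
    ∃ f, SLE p Q f P e ∧ SLE p (conjSub g Q) (conjA g f) P e}

omit [Finite G] in
theorem range_eq_conjSub {Q : Subgroup G} {φ : Q →* G} {g : G}
    (h : ∀ u : Q, φ u = g * (u : G) * g⁻¹) : φ.range = conjSub g Q := by
  ext y
  constructor
  · rintro ⟨u, rfl⟩; exact ⟨u, u.2, (h u).symm⟩
  · rintro ⟨u, hu, rfl⟩; exact ⟨⟨u, hu⟩, h _⟩

/-- The stabilizer of a pair. -/
def pairStab (Q : Subgroup G) (f : MonoidAlgebra F G) : Subgroup G where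
  carrier := {y | y ∈ Subgroup.normalizer (Q : Set G) ∧ conjA y f = f}
  one_mem' := ⟨one_mem _, conjA_one f⟩
  mul_mem' := fun {a b} ha hb => ⟨mul_mem ha.1 hb.1, by rw [← conjA_conjA, hb.2, ha.2]⟩
  inv_mem' := fun {a} ha => ⟨inv_mem ha.1, by conv_lhs => rw [← ha.2, conjA_inv_conjA]⟩

theorem conjSub_pairStab (x : G) (Q : Subgroup G) (f : MonoidAlgebra F G) :
    conjSub x (pairStab Q f) = pairStab (conjSub x Q) (conjA x f) := by
  ext y
  rw [mem_conjSub]
  constructor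
  · rintro ⟨h1, h2⟩
    refine ⟨mem_normalizer_conjSub.mpr h1, ?_⟩
    rw [conjA_conjA]
    conv_rhs => rw [← h2, conjA_conjA]
    congr 1
    group
  · rintro ⟨h1, h2⟩
    refine ⟨mem_normalizer_conjSub.mp h1, ?_⟩
    rw [← conjA_conjA, ← conjA_conjA, conjA_conjA y, ← conjA_conjA, h2, conjA_inv_conjA]

variable {p : ℕ} [Fact p.Prime] [CharP F p]

theorem centralizer_le_pairStab {Q : Subgroup G} {f : MonoidAlgebra F G} (h : IsPair p Q f) :
    Subgroup.centralizer (Q : Set G) ≤ pairStab Q f := fun y hy =>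
  ⟨Subgroup.centralizer_le_normalizer _ hy, conjFixed_iff.mp h.block.mem.fixed y hy⟩

theorem le_pairStab {Q : Subgroup G} {f : MonoidAlgebra F G} (h : IsPair p Q f) :
    Q ≤ pairStab Q f := fun y hy =>
  ⟨Subgroup.le_normalizer hy,
    conjFixed_iff.mp (suppIn_centralizer_conjFixed h.block.mem.supp) y hy⟩

theorem inf_normalizer_le_pairStab {Q P : Subgroup G} {f e : MonoidAlgebra F G}
    (hP : IsPair p P e) (h : SLE p Q f P e) :
    P ⊓ Subgroup.normalizer (Q : Set G) ≤ pairStab Q f := fun y hy => by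
  obtain ⟨g, hg⟩ := ns_of_sle hP h (le_inf h.le Subgroup.le_normalizer) inf_le_left inf_le_right
  exact ⟨hy.2, conjFixed_iff.mp hg.fix y hy⟩

theorem sle_conj_of_mem {Q P : Subgroup G} {f e : MonoidAlgebra F G} (hP : IsPair p P e)
    (h : SLE p Q f P e) {g : G} (hg : g ∈ P) : SLE p (conjSub g Q) (conjA g f) P e := by
  have h1 := h.conj g
  rwa [conjSub_eq_of_mem_normalizer (Subgroup.le_normalizer hg),
    conjFixed_iff.mp (suppIn_centralizer_conjFixed hP.block.mem.supp) g hg] at h1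

/-- The fusion system of a Brauer pair. -/
noncomputable def pairFusion (p : ℕ) [Fact p.Prime] [CharP F p] (P : Subgroup G)
    (e : MonoidAlgebra F G) (hP : IsPair p P e) : Cfsg.FusionSystem P where
  Hom Q := pairHom p P e Q
  le_of_mem := by
    rintro Q φ ⟨g, hg, f, h1, h2⟩
    exact ⟨h1.le, fun u => h2.le ⟨u, u.2, (hg u).symm⟩⟩
  injective_of_mem := by
    rintro Q φ ⟨g, hg, -⟩ a b hab
    rw [hg, hg] at hab
    exact Subtype.ext (mul_left_cancel (mul_right_cancel hab))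
  conj_mem := by
    intro Q g hQ hg
    obtain ⟨f, hf⟩ := (existsUnique_sle hP hQ).1
    exact ⟨g, fun u => rfl, f, hf, sle_conj_of_mem hP hf hg⟩
  comp_mem := by
    rintro Q R φ ψ ⟨g, hg, f, h1, h2⟩ ⟨k, hk, r, h3, h4⟩ h
    refine ⟨k * g, fun u => ?_, f, h1, ?_⟩
    · show ψ ⟨φ u, h u⟩ = _
      rw [hk]
      show k * φ u * k⁻¹ = _
      rw [hg]
      group
    · have hle : conjSub g Q ≤ R := by
        rintro _ ⟨u, hu, rfl⟩
        have := h ⟨u, hu⟩
        rwa [hg] at this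
      rw [← conjSub_conjSub, ← conjA_conjA]
      exact ((h2.factor hP h3 hle).conj k).trans h4
  inv_mem := by
    rintro Q φ ⟨g, hg, f, h1, h2⟩
    refine ⟨conjHom φ.range g⁻¹, ⟨g⁻¹, fun u => rfl, conjA g f, ?_, ?_⟩, fun u => ?_⟩
    · rw [range_eq_conjSub hg]; exact h2
    · rw [range_eq_conjSub hg, conjSub_conjSub, inv_mul_cancel, conjSub_one, conjA_inv_conjA]
      exact h1
    · show g⁻¹ * φ u * g⁻¹⁻¹ = u
      rw [hg]; group

theorem autGroup_pairFusion {P Q : Subgroup G} {e f : MonoidAlgebra F G} (hP : IsPair p P e)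
    (h : SLE p Q f P e) :
    (pairFusion p P e hP).autGroup Q = autInducedBy (pairStab Q f) Q := by
  ext α
  rw [CfsgLib.Fusion.mem_autGroup_iff_hom h.le, CfsgLib.Fusion.mem_autInducedBy_iff]
  constructor
  · rintro ⟨g, hg, f', h1, h2⟩
    have h1' := SLE.unique hP h1 h
    subst h1'
    have hgN : g ∈ Subgroup.normalizer (Q : Set G) := CfsgLib.Fusion.mem_normalizer_of_forall hg
    rw [conjSub_eq_of_mem_normalizer hgN] at h2
    exact ⟨g, ⟨hgN, SLE.unique hP h2 h⟩, hg⟩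
  · rintro ⟨g, hg, hα⟩
    refine ⟨g, hα, f, h, ?_⟩
    rwa [conjSub_eq_of_mem_normalizer hg.1, hg.2]

omit [Fact p.Prime] [CharP F p] in
theorem MaxIn.restrict {T L D E : Subgroup G} {a : MonoidAlgebra F G} (hD : MaxIn p T a D)
    (hE : MaxIn p L a E) (hDL : D ≤ L) (hLT : L ≤ T) : MaxIn p L a D := by
  obtain ⟨y, hy, hyle⟩ := hE.max D hDL hD.pgroup hD.ne_zero
  obtain ⟨z, -, hzle⟩ := hD.max E (hE.le.trans hLT) hE.pgroup hE.ne_zero
  have heq : conjSub y D = E := Subgroup.eq_of_le_of_card_ge hyle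
    ((card_map_conj z E).symm.le.trans
      ((Subgroup.card_le_of_le hzle).trans (card_map_conj y D).symm.le))
  refine ⟨hDL, hD.pgroup, hD.ne_zero, fun X hX hXp hne => ?_⟩
  obtain ⟨w, hw, hwle⟩ := hE.max X hX hXp hne
  refine ⟨y⁻¹ * w, L.mul_mem (L.inv_mem hy) hw, ?_⟩
  have := conjSub_mono y⁻¹ hwle
  rwa [← heq, conjSub_conjSub, conjSub_conjSub, inv_mul_cancel, conjSub_one] at this

theorem ns_sle_of_sle {Q S P : Subgroup G} {f e : MonoidAlgebra F G} (hPe : IsPair p P e)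
    (hle : SLE p Q f P e) (hQS : Q ≤ S) (hSP : S ≤ P)
    (hS : S ≤ Subgroup.normalizer (Q : Set G)) : ∃ g, NS p Q f S g ∧ SLE p S g P e := by
  obtain ⟨g, hg⟩ := (existsUnique_sle hPe hSP).1
  obtain ⟨f', hf'⟩ := exists_ns (hg.pair_left hPe) hQS hS
  exact ⟨g, SLE.unique hPe hle (hf'.sle.trans hg) ▸ hf', hg⟩

/-- Receptivity at a well-placed pair. -/
theorem isReceptive_of_maxIn {P Q : Subgroup G} {e f : MonoidAlgebra F G} (hP : IsPair p P e)
    (h : SLE p Q f P e)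
    (hD : MaxIn p (pairStab Q f) f (P ⊓ Subgroup.normalizer (Q : Set G)))
    (hmaxin : ∀ L : Subgroup G, IsBlockIdem L f → ∃ E, MaxIn p L f E) :
    (pairFusion p P e hP).IsReceptive Q := by
  refine ⟨h.le, ?_⟩
  rintro R φ ⟨g, hg, fR, h1, h2⟩ hr
  rw [range_eq_conjSub hg] at hr
  subst hr
  have hf := SLE.unique hP h2 h
  subst hf
  set Q := conjSub g R with hQdef
  set f := conjA g fR
  have hQp := h.pair_left hP
  set C := Subgroup.centralizer (Q : Set G) with hCdef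
  set D := P ⊓ Subgroup.normalizer (Q : Set G) with hDdef
  set L := C ⊔ D with hLdef
  set N := Cfsg.FusionSystem.extender P R φ with hNdef
  have hNN : N ≤ P ⊓ Subgroup.normalizer (R : Set G) := CfsgLib.Fusion.extender_le_normalizerIn φ
  have hRN : R ≤ N := CfsgLib.Fusion.le_extender h1.le fun u =>
    h2.le ⟨u, u.2, (hg u).symm⟩
  obtain ⟨r, hr', hrP⟩ :=
    ns_sle_of_sle hP h1 hRN (hNN.trans inf_le_left) (hNN.trans inf_le_right)
  have hLT : L ≤ pairStab Q f :=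
    sup_le (centralizer_le_pairStab hQp) (inf_normalizer_le_pairStab hP h)
  have hLN : L ≤ Subgroup.normalizer (Q : Set G) := fun y hy => (hLT hy).1
  have hXL : conjSub g N ≤ L := by
    rintro _ ⟨y, hy, rfl⟩
    obtain ⟨hyP, hyN, t, ht, htφ⟩ := CfsgLib.Fusion.mem_extender_iff.mp hy
    have hy' : g * y * g⁻¹ ∈ Subgroup.normalizer (Q : Set G) :=
      mem_normalizer_conjSub.mpr (by simpa [mul_assoc] using hyN)
    have hc : t⁻¹ * (g * y * g⁻¹) ∈ C := by
      refine Subgroup.mem_centralizer_iff.mpr ?_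
      rintro _ ⟨u, hu, rfl⟩
      have h3 := htφ ⟨u, hu⟩ (CfsgLib.Fusion.conj_mem_of_mem_normalizer hyN hu)
      rw [hg, hg] at h3
      show g * u * g⁻¹ * (t⁻¹ * (g * y * g⁻¹)) = t⁻¹ * (g * y * g⁻¹) * (g * u * g⁻¹)
      calc g * u * g⁻¹ * (t⁻¹ * (g * y * g⁻¹))
          = t⁻¹ * (t * (g * u * g⁻¹) * t⁻¹) * (g * y * g⁻¹) := by group
        _ = t⁻¹ * (g * (y * u * y⁻¹) * g⁻¹) * (g * y * g⁻¹) := by rw [h3]
        _ = t⁻¹ * (g * y * g⁻¹) * (g * u * g⁻¹) := by group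
    have htN : t ∈ Subgroup.normalizer (Q : Set G) := by
      have h4 := mul_mem hy' (inv_mem (Subgroup.centralizer_le_normalizer _ hc))
      simpa [mul_assoc] using h4
    show g * y * g⁻¹ ∈ L
    have h5 := L.mul_mem ((le_sup_right : D ≤ L) ⟨ht, htN⟩) ((le_sup_left : C ≤ L) hc)
    simpa [mul_assoc] using h5
  have hQD : Q ≤ D := le_inf h.le Subgroup.le_normalizer
  obtain ⟨d, hd, hdP⟩ := ns_sle_of_sle hP h hQD inf_le_left
    (inf_le_right : D ≤ Subgroup.normalizer (Q : Set G))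
  have hfix : ConjFixed L f := conjFixed_iff.mpr fun u hu => (hLT hu).2
  obtain ⟨E, hE⟩ := hmaxin L
    (isBlockIdem_of_stable hQp (hQD.trans le_sup_right) hLN le_sup_left hfix)
  obtain ⟨c, hc, hcle⟩ := exists_conj_sle_local (hQD.trans le_sup_right) le_sup_left hLN hfix
    (hD.restrict hE le_sup_right hLT) hd (hr'.conj g) hXL
  have hcmem : c ∈ (D : Set G) * (C : Set G) := by
    rw [← Subgroup.coe_mul_of_left_le_normalizer_right D C
      ((inf_le_right : D ≤ Subgroup.normalizer (Q : Set G)).trans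
        (normalizer_le_normalizer_centralizer Q)), sup_comm]
    exact hc
  obtain ⟨n, hn, c₁, hc₁, rfl⟩ := hcmem
  have hfin : SLE p (conjSub (c₁ * g) N) (conjA (c₁ * g) r) P e := by
    have h6 := sle_conj_of_mem hP (hcle.trans hdP) (P.inv_mem (show n ∈ P from hn.1))
    simp only [conjSub_conjSub, conjA_conjA] at h6
    rwa [show n⁻¹ * (n * c₁ * g) = c₁ * g by group] at h6
  refine ⟨conjHom N (c₁ * g), ⟨c₁ * g, fun u => rfl, r, hrP, hfin⟩, fun x hxR hxN => ?_⟩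
  show c₁ * g * x * (c₁ * g)⁻¹ = φ ⟨x, hxR⟩
  rw [hg]
  have h7 : g * x * g⁻¹ ∈ Q := ⟨x, hxR, rfl⟩
  have h8 := Subgroup.mem_centralizer_iff.mp hc₁ _ h7
  calc c₁ * g * x * (c₁ * g)⁻¹ = c₁ * (g * x * g⁻¹) * c₁⁻¹ := by group
    _ = g * x * g⁻¹ * c₁ * c₁⁻¹ := by rw [h8]
    _ = g * x * g⁻¹ := by group

end CfsgLib.Blocks.Pairs
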