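import Cfsg.Agent.Lib.Blocks.Pairs.Maximal
import Cfsg.Agent.Lib.Blocks.NormalPKernel
import Cfsg.Agent.Lib.Blocks.Pairs.Bridge

/-!
# Pairs inside local subgroups
-/

set_option autoImplicit false

namespace CfsgLib.Blocks.Pairs

open Cfsg CfsgLib.Blocks
open scoped Classical

universe u

variable {G : Type u} [Group G] [Finite G] {F : Type*} [Field F]

/-- The largest subgroup, up to conjugation in `K`, at which a Brauer image inside `K` is
nonzero. -/
structure MaxIn (p : ℕ) (K : Subgroup G) (a : MonoidAlgebra F G) (D : Subgroup G) : Prop where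
  le : D ≤ K
  pgroup : IsPGroup p D
  ne_zero : trunc D a ≠ 0
  max : ∀ R : Subgroup G, R ≤ K → IsPGroup p R → trunc R a ≠ 0 → ∃ y ∈ K, conjSub y R ≤ D

lemma conjA_fixed_of_sup {A B : Subgroup G} {a : MonoidAlgebra F G} (hA : ConjFixed A a)
    (hB : ConjFixed B a) : ConjFixed (A ⊔ B) a := by
  rw [conjFixed_iff] at hA hB ⊢
  let S : Subgroup G :=
    { carrier := {u | conjA u a = a}
      one_mem' := conjA_one a
      mul_mem' := fun {u v} hu hv => by
        show conjA (u * v) a = a
        rw [← conjA_conjA, hv, hu]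
      inv_mem' := fun {u} hu => by
        show conjA u⁻¹ a = a
        conv_lhs => rw [← hu, conjA_inv_conjA] }
  exact fun u hu => (sup_le (c := S) hA hB) hu

lemma trunc_sup_of_supp {Q R : Subgroup G} {a : MonoidAlgebra F G}
    (ha : SuppIn (Subgroup.centralizer (Q : Set G)) a) : trunc (Q ⊔ R) a = trunc R a := by
  ext x
  simp only [coeff_trunc]
  by_cases hx : x ∈ Subgroup.centralizer (R : Set G)
  · by_cases hxQ : x ∈ Subgroup.centralizer (Q : Set G)
    · have h : x ∈ Subgroup.centralizer ((Q ⊔ R : Subgroup G) : Set G) := by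
        rw [← CfsgLib.Blocks.le_centralizer_singleton_iff] at hx hxQ ⊢
        exact sup_le hxQ hx
      rw [if_pos hx, if_pos h]
    · rw [ha x hxQ]; simp
  · rw [if_neg hx, if_neg fun h => hx (centralizer_anti le_sup_right h)]

lemma MaxIn.conj {p : ℕ} {K : Subgroup G} {a : MonoidAlgebra F G} {D : Subgroup G}
    (h : MaxIn p K a D) (x : G) : MaxIn p (conjSub x K) (conjA x a) (conjSub x D) := by
  refine ⟨conjSub_mono x h.le, h.pgroup.map _, ?_, fun R hR hRp hne => ?_⟩
  · rw [trunc_conjA]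
    intro h0
    exact h.ne_zero (conjA_injective x (by rw [h0, conjA_zero]))
  · have e1 : conjSub x (conjSub x⁻¹ R) = R := by
      rw [conjSub_conjSub, mul_inv_cancel, conjSub_one]
    obtain ⟨y, hy, hle⟩ := h.max (conjSub x⁻¹ R) (by
      have := conjSub_mono x⁻¹ hR
      rwa [conjSub_conjSub, inv_mul_cancel, conjSub_one] at this) (hRp.map _) (fun h0 => hne (by
        rw [← e1, trunc_conjA, h0, conjA_zero]))
    refine ⟨x * y * x⁻¹, mem_conjSub.mpr (by simpa [mul_assoc] using hy), ?_⟩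
    have := conjSub_mono x hle
    rwa [conjSub_conjSub, conjSub_conjSub] at this

variable {p : ℕ} [Fact p.Prime] [CharP F p]

/-- Normal subgroups of `P` above `Q`: the Brauer image of the subpair at `Q` is nonzero. -/
lemma ns_of_sle {Q S P : Subgroup G} {f e : MonoidAlgebra F G} (hPe : IsPair p P e)
    (hle : SLE p Q f P e) (hQS : Q ≤ S) (hSP : S ≤ P)
    (hS : S ≤ Subgroup.normalizer (Q : Set G)) : ∃ g, NS p Q f S g := by
  obtain ⟨g, hg⟩ := (existsUnique_sle hPe hSP).1
  obtain ⟨f', hf'⟩ := exists_ns (hg.pair_left hPe) hQS hS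
  exact ⟨g, SLE.unique hPe hle (hf'.sle.trans hg) ▸ hf'⟩

lemma NS.trunc_ne_zero {Q P : Subgroup G} {f e : MonoidAlgebra F G} (h : NS p Q f P e) :
    trunc P f ≠ 0 := fun h0 => h.pairP.block.ne_zero (by rw [← h.br, h0, zero_mul])

/-- First half: `P ⊓ K` meets the Brauer image of the local block. -/
lemma trunc_inf_ne_zero {Q P K : Subgroup G} {f e : MonoidAlgebra F G} (hPe : IsPair p P e)
    (hle : SLE p Q f P e) (hKN : K ≤ Subgroup.normalizer (Q : Set G)) :
    trunc (P ⊓ K) f ≠ 0 := by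
  obtain ⟨g, hg⟩ := ns_of_sle hPe hle (le_sup_left (b := P ⊓ K)) (sup_le hle.le inf_le_left)
    (sup_le Subgroup.le_normalizer (inf_le_right.trans hKN))
  have := hg.trunc_ne_zero
  rwa [trunc_sup_of_supp (hle.pair_left hPe).block.mem.supp] at this

/-- Second half: after conjugation `P ⊓ K` is the largest subgroup. -/
theorem exists_conj_maxIn {Q P K D : Subgroup G} {B f e : MonoidAlgebra F G}
    (hP : PairOf p B P e) (hno : NoExt p P e) (hle : SLE p Q f P e)
    (hKN : K ≤ Subgroup.normalizer (Q : Set G)) (hCK : Subgroup.centralizer (Q : Set G) ≤ K)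
    (hKf : ConjFixed K f) (hD : MaxIn p K f D) :
    ∃ x : G, SLE p (conjSub x Q) (conjA x f) P e ∧
      MaxIn p (conjSub x K) (conjA x f) (P ⊓ conjSub x K) := by
  have hQf := hle.pair_left hP.pair
  have hsupp := hQf.block.mem.supp
  set S := Q ⊔ D with hSdef
  have hSp : IsPGroup p S :=
    hQf.pgroup.to_sup_of_normal_left' hD.pgroup (hD.le.trans hKN)
  have hSN : S ≤ Subgroup.normalizer (Q : Set G) :=
    sup_le Subgroup.le_normalizer (hD.le.trans hKN)
  have hfix : ConjFixed S f :=
    conjA_fixed_of_sup (suppIn_centralizer_conjFixed hsupp) (hKf.mono hD.le)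
  obtain ⟨h1, h2⟩ := trunc_idem hSp (le_sup_left : Q ≤ S) hQf.block.mem hfix hQf.block.idem
  obtain ⟨g, hg, hgf⟩ := exists_blockIdem_mul h1 h2
    (by rw [hSdef, trunc_sup_of_supp hsupp]; exact hD.ne_zero)
  have hns : NS p Q f S g := ⟨hQf, ⟨hSp, hg⟩, le_sup_left, hSN, hfix, hgf⟩
  obtain ⟨x, hx⟩ := exists_conj_sle hP hno (hns.pairOf_right (hle.pairOf_iff.mp hP))
  have hxQ : SLE p (conjSub x Q) (conjA x f) P e := (hns.conj x).sle.trans hx
  refine ⟨x, hxQ, ?_⟩
  have hxN : conjSub x K ≤ Subgroup.normalizer (conjSub x Q : Set G) := fun y hy =>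
    mem_normalizer_conjSub.mpr (hKN (mem_conjSub.mp hy))
  have hD' := hD.conj x
  refine ⟨inf_le_right, hP.pair.pgroup.to_le inf_le_left,
    trunc_inf_ne_zero hP.pair hxQ hxN, fun R hR hRp hne => ?_⟩
  obtain ⟨y, hy, hyle⟩ := hD'.max R hR hRp hne
  exact ⟨y, hy, hyle.trans (le_inf ((conjSub_mono x le_sup_right).trans hx.le) hD'.le)⟩

/-- A central idempotent of a group with a normal `p`-subgroup lives on its centralizer. -/
theorem suppIn_centralizer_of_idem_top {Q : Subgroup G} [hn : Q.Normal] (hQ : IsPGroup p Q)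
    {z : MonoidAlgebra F G} (hz : InCenter ⊤ z) (hi : z * z = z) :
    SuppIn (Subgroup.centralizer (Q : Set G)) z := by
  have hN : (⊤ : Subgroup G) ≤ Subgroup.normalizer (Q : Set G) :=
    (Subgroup.normalizer_eq_top (H := Q)).ge
  set w := trunc Q z with hw
  have hwc : InCenter ⊤ w := ⟨fun x hx => absurd trivial hx, trunc_conjFixed hN hz.fixed⟩
  have hwi : w * w = w := by
    rw [hw, ← trunc_mul hQ (hz.conjFixed_top Q) (hz.conjFixed_top Q), hi]
  set d := z - w with hd
  have hdc : InCenter ⊤ d := hz.sub hwc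
  have hzero : ∀ y ∈ Subgroup.centralizer (Q : Set G), d.coeff y = 0 := fun y hy => by
    simp [hd, hw, hy]
  obtain ⟨n, hn'⟩ := isNilpotent_of_cosetSum hQ (inCenter_top_iff.mp hdc)
    (cosetSum_eq_zero_of_centralizer (p := p) hQ (hdc.conjFixed_top Q) hzero)
  have hcomm : w * z = z * w := hwc.mul_comm hz
  have hzw : z * (z * w) = z * w := by rw [← mul_assoc, hi]
  have hzww : z * w * w = z * w := by rw [mul_assoc, hwi]
  have hd3 : d * d * d = d := by
    have hwzw : w * (z * w) = z * w := by rw [← mul_assoc, hcomm, mul_assoc, hwi]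
    simp only [hd, sub_mul, mul_sub, mul_assoc, hi, hwi, hcomm, hzw, hzww, hwzw]
    abel
  have hpow : ∀ k, d ^ (2 * k + 1) = d := by
    intro k
    induction k with
    | zero => simp
    | succ k ih =>
      rw [show 2 * (k + 1) + 1 = 2 * k + 1 + 2 by ring, pow_add, ih, pow_two, ← mul_assoc, hd3]
  have hd0 : d = 0 := by
    rw [← hpow n, show 2 * n + 1 = n + (n + 1) by ring, pow_add, hn', zero_mul]
  rw [sub_eq_zero.mp hd0]
  exact trunc_suppIn Q z

/-- The same inside a subgroup normalizing `Q`. -/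
theorem suppIn_centralizer_of_idem {Q T : Subgroup G} (hQ : IsPGroup p Q) (hQT : Q ≤ T)
    (hT : T ≤ Subgroup.normalizer (Q : Set G)) {z : MonoidAlgebra F G} (hz : InCenter T z)
    (hi : z * z = z) : SuppIn (Subgroup.centralizer (Q : Set G)) z := by
  haveI : (Q.subgroupOf T).Normal := Subgroup.normal_subgroupOf_of_le_normalizer hT
  have h := suppIn_centralizer_of_idem_top (Q := Q.subgroupOf T)
    (hQ.of_equiv (Subgroup.subgroupOfEquivOfLe hQT).symm) (inCenter_down hz)
    (up_injective T (by rw [up_mul, up_down hz.supp, hi]))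
  intro x hx
  by_cases hxT : x ∈ T
  · have h1 := h ⟨x, hxT⟩ fun hc => hx (Subgroup.mem_centralizer_iff.mpr fun q hq =>
      congrArg Subtype.val (Subgroup.mem_centralizer_iff.mp hc ⟨q, hQT hq⟩ hq))
    simpa using h1
  · exact hz.supp x hxT

/-- A block of the centralizer fixed by `T` is a block of `T`. -/
theorem isBlockIdem_of_stable {Q T : Subgroup G} {f : MonoidAlgebra F G} (hf : IsPair p Q f)
    (hQT : Q ≤ T) (hT : T ≤ Subgroup.normalizer (Q : Set G))
    (hCT : Subgroup.centralizer (Q : Set G) ≤ T) (hfix : ConjFixed T f) : IsBlockIdem T f :=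
  ⟨⟨hf.block.mem.supp.mono hCT, hfix⟩, hf.block.idem, hf.block.ne_zero, fun z hz hzi =>
    hf.block.prim z ⟨suppIn_centralizer_of_idem hf.pgroup hQT hT hz hzi,
      hz.fixed.mono hCT⟩ hzi⟩

end CfsgLib.Blocks.Pairs
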