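import Cfsg.Agent.Lib.Blocks.Pairs.Conj
import Mathlib.GroupTheory.Nilpotent
import Mathlib.Logic.Relation

/-!
# Inclusion of Brauer pairs: existence and uniqueness
-/

set_option autoImplicit false

namespace CfsgLib.Blocks.Pairs

open CfsgLib.Blocks
open scoped Classical

universe u v

variable {F : Type v} [Field F] {G : Type u} [Group G] [Finite G] {p : ℕ} [Fact p.Prime] [CharP F p]

/-- `(P, e)` is a Brauer pair. -/
structure IsPair (p : ℕ) (P : Subgroup G) (e : MonoidAlgebra F G) : Prop where
  pgroup : IsPGroup p P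
  block : IsBlockIdem (Subgroup.centralizer (P : Set G)) e

/-- Normal inclusion of Brauer pairs. -/
structure NS (p : ℕ) (Q : Subgroup G) (f : MonoidAlgebra F G) (P : Subgroup G)
    (e : MonoidAlgebra F G) : Prop where
  pairQ : IsPair p Q f
  pairP : IsPair p P e
  le : Q ≤ P
  norm : P ≤ Subgroup.normalizer (Q : Set G)
  fix : ConjFixed P f
  br : trunc P f * e = e

/-- Inclusion of Brauer pairs. -/
def SLE (p : ℕ) (Q : Subgroup G) (f : MonoidAlgebra F G) (P : Subgroup G)
    (e : MonoidAlgebra F G) : Prop :=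
  Relation.ReflTransGen (fun a b : Subgroup G × MonoidAlgebra F G => NS p a.1 a.2 b.1 b.2)
    (Q, f) (P, e)

omit [Fact p.Prime] [CharP F p] in
lemma SLE.trans {Q R P : Subgroup G} {f g e : MonoidAlgebra F G} (h : SLE p Q f R g)
    (h' : SLE p R g P e) : SLE p Q f P e :=
  Relation.ReflTransGen.trans h h'

omit [Fact p.Prime] [CharP F p] in
lemma SLE.refl (Q : Subgroup G) (f : MonoidAlgebra F G) : SLE p Q f Q f :=
  Relation.ReflTransGen.refl

omit [Fact p.Prime] [CharP F p] in
lemma NS.sle {Q P : Subgroup G} {f e : MonoidAlgebra F G} (h : NS p Q f P e) : SLE p Q f P e :=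
  Relation.ReflTransGen.single h

omit [Fact p.Prime] [CharP F p] in
lemma SLE.le {Q P : Subgroup G} {f e : MonoidAlgebra F G} (h : SLE p Q f P e) : Q ≤ P := by
  suffices ∀ a b : Subgroup G × MonoidAlgebra F G,
      Relation.ReflTransGen (fun a b : Subgroup G × MonoidAlgebra F G => NS p a.1 a.2 b.1 b.2) a b →
      a.1 ≤ b.1 from this _ _ h
  intro a b hab
  induction hab with
  | refl => exact le_rfl
  | tail _ hbc ih => exact ih.trans hbc.le

omit [Fact p.Prime] [CharP F p] in
lemma SLE.pair_left {Q P : Subgroup G} {f e : MonoidAlgebra F G} (h : SLE p Q f P e)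
    (he : IsPair p P e) : IsPair p Q f := by
  rcases Relation.ReflTransGen.cases_head h with h' | ⟨c, hc, -⟩
  · obtain ⟨rfl, rfl⟩ := Prod.ext_iff.mp h'; exact he
  · exact hc.pairQ

omit [Fact p.Prime] [CharP F p] in
lemma SLE.pair_right {Q P : Subgroup G} {f e : MonoidAlgebra F G} (h : SLE p Q f P e)
    (hf : IsPair p Q f) : IsPair p P e := by
  rcases Relation.ReflTransGen.cases_tail h with h' | ⟨c, -, hc⟩
  · obtain ⟨rfl, rfl⟩ := Prod.ext_iff.mp h'; exact hf
  · exact hc.pairP

omit [Fact p.Prime] [CharP F p] in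
/-- A proper inclusion starts with a proper normal inclusion. -/
lemma SLE.exists_head {Q P : Subgroup G} {f e : MonoidAlgebra F G} (h : SLE p Q f P e)
    (hne : Q ≠ P) : ∃ R g, Q < R ∧ NS p Q f R g ∧ SLE p R g P e := by
  suffices ∀ a : Subgroup G × MonoidAlgebra F G,
      Relation.ReflTransGen (fun a b : Subgroup G × MonoidAlgebra F G => NS p a.1 a.2 b.1 b.2)
        a (P, e) → a.1 ≠ P → ∃ R g, a.1 < R ∧ NS p a.1 a.2 R g ∧ SLE p R g P e from this _ h hne
  intro a ha
  induction ha using Relation.ReflTransGen.head_induction_on with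
  | refl => exact fun h => absurd rfl h
  | head hab hbc ih =>
    rename_i a b
    intro hne
    rcases lt_or_eq_of_le hab.le with hlt | heq
    · exact ⟨b.1, b.2, hlt, hab, hbc⟩
    · obtain ⟨R, g, hR, hns, hle⟩ := ih (heq ▸ hne)
      -- same subgroup: the idempotents agree
      have hb : b.2 = a.2 := by
        have h1 := hab.br
        rw [trunc_eq_self (heq ▸ hab.pairQ.block.mem.supp)] at h1
        have h2 : a.2 * b.2 ≠ 0 := by rw [h1]; exact hab.pairP.block.ne_zero
        exact (hab.pairQ.block.eq_of_mul_ne_zero (heq ▸ hab.pairP.block) h2).symm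
      exact ⟨R, g, heq ▸ hR, by rw [heq, ← hb]; exact hns, hle⟩

/-- The `P`-fixed members of a `P`-stable set carry the truncation of its sum. -/
lemma trunc_sum_fixed {P : Subgroup G} (hP : IsPGroup p P) (S : Finset (MonoidAlgebra F G))
    (hS : ∀ u ∈ P, ∀ f ∈ S, conjA u f ∈ S) :
    trunc P (∑ f ∈ S, f) = ∑ f ∈ S.filter (fun f => ConjFixed P f), trunc P f := by
  ext c
  rw [coeff_trunc, MonoidAlgebra.coeff_sum, MonoidAlgebra.coeff_sum, Finsupp.finsetSum_apply,
    Finsupp.finsetSum_apply]
  by_cases hc : c ∈ Subgroup.centralizer (P : Set G)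
  · rw [if_pos hc, Finset.sum_congr rfl (fun f _ => (by simp [hc] :
      (trunc P f).coeff c = f.coeff c))]
    letI : MulAction P {f // f ∈ S} :=
      { smul := fun u f => ⟨conjA (u : G) f.1, hS _ u.2 _ f.2⟩
        one_smul := fun f => Subtype.ext (conjA_one f.1)
        mul_smul := fun u w f => Subtype.ext (conjA_conjA (u : G) (w : G) f.1).symm }
    have h1 : ∀ (u : P) (f : {f // f ∈ S}), ((u • f : {f // f ∈ S}) : MonoidAlgebra F G).coeff c
        = (f : MonoidAlgebra F G).coeff c := by
      intro u f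
      show (conjA (u : G) f.1).coeff c = _
      rw [coeff_conjA]
      congr 1
      rw [mul_assoc, ← Subgroup.mem_centralizer_iff.mp hc _ u.2, inv_mul_cancel_left]
    rw [← Finset.sum_coe_sort S, sum_eq_sum_fixed hP _ h1]
    refine Finset.sum_bij (fun f _ => f.1) ?_ (fun a _ b _ h => Subtype.ext h) ?_ (fun _ _ => rfl)
    · intro f hf
      simp only [Finset.mem_filter, Finset.mem_univ, true_and] at hf
      exact Finset.mem_filter.mpr ⟨f.2, conjFixed_iff.mpr fun u hu => congrArg Subtype.val (hf ⟨u, hu⟩)⟩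
    · intro f hf
      obtain ⟨hfS, hfix⟩ := Finset.mem_filter.mp hf
      refine ⟨⟨f, hfS⟩, ?_, rfl⟩
      simp only [Finset.mem_filter, Finset.mem_univ, true_and]
      exact fun u => Subtype.ext (conjFixed_iff.mp hfix _ u.2)
  · rw [if_neg hc]
    exact (Finset.sum_eq_zero fun f _ => by simp [hc]).symm

lemma conjA_mem_blks {H : Subgroup G} {x : G} (hx : x ∈ Subgroup.normalizer (H : Set G))
    {f : MonoidAlgebra F G} (hf : f ∈ blks H) : conjA x f ∈ blks H :=
  mem_blks.mpr ((mem_blks.mp hf).conj_of_normalizer hx)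

/-- The truncation of a `P`-invariant idempotent, as a central idempotent of the centralizer. -/
lemma trunc_idem {Q P : Subgroup G} (hP : IsPGroup p P) (hQP : Q ≤ P) {a : MonoidAlgebra F G}
    (ha : InCenter (Subgroup.centralizer (Q : Set G)) a) (hfix : ConjFixed P a) (hi : a * a = a) :
    InCenter (Subgroup.centralizer (P : Set G)) (trunc P a) ∧
      trunc P a * trunc P a = trunc P a :=
  ⟨trunc_inCenter (ha.fixed.mono (centralizer_anti hQP)), by rw [← trunc_mul hP hfix hfix, hi]⟩

/-- Existence of the normal subpair. -/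
theorem exists_ns {Q P : Subgroup G} {e : MonoidAlgebra F G} (he : IsPair p P e) (hQP : Q ≤ P)
    (hN : P ≤ Subgroup.normalizer (Q : Set G)) : ∃ f, NS p Q f P e := by
  by_contra hc
  push Not at hc
  apply he.block.ne_zero
  rw [← one_mul e, ← trunc_one P, ← sum_blks (F := F) (Subgroup.centralizer (Q : Set G)),
    trunc_sum_fixed he.pgroup _
      (fun u hu f hf => conjA_mem_blks (normalizer_le_normalizer_centralizer Q (hN hu)) hf),
    Finset.sum_mul]
  refine Finset.sum_eq_zero fun f hf => ?_
  obtain ⟨hf, hfix⟩ := Finset.mem_filter.mp hf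
  rw [mem_blks] at hf
  obtain ⟨h1, h2⟩ := trunc_idem he.pgroup hQP hf.mem hfix hf.idem
  exact (he.block.prim _ h1 h2).resolve_left fun h =>
    hc f ⟨⟨he.pgroup.to_le hQP, hf⟩, he, hQP, hN, hfix, h⟩

/-- Uniqueness of the normal subpair. -/
theorem NS.unique {Q P : Subgroup G} {f f' e : MonoidAlgebra F G} (h : NS p Q f P e)
    (h' : NS p Q f' P e) : f = f' := by
  by_contra hne
  have h0 : trunc P f * trunc P f' = 0 := by
    rw [← trunc_mul h.pairP.pgroup h.fix h'.fix, h.pairQ.block.mul_eq_zero h'.pairQ.block hne,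
      trunc_zero]
  apply h.pairP.block.ne_zero
  calc e = trunc P f * (trunc P f' * e) := by rw [h'.br, h.br]
    _ = 0 := by rw [← mul_assoc, h0, zero_mul]

/-- Normal inclusions compose below the normalizer of the bottom group. -/
theorem NS.comp {Q R S : Subgroup G} {f g h : MonoidAlgebra F G} (h1 : NS p Q f R g)
    (h2 : NS p R g S h) (hS : S ≤ Subgroup.normalizer (Q : Set G)) : NS p Q f S h := by
  obtain ⟨f'', h3⟩ := exists_ns h2.pairP (h1.le.trans h2.le) hS
  suffices NS p Q f'' R g by rw [h1.unique this]; exact h3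
  have hfixR : ConjFixed R f'' := h3.fix.mono h2.le
  refine ⟨h3.pairQ, h1.pairP, h1.le, h1.norm, hfixR, ?_⟩
  obtain ⟨hc, hi⟩ := trunc_idem h1.pairP.pgroup h1.le h3.pairQ.block.mem hfixR h3.pairQ.block.idem
  refine (h1.pairP.block.prim _ hc hi).resolve_right fun h0 => h2.pairP.block.ne_zero ?_
  have hfS : ConjFixed S (trunc R f'') := trunc_conjFixed h2.norm h3.fix
  calc h = trunc S f'' * (trunc S g * h) := by rw [h2.br, h3.br]
    _ = trunc S (trunc R f'') * trunc S g * h := by rw [trunc_trunc h2.le, mul_assoc]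
    _ = 0 := by rw [← trunc_mul h2.pairP.pgroup hfS h2.fix, h0, trunc_zero, zero_mul]

lemma NS.comp_sle {Q R S : Subgroup G} {f g h : MonoidAlgebra F G} (h1 : NS p Q f R g)
    (h2 : SLE p R g S h) (hS : S ≤ Subgroup.normalizer (Q : Set G)) : NS p Q f S h := by
  suffices ∀ b : Subgroup G × MonoidAlgebra F G,
      Relation.ReflTransGen (fun a b : Subgroup G × MonoidAlgebra F G => NS p a.1 a.2 b.1 b.2)
        (R, g) b → b.1 ≤ Subgroup.normalizer (Q : Set G) → NS p Q f b.1 b.2 from this _ h2 hS
  intro b hb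
  induction hb with
  | refl => exact fun _ => h1
  | tail _ hbc ih => exact fun hS => (ih (hbc.le.trans hS)).comp hbc hS

omit [CharP F p] in
lemma lt_inf_normalizer {Q P : Subgroup G} (hP : IsPGroup p P) (h : Q < P) :
    Q < P ⊓ Subgroup.normalizer (Q : Set G) := by
  haveI : Group.IsNilpotent P := hP.isNilpotent
  refine lt_of_le_of_ne (le_inf h.le Subgroup.le_normalizer) fun heq => ?_
  have hne : Q.subgroupOf P < ⊤ := lt_top_iff_ne_top.mpr fun ht =>
    h.not_ge (Subgroup.subgroupOf_eq_top.mp ht)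
  obtain ⟨u, hu, huQ⟩ :=
    SetLike.exists_of_lt ((Group.normalizerCondition_of_isNilpotent (G := P)) _ hne)
  apply huQ
  have hun : (u : G) ∈ Subgroup.normalizer (Q : Set G) := by
    rw [Subgroup.mem_normalizer_iff]
    intro w
    have key := fun hw : w ∈ P => Subgroup.mem_normalizer_iff.1 hu ⟨w, hw⟩
    constructor
    · intro hw; exact (key (h.le hw)).1 hw
    · intro hw
      have hwP : w ∈ P := by
        have h2 := mul_mem (mul_mem (inv_mem u.2) (h.le hw)) u.2
        simpa [mul_assoc] using h2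
      exact (key hwP).2 hw
  show (u : G) ∈ Q
  rw [heq]; exact ⟨u.2, hun⟩

omit [Fact p.Prime] [CharP F p] in
lemma card_lt_of_lt {Q P : Subgroup G} (h : Q < P) : Nat.card Q < Nat.card P :=
  lt_of_le_of_ne (Subgroup.card_le_of_le h.le) fun he =>
    h.ne (Subgroup.eq_of_le_of_card_ge h.le he.ge)

/-- Below a pair there is exactly one pair on each subgroup. -/
theorem existsUnique_sle {Q P : Subgroup G} {e : MonoidAlgebra F G} (he : IsPair p P e)
    (hQP : Q ≤ P) : (∃ f, SLE p Q f P e) ∧ ∀ f f', SLE p Q f P e → SLE p Q f' P e → f = f' := by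
  generalize hn : Nat.card P - Nat.card Q = n
  induction n using Nat.strong_induction_on generalizing Q P e with
  | _ n ih =>
    rcases eq_or_lt_of_le hQP with heq | hlt
    · subst heq
      refine ⟨⟨e, SLE.refl _ _⟩, fun f f' hf hf' => ?_⟩
      have key : ∀ g, SLE p Q g Q e → g = e := by
        intro g hg
        rcases Relation.ReflTransGen.cases_tail hg with h | ⟨c, hc1, hc⟩
        · exact (Prod.ext_iff.mp h).2.symm
        · by_contra hne
          suffices ∀ a, Relation.ReflTransGen
              (fun a b : Subgroup G × MonoidAlgebra F G => NS p a.1 a.2 b.1 b.2) a (Q, e) →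
              a.1 = Q → a.2 = e from hne (this _ hg rfl)
          intro a ha
          induction ha using Relation.ReflTransGen.head_induction_on with
          | refl => exact fun _ => rfl
          | head hab hbc ih =>
            rename_i a b
            intro haQ
            have hbQ : b.1 = Q := le_antisymm (SLE.le hbc) (haQ ▸ hab.le)
            have h1 := hab.br
            rw [trunc_eq_self (hbQ ▸ haQ ▸ hab.pairQ.block.mem.supp)] at h1
            have h2 : a.2 * b.2 ≠ 0 := by rw [h1]; exact hab.pairP.block.ne_zero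
            rw [← ih hbQ]
            exact (haQ ▸ hab.pairQ.block).eq_of_mul_ne_zero (hbQ ▸ hab.pairP.block) h2
      rw [key f hf, key f' hf']
    have hlt' := lt_inf_normalizer he.pgroup hlt
    obtain ⟨N, hNP, hNn, hNdef⟩ : ∃ N, N ≤ P ∧ N ≤ Subgroup.normalizer (Q : Set G) ∧
        P ⊓ Subgroup.normalizer (Q : Set G) = N := ⟨_, inf_le_left, inf_le_right, rfl⟩
    rw [hNdef] at hlt'
    have hc1 := card_lt_of_lt hlt'
    have hc2 := Subgroup.card_le_of_le hNP
    have hm1 : Nat.card P - Nat.card N < n := by omega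
    obtain ⟨⟨g, hg⟩, hguniq⟩ := ih _ hm1 he hNP rfl
    have hgpair := hg.pair_left he
    obtain ⟨f0, hf0⟩ := exists_ns hgpair hlt'.le hNn
    refine ⟨⟨f0, hf0.sle.trans hg⟩, ?_⟩
    suffices key : ∀ f, SLE p Q f P e → f = f0 from fun f f' hf hf' => (key f hf).trans (key f' hf').symm
    intro f hf
    obtain ⟨R, r, hQR, hns, hle⟩ := hf.exists_head hlt.ne
    have hRN : R ≤ N := hNdef ▸ le_inf hle.le hns.norm
    have hc3 := card_lt_of_lt hQR
    have hc4 := Subgroup.card_le_of_le hRN
    obtain ⟨⟨r', hr'⟩, -⟩ := ih (Nat.card N - Nat.card R) (by omega) hgpair hRN rfl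
    obtain ⟨-, huniq⟩ := ih (Nat.card P - Nat.card R) (by omega) he hle.le rfl
    rw [huniq r' r (hr'.trans hg) hle] at hr'
    exact (hns.comp_sle hr' hNn).unique hf0

theorem SLE.unique {Q P : Subgroup G} {f f' e : MonoidAlgebra F G} (he : IsPair p P e)
    (h : SLE p Q f P e) (h' : SLE p Q f' P e) : f = f' :=
  (existsUnique_sle he h.le).2 f f' h h'

/-- Inclusion of pairs restricts to intermediate groups. -/
theorem SLE.factor {Q R P : Subgroup G} {f g e : MonoidAlgebra F G} (he : IsPair p P e)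
    (hf : SLE p Q f P e) (hg : SLE p R g P e) (hQR : Q ≤ R) : SLE p Q f R g := by
  obtain ⟨f', hf'⟩ := (existsUnique_sle (hg.pair_left he) hQR).1
  rwa [SLE.unique he hf (hf'.trans hg)]

omit [Fact p.Prime] [CharP F p] in
lemma IsPair.conj {P : Subgroup G} {e : MonoidAlgebra F G} (h : IsPair p P e) (x : G) :
    IsPair p (conjSub x P) (conjA x e) :=
  ⟨h.pgroup.map _, h.block.conj_centralizer x⟩

omit [Fact p.Prime] [CharP F p] in
lemma NS.conj {Q P : Subgroup G} {f e : MonoidAlgebra F G} (h : NS p Q f P e) (x : G) :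
    NS p (conjSub x Q) (conjA x f) (conjSub x P) (conjA x e) := by
  refine ⟨h.pairQ.conj x, h.pairP.conj x, conjSub_mono x h.le, fun y hy => ?_, fun u hu y => ?_, ?_⟩
  · exact mem_normalizer_conjSub.mpr (h.norm (mem_conjSub.mp hy))
  · simp only [coeff_conjA]
    rw [← h.fix _ (mem_conjSub.mp hu) (x⁻¹ * y * x)]
    congr 1
    group
  · rw [trunc_conjA, ← conjA_mul, h.br]

omit [Fact p.Prime] [CharP F p] in
lemma SLE.conj {Q P : Subgroup G} {f e : MonoidAlgebra F G} (h : SLE p Q f P e) (x : G) :
    SLE p (conjSub x Q) (conjA x f) (conjSub x P) (conjA x e) :=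
  by
  suffices ∀ b : Subgroup G × MonoidAlgebra F G,
      Relation.ReflTransGen (fun a b : Subgroup G × MonoidAlgebra F G => NS p a.1 a.2 b.1 b.2)
        (Q, f) b → SLE p (conjSub x Q) (conjA x f) (conjSub x b.1) (conjA x b.2) from this _ h
  intro b hb
  induction hb with
  | refl => exact SLE.refl _ _
  | tail _ hbc ih => exact ih.trans (hbc.conj x).sle

end CfsgLib.Blocks.Pairs
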